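import Cfsg.Agent.GH.A7.Perm

/-!
# `A₇`, `|Q| = 2`: basic facts, the frame of a Sylow 2-subgroup of `C(y)`
-/

set_option autoImplicit false

namespace Cfsg.Agent.GH.A7

open Subgroup Equiv.Perm
open Cfsg.Agent.GH.TOne
open Cfsg.Agent.GH.L2One.A7 (ρ γ ζ τ)

variable {G : Type*} [Group G]

theorem comm_mul {a b y : G} (ha : a * y = y * a) (hb : b * y = y * b) : a * b * y = y * (a * b) := by
  rw [mul_assoc, hb, ← mul_assoc, ha, mul_assoc]

theorem comm_inv {a y : G} (ha : a * y = y * a) : a⁻¹ * y = y * a⁻¹ := by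
  have h : Commute a y := ha
  exact h.inv_left.eq

namespace Sys

variable {X : Set G} {K : G → Subgroup G} {σ : G → G → S7} (h : Sys X K σ) {y : G}
include h

theorem one (hy : y ∈ X) : σ y 1 = 1 := by
  have := h.mul y hy 1 1 (by simp) (by simp)
  rw [mul_one] at this
  exact mul_left_cancel (this.symm.trans (mul_one _).symm)

theorem minv (hy : y ∈ X) {a : G} (ha : a * y = y * a) : σ y a⁻¹ = (σ y a)⁻¹ := by
  have := h.mul y hy a⁻¹ a (comm_inv ha) ha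
  rw [inv_mul_cancel, h.one hy] at this
  exact eq_inv_of_mul_eq_one_left this.symm

theorem mconj (hy : y ∈ X) {a b : G} (ha : a * y = y * a) (hb : b * y = y * b) :
    σ y (a * b * a⁻¹) = σ y a * σ y b * (σ y a)⁻¹ := by
  rw [h.mul y hy _ _ (comm_mul ha hb) (comm_inv ha), h.mul y hy _ _ ha hb, h.minv hy ha]

theorem conjK_self (hy : y ∈ X) {g k : G} (hg : g * y = y * g) (hk : k ∈ K y) : g * k * g⁻¹ ∈ K y := by
  have := h.conjK y hy g k hk
  have e : g * y * g⁻¹ = y := by rw [hg]; group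
  rwa [e] at this

/-- elements of `K y` with trivial image have odd order -/
theorem odd_ker [Finite G] (hy : y ∈ X) {k : G} (hk : k ∈ K y) (h1 : σ y k = 1) : Odd (orderOf k) := by
  by_contra hodd
  rw [Nat.not_odd_iff_even] at hodd
  obtain ⟨m, hm⟩ := hodd
  have hpos := orderOf_pos k
  have h2 : ∀ n : ℕ, σ y (k ^ n) = 1 := by
    intro n
    induction n with
    | zero => rw [pow_zero, h.one hy]
    | succ n ih =>
      have hc : k ^ n * y = y * k ^ n := h.centK y hy _ (pow_mem hk n)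
      rw [pow_succ, h.mul y hy _ _ hc (h.centK y hy k hk), ih, h1, one_mul]
  have h3 : k ^ m * k ^ m = 1 := by rw [← pow_add, ← hm, pow_orderOf_eq_one]
  have h4 := h.eqK y hy (k ^ m) (pow_mem hk m) (h2 m) (isPGroup_zpowers_of_sq h3)
  have h5 := orderOf_dvd_of_pow_eq_one h4
  have h6 := Nat.le_of_dvd (by omega) h5
  omega

/-- involutions in the same coset of `K y` with conjugate images -/
theorem conj_lift [Finite G] (hy : y ∈ X) {a a' : G} (ha : a * y = y * a) (ha' : a' * y = y * a')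
    (haa : a * a = 1) (haa' : a' * a' = 1) (hK : a' * a ∈ K y) {π : S7} (hs : sign π = 1)
    (hπ : π * σ y a * π⁻¹ = σ y a') : ∃ k ∈ K y, k * a * k⁻¹ = a' := by
  obtain ⟨k1, hk1, hk1s⟩ := h.onto y hy π hs
  have hk1y := h.centK y hy k1 hk1
  have ha1y : k1 * a * k1⁻¹ * y = y * (k1 * a * k1⁻¹) := comm_mul (comm_mul hk1y ha) (comm_inv hk1y)
  have ha1s : σ y (k1 * a * k1⁻¹) = σ y a' := by rw [h.mconj hy hk1y ha, hk1s, hπ]
  have hainv : a⁻¹ = a := inv_eq_of_sq haa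
  obtain ⟨z, hz⟩ : ∃ z, z = a' * (k1 * a * k1⁻¹) := ⟨_, rfl⟩
  have hzK : z ∈ K y := by
    have h1 : a * k1⁻¹ * a⁻¹ ∈ K y := h.conjK_self hy ha (inv_mem hk1)
    have e : z = (a' * a) * (a * k1 * a⁻¹) * (a * a) * k1⁻¹ := by
      rw [hz, haa]
      calc a' * (k1 * a * k1⁻¹) = a' * (a * a) * k1 * a * k1⁻¹ := by rw [haa]; group
        _ = _ := by rw [hainv]; group
    rw [e, haa, mul_one]
    refine mul_mem (mul_mem hK ?_) (inv_mem hk1)
    have := inv_mem h1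
    have e2 : (a * k1⁻¹ * a⁻¹)⁻¹ = a * k1 * a⁻¹ := by group
    rwa [e2] at this
  have hzs : σ y z = 1 := by
    rw [hz, h.mul y hy _ _ ha' ha1y, ha1s, ← h.mul y hy _ _ ha' ha', haa', h.one hy]
  have hodd := h.odd_ker hy hzK hzs
  obtain ⟨m, hm⟩ := hodd
  -- `a1 z a1⁻¹ = z⁻¹`
  obtain ⟨a1, ha1⟩ : ∃ a1, a1 = k1 * a * k1⁻¹ := ⟨_, rfl⟩
  have ha11 : a1 * a1 = 1 := by
    rw [ha1]
    calc k1 * a * k1⁻¹ * (k1 * a * k1⁻¹) = k1 * (a * a) * k1⁻¹ := by group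
      _ = 1 := by rw [haa]; group
  have ha1i : a1⁻¹ = a1 := inv_eq_of_sq ha11
  rw [← ha1] at hz
  have hinv : a1 * z * a1⁻¹ = z⁻¹ := by
    rw [hz, ha1i]
    calc a1 * (a' * a1) * a1 = a1 * a' * (a1 * a1) := by group
      _ = a1⁻¹ * a'⁻¹ := by rw [ha11, mul_one, ha1i, inv_eq_of_sq haa']
      _ = (a' * a1)⁻¹ := by group
  have hz2 : z ^ (m + 1) * z ^ (m + 1) = z := by
    rw [← pow_add]
    have : m + 1 + (m + 1) = (2 * m + 1) + 1 := by ring
    rw [this, ← hm, pow_succ, pow_orderOf_eq_one, one_mul]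
  refine ⟨z ^ (m + 1) * k1, mul_mem (pow_mem hzK _) hk1, ?_⟩
  have h1 : a1 * (z ^ (m + 1))⁻¹ * a1⁻¹ = z ^ (m + 1) := by
    have h2 : a1 * (z ^ (m + 1))⁻¹ * a1⁻¹ = ((a1 * z * a1⁻¹) ^ (m + 1))⁻¹ := by
      rw [conj_pow]; group
    rw [h2, hinv, inv_pow, inv_inv]
  calc z ^ (m + 1) * k1 * a * (z ^ (m + 1) * k1)⁻¹ = z ^ (m + 1) * (k1 * a * k1⁻¹) * (z ^ (m + 1))⁻¹ := by group
    _ = z ^ (m + 1) * (a1 * (z ^ (m + 1))⁻¹ * a1⁻¹) * a1 := by rw [← ha1]; group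
    _ = z * a1 := by rw [h1, hz2]
    _ = a' := by rw [hz, mul_assoc, ha11, mul_one]

end Sys

/-- The frame of a Sylow 2-subgroup `T` of `C(y)`. -/
structure Fr (X : Set G) (K : G → Subgroup G) (σ : G → G → S7) (y : G) (T : Subgroup G) (φ : G → S7) :
    Prop where
  mem : y ∈ X
  syl : SylC y T
  phi : ∃ π : S7, ∀ a : G, a * y = y * a → φ a = π * σ y a * π⁻¹
  form : ∀ a ∈ T, ∃ i : Fin 4, ∃ j k : Fin 2, φ a = el i j k
  ex : ∀ i : Fin 4, ∀ j : Fin 2, ∃ d ∈ T, d ∈ K y ∧ φ d = el i j 0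

theorem Sys.exists_fr [Finite G] {X : Set G} {K : G → Subgroup G} {σ : G → G → S7} (h : Sys X K σ)
    {y : G} {T : Subgroup G} (hy : y ∈ X) (hT : SylC y T) : ∃ φ, Fr X K σ y T φ := by
  have : Fact (Nat.Prime 2) := ⟨Nat.prime_two⟩
  -- the preimage of `S0` in `K y`
  let H : Subgroup G :=
    { carrier := {k | k ∈ K y ∧ σ y k ∈ S0}
      one_mem' := ⟨one_mem _, by rw [h.one hy]; exact one_mem _⟩
      mul_mem' := by
        rintro a b ⟨ha, ha'⟩ ⟨hb, hb'⟩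
        exact ⟨mul_mem ha hb, by
          rw [h.mul y hy _ _ (h.centK y hy a ha) (h.centK y hy b hb)]; exact mul_mem ha' hb'⟩
      inv_mem' := by
        rintro a ⟨ha, ha'⟩
        exact ⟨inv_mem ha, by rw [h.minv hy (h.centK y hy a ha)]; exact inv_mem ha'⟩ }
  let f : ↥H →* ↥S0 :=
    { toFun := fun k => ⟨σ y k, k.2.2⟩
      map_one' := Subtype.ext (h.one hy)
      map_mul' := fun a b => Subtype.ext (h.mul y hy _ _ (h.centK y hy a a.2.1) (h.centK y hy b b.2.1)) }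
  have hf : Function.Surjective f := by
    rintro ⟨s, hs⟩
    obtain ⟨k, hk, hks⟩ := h.onto y hy s (S0_even hs)
    exact ⟨⟨k, hk, by rw [hks]; exact hs⟩, Subtype.ext hks⟩
  obtain ⟨R⟩ : Nonempty (Sylow 2 ↥H) := inferInstance
  have hR : ∀ s : ↥S0, ∃ r ∈ (R : Subgroup ↥H), f r = s := by
    intro s
    have h1 : (Sylow.mapSurjective hf R : Subgroup ↥S0) = ⊤ := by
      have h2 := (Sylow.mapSurjective hf R).is_maximal' (isPGroup_S0.of_equiv Subgroup.topEquiv.symm) le_top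
      exact h2.symm
    have h3 : s ∈ (Sylow.mapSurjective hf R : Subgroup ↥S0) := by rw [h1]; trivial
    rw [Sylow.coe_mapSurjective] at h3
    obtain ⟨r, hr, hrs⟩ := h3
    exact ⟨r, hr, hrs⟩
  let R' : Subgroup G := (R : Subgroup ↥H).map H.subtype
  have hR' : IsPGroup 2 R' := R.2.map _
  have hR'K : ∀ r ∈ R', r ∈ K y := by
    rintro _ ⟨r, -, rfl⟩
    exact r.2.1
  obtain ⟨T', hT', hle⟩ := exists_sylC (y := y) hR' (fun r hr => h.centK y hy r (hR'K r hr))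
  obtain ⟨c, hc, hcT⟩ := hT'.exists_conj hT
  have key : ∀ s ∈ S0, ∃ d ∈ T, d ∈ K y ∧ (σ y c)⁻¹ * σ y d * ((σ y c)⁻¹)⁻¹ = s := by
    intro s hs
    obtain ⟨r, hr, hrs⟩ := hR ⟨s, hs⟩
    have hr' : (r : G) ∈ R' := ⟨r, hr, rfl⟩
    have hrK := hR'K _ hr'
    refine ⟨c * r * c⁻¹, ?_, h.conjK_self hy hc hrK, ?_⟩
    · rw [← hcT, mem_map_conj]
      have e : c⁻¹ * (c * (r : G) * c⁻¹) * c = r := by group
      rw [e]
      exact hle hr'
    · rw [h.mconj hy hc (h.centK y hy _ hrK)]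
      have h1 : σ y r = s := congrArg Subtype.val hrs
      rw [h1]; group
  refine ⟨fun a => (σ y c)⁻¹ * σ y a * ((σ y c)⁻¹)⁻¹, hy, hT, ⟨(σ y c)⁻¹, fun a _ => rfl⟩, ?_, ?_⟩
  · intro a ha
    let P : Subgroup S7 :=
      { carrier := {p | ∃ t ∈ T, p = (σ y c)⁻¹ * σ y t * ((σ y c)⁻¹)⁻¹}
        one_mem' := ⟨1, one_mem _, by rw [h.one hy]; group⟩
        mul_mem' := by
          rintro _ _ ⟨a, ha, rfl⟩ ⟨b, hb, rfl⟩
          exact ⟨a * b, mul_mem ha hb, by rw [h.mul y hy _ _ (hT.cent a ha) (hT.cent b hb)]; group⟩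
        inv_mem' := by
          rintro _ ⟨a, ha, rfl⟩
          exact ⟨a⁻¹, inv_mem ha, by rw [h.minv hy (hT.cent a ha)]; group⟩ }
    have hP : IsPGroup 2 P := by
      rintro ⟨p, a, ha, rfl⟩
      obtain ⟨n, hn⟩ := hT.two ⟨a, ha⟩
      refine ⟨n, Subtype.ext ?_⟩
      have hn' : a ^ 2 ^ n = 1 := congrArg Subtype.val hn
      have hpow : ∀ m : ℕ, σ y (a ^ m) = σ y a ^ m := by
        intro m
        induction m with
        | zero => rw [pow_zero, pow_zero, h.one hy]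
        | succ m ih => rw [pow_succ, h.mul y hy _ _ (hT.cent _ (pow_mem ha m)) (hT.cent a ha), ih, pow_succ]
      change ((σ y c)⁻¹ * σ y a * ((σ y c)⁻¹)⁻¹) ^ 2 ^ n = 1
      rw [conj_pow, ← hpow, hn', h.one hy]
      group
    refine form_of_le hP ?_ (a := _) ⟨a, ha, rfl⟩
    intro s hs
    obtain ⟨d, hd, -, hds⟩ := key s hs
    exact ⟨d, hd, hds.symm⟩
  · intro i j
    exact key _ ⟨i, j, rfl⟩

end Cfsg.Agent.GH.A7
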