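import Cfsg.Agent.GH.TOne.Basic
import Cfsg.Agent.Lib.ModFour
import Cfsg.Agent.Lib.Dihedral

/-!
# THEOREM BETA (section 7 of `blueprints/GH-L2-A7.md`), by counting modulo 4

`T = D × ⟨x⟩` is a Sylow 2-subgroup of `C(x)`, `D` dihedral of order 8, the involutions of `D` are conjugate in `C(x)`,
not conjugate to `x`, and `x ~ xc`, `c ∈ Z(D)`. Then `G` has a subgroup of index two.

Proof: `|x^G| ≡ |x^G ∩ C(x)| (mod 4)`; the orbits of length at most 2 of `T` on `x^G ∩ C(x)` lie in `T`, so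
`|x^G ∩ C(x)| ≡ 6 (mod 4)`. But `N_G(⟨x⟩U₁)` is transitive on `xU₁`, so `4 ∣ |G : C(x)|`.
-/

set_option autoImplicit false
set_option Elab.async false

namespace Cfsg.Agent.GH.A7.Beta

open Subgroup Cfsg.Agent.GH.TOne Cfsg.Agent.Lib

/-- `D₈ × 2` -/
abbrev C := DihedralGroup 4 × Multiplicative (ZMod 2)

/-- the central element of order 2 of the dihedral factor -/
def cc : C := (DihedralGroup.r 2, 1)
/-- the element of the second factor -/
def xx : C := (1, Multiplicative.ofAdd 1)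
/-- `u₁` -/
def a1 : C := (DihedralGroup.sr 0, 1)
/-- `u₂` -/
def a2 : C := (DihedralGroup.sr 1, 1)

theorem comm_cc : ∀ a b : C, a * b * a⁻¹ * b⁻¹ = 1 ∨ a * b * a⁻¹ * b⁻¹ = cc := by decide +kernel

theorem center_C : ∀ z : C, (∀ a : C, a * z = z * a) → z = 1 ∨ z = xx ∨ z = cc ∨ z = xx * cc := by
  decide +kernel

theorem not_comm : a1 * a2 ≠ a2 * a1 := by decide +kernel

variable {G : Type*} [Group G]

/-- The hypotheses. -/
structure Loc (x : G) (T : Subgroup G) (φ : C →* G) : Prop where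
  inj : Function.Injective φ
  range : φ.range = T
  ex : φ xx = x
  syl : SylC x T
  r1 : ∃ r, r * x = x * r ∧ r * φ cc * r⁻¹ = φ a1 ∧ r * φ a1 * r⁻¹ = φ (cc * a1)
  r2 : ∃ r, r * x = x * r ∧ r * φ cc * r⁻¹ = φ a2 ∧ r * φ a2 * r⁻¹ = φ (cc * a2)
  conj : IsConj x (φ (xx * cc))
  not : ¬ IsConj x (φ cc)

variable {x : G} {T : Subgroup G} {φ : C →* G}

theorem Loc.mem (L : Loc x T φ) (z : C) : φ z ∈ T := by
  rw [← L.range]; exact ⟨z, rfl⟩

theorem Loc.exists_eq (L : Loc x T φ) {g : G} (hg : g ∈ T) : ∃ z, φ z = g := by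
  rw [← L.range] at hg; exact hg

theorem Loc.sq (L : Loc x T φ) : x * x = 1 := by
  rw [← L.ex, ← map_mul]
  have : xx * xx = 1 := by decide +kernel
  rw [this, map_one]

theorem Loc.ne (L : Loc x T φ) : x ≠ 1 := by
  rw [← L.ex]
  intro h
  have := L.inj (h.trans (map_one φ).symm)
  exact absurd this (by decide +kernel)

theorem Loc.card (L : Loc x T φ) : Nat.card T = 16 := by
  rw [← L.range, ← Nat.card_congr (MonoidHom.ofInjective L.inj).toEquiv, Nat.card_eq_fintype_card]
  decide +kernel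

theorem IsConj.of_eq {a b g : G} (h : g * a * g⁻¹ = b) : IsConj a b := isConj_iff.2 ⟨g, h⟩

/-- the conjugates of `x` in `T` -/
def good (z : C) : Prop := z.2 ≠ 1 ∧ z.1 * z.1 = 1

instance : DecidablePred good := fun z => inferInstanceAs (Decidable (z.2 ≠ 1 ∧ z.1 * z.1 = 1))

theorem good_cases : ∀ z : C, good z ↔
    z = xx ∨ z = xx * cc ∨ z = xx * a1 ∨ z = xx * (cc * a1) ∨ z = xx * a2 ∨ z = xx * (cc * a2) := by
  decide +kernel

theorem bad_cases : ∀ z : C, ¬ good z → z * z = 1 →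
    z = 1 ∨ z = cc ∨ z = a1 ∨ z = cc * a1 ∨ z = a2 ∨ z = cc * a2 := by
  decide +kernel

theorem card_good : Fintype.card {z : C // good z} = 6 := by decide +kernel

theorem conj_self {r y : G} (h : r * y = y * r) : r * y * r⁻¹ = y := by rw [h]; group

theorem conj_mul {r y z y' z' : G} (h1 : r * y * r⁻¹ = y') (h2 : r * z * r⁻¹ = z') :
    r * (y * z) * r⁻¹ = y' * z' := by
  rw [← h1, ← h2]; group

theorem cc_mul_cc : cc * cc = 1 := by decide +kernel
theorem a1_mul_a1 : a1 * a1 = 1 := by decide +kernel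
theorem a2_mul_a2 : a2 * a2 = 1 := by decide +kernel

/-- `r₁ (cu₁) r₁⁻¹ = c` -/
theorem cyc {r : G} {a : C} (hac : a * cc = cc * a) (haa : a * a = 1) (h1 : r * φ cc * r⁻¹ = φ a)
    (h2 : r * φ a * r⁻¹ = φ (cc * a)) : r * φ (cc * a) * r⁻¹ = φ cc := by
  rw [map_mul, conj_mul h1 h2, ← map_mul]
  congr 1
  calc a * (cc * a) = (a * a) * cc := by rw [← hac, mul_assoc]
    _ = cc := by rw [haa, one_mul]

theorem Loc.conj_iff (L : Loc x T φ) (z : C) : IsConj x (φ z) ↔ good z := by
  obtain ⟨r, hr, h1, h2⟩ := L.r1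
  obtain ⟨s, hs, k1, k2⟩ := L.r2
  have hx : r * φ xx * r⁻¹ = φ xx := by rw [L.ex]; exact conj_self hr
  have hxs : s * φ xx * s⁻¹ = φ xx := by rw [L.ex]; exact conj_self hs
  constructor
  · intro h
    by_contra hg
    have hzz : z * z = 1 := by
      apply L.inj
      obtain ⟨g, hg⟩ := isConj_iff.1 h
      rw [map_mul, map_one, ← hg]
      calc g * x * g⁻¹ * (g * x * g⁻¹) = g * (x * x) * g⁻¹ := by group
        _ = 1 := by rw [L.sq]; group
    have hc1 : IsConj (φ cc) (φ a1) := IsConj.of_eq h1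
    have hc2 : IsConj (φ cc) (φ a2) := IsConj.of_eq k1
    have hc3 : IsConj (φ a1) (φ (cc * a1)) := IsConj.of_eq h2
    have hc4 : IsConj (φ a2) (φ (cc * a2)) := IsConj.of_eq k2
    rcases bad_cases z hg hzz with rfl | rfl | rfl | rfl | rfl | rfl
    · rw [map_one, isConj_one_left] at h
      exact L.ne h
    · exact L.not h
    · exact L.not (h.trans hc1.symm)
    · exact L.not ((h.trans hc3.symm).trans hc1.symm)
    · exact L.not (h.trans hc2.symm)
    · exact L.not ((h.trans hc4.symm).trans hc2.symm)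
  · intro h
    have e1 : IsConj (φ (xx * cc)) (φ (xx * a1)) := IsConj.of_eq (g := r) (by
      rw [map_mul, map_mul]; exact conj_mul hx h1)
    have e2 : IsConj (φ (xx * a1)) (φ (xx * (cc * a1))) := IsConj.of_eq (g := r) (by
      rw [map_mul φ xx a1, map_mul φ xx (cc * a1)]; exact conj_mul hx h2)
    have e3 : IsConj (φ (xx * cc)) (φ (xx * a2)) := IsConj.of_eq (g := s) (by
      rw [map_mul, map_mul]; exact conj_mul hxs k1)
    have e4 : IsConj (φ (xx * a2)) (φ (xx * (cc * a2))) := IsConj.of_eq (g := s) (by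
      rw [map_mul φ xx a2, map_mul φ xx (cc * a2)]; exact conj_mul hxs k2)
    rcases (good_cases z).1 h with rfl | rfl | rfl | rfl | rfl | rfl
    · rw [L.ex]
    · exact L.conj
    · exact L.conj.trans e1
    · exact (L.conj.trans e1).trans e2
    · exact L.conj.trans e3
    · exact (L.conj.trans e3).trans e4

/-- **The claim**: a conjugate `y ∉ T` of `x` (any involution) commuting with `x` does not commute with a subgroup of
index at most 2 of `T`. -/
theorem Loc.claim [Finite G] (L : Loc x T φ) {y : G} (hyy : y * y = 1) (hyx : y * x = x * y) (hyT : y ∉ T)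
    {T₁ : Subgroup G} (hle : T₁ ≤ T) (h8 : 8 ≤ Nat.card T₁) (hc : ∀ g ∈ T₁, g * y = y * g) : False := by
  have : Fact (Nat.Prime 2) := ⟨Nat.prime_two⟩
  have hy1 : y ∉ T₁ := fun h => hyT (hle h)
  have hyn : zpowers y ≤ normalizer (T₁ : Set G) := by
    rw [zpowers_le, mem_normalizer_iff]
    intro g
    constructor
    · intro hg
      have e : y * g * y⁻¹ = g := by rw [← hc g hg]; group
      rw [e]; exact hg
    · intro hg
      have h1 := hc _ hg
      have e : y * g * y⁻¹ = g := by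
        have h2 : y * g * y⁻¹ * y = y * (y * g * y⁻¹) := h1
        have h3 : y * g = y * (y * g * y⁻¹) := by rw [← h2]; group
        exact (mul_left_cancel h3).symm
      rw [← e]; exact hg
  have hpT : IsPGroup 2 T₁ := L.syl.two.to_le hle
  have hpy : IsPGroup 2 (zpowers y) := isPGroup_zpowers_of_sq hyy
  have hP : IsPGroup 2 (T₁ ⊔ zpowers y : Subgroup G) := hpT.to_sup_of_normal_left' hpy hyn
  have hPc : ∀ g ∈ (T₁ ⊔ zpowers y : Subgroup G), g * x = x * g := by
    have hle' : (T₁ ⊔ zpowers y : Subgroup G) ≤ centralizer ({x} : Set G) := by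
      rw [sup_le_iff, zpowers_le]
      exact ⟨fun t ht => mem_centralizer_singleton_iff.2 (L.syl.cent t (hle ht)),
        mem_centralizer_singleton_iff.2 hyx⟩
    exact fun t ht => mem_centralizer_singleton_iff.1 (hle' ht)
  set P : Subgroup G := T₁ ⊔ zpowers y with hPdef
  have hyP : y ∈ P := mem_sup_right (mem_zpowers y)
  have hT1P : T₁ ≤ P := le_sup_left
  have hlt : T₁ < P := lt_of_le_of_ne hT1P fun h => hy1 (h ▸ hyP)
  have hcP := L.syl.max P hP hPc
  rw [L.card] at hcP
  -- `|P| = 16`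
  have hdvd : Nat.card T₁ ∣ Nat.card P := card_dvd_of_le hT1P
  have hcard : Nat.card P = 16 := by
    obtain ⟨k, hk⟩ := hdvd
    have hk1 : k ≠ 1 := by
      rintro rfl
      rw [mul_one] at hk
      exact hlt.ne (eq_of_le_of_card_ge hT1P hk.le)
    have hk0 : k ≠ 0 := by
      rintro rfl
      rw [mul_zero] at hk
      exact Nat.card_pos.ne' hk
    have : 2 ≤ k := by omega
    nlinarith
  -- `y` is central in `P`
  have hyPc : ∀ g ∈ P, g * y = y * g := by
    have hle' : P ≤ centralizer ({y} : Set G) := by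
      rw [hPdef, sup_le_iff, zpowers_le]
      exact ⟨fun t ht => mem_centralizer_singleton_iff.2 (hc t ht), mem_centralizer_singleton_iff.2 rfl⟩
    exact fun t ht => mem_centralizer_singleton_iff.1 (hle' ht)
  have hS : SylC x P := ⟨hP, hPc, fun R hR hRc => by
    rw [hcard, ← L.card]; exact L.syl.max R hR hRc⟩
  obtain ⟨m, hm, hmT⟩ := L.syl.exists_conj hS
  have hmem : ∀ g : G, g ∈ P ↔ m⁻¹ * g * m ∈ T := by
    intro g; rw [← hmT, mem_map_conj]
  have hx' : m⁻¹ * x * m = x := by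
    have : x * m = m * x := hm.symm
    calc m⁻¹ * x * m = m⁻¹ * (x * m) := by group
      _ = x := by rw [this]; group
  -- `P` is not abelian
  have hPna : ¬ ∀ g ∈ P, ∀ h ∈ P, g * h = h * g := by
    intro hab
    apply not_comm
    apply L.inj
    rw [map_mul, map_mul]
    have k1 : m * φ a1 * m⁻¹ ∈ P := by
      rw [hmem]
      have e : m⁻¹ * (m * φ a1 * m⁻¹) * m = φ a1 := by group
      rw [e]; exact L.mem a1
    have k2 : m * φ a2 * m⁻¹ ∈ P := by
      rw [hmem]
      have e : m⁻¹ * (m * φ a2 * m⁻¹) * m = φ a2 := by group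
      rw [e]; exact L.mem a2
    have h3 := hab _ k1 _ k2
    calc φ a1 * φ a2 = m⁻¹ * (m * φ a1 * m⁻¹ * (m * φ a2 * m⁻¹)) * m := by group
      _ = m⁻¹ * (m * φ a2 * m⁻¹ * (m * φ a1 * m⁻¹)) * m := by rw [h3]
      _ = φ a2 * φ a1 := by group
  -- so `T₁` is not abelian
  have hT1na : ∃ g ∈ T₁, ∃ h ∈ T₁, g * h ≠ h * g := by
    by_contra hab
    push Not at hab
    apply hPna
    have h1 : T₁ ≤ centralizer (T₁ : Set G) := by
      intro g hg
      rw [mem_centralizer_iff]
      intro h hh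
      exact hab h hh g hg
    have h2 : P ≤ centralizer (T₁ : Set G) := by
      rw [hPdef, sup_le_iff, zpowers_le]
      exact ⟨h1, mem_centralizer_iff.2 fun g hg => hc g hg⟩
    have h3 : P ≤ centralizer (P : Set G) := by
      rw [le_centralizer_iff]
      rw [hPdef, sup_le_iff, zpowers_le]
      exact ⟨by rw [le_centralizer_iff]; exact h2, mem_centralizer_iff.2 fun g hg => hyPc g hg⟩
    intro g hg h hh
    exact mem_centralizer_iff.1 (h3 hh) g hg
  obtain ⟨a, ha, b, hb, hab⟩ := hT1na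
  have hne : a * b * a⁻¹ * b⁻¹ ≠ 1 := by
    intro h
    apply hab
    calc a * b = (a * b * a⁻¹ * b⁻¹) * (b * a) := by group
      _ = b * a := by rw [h, one_mul]
  have e1 : a * b * a⁻¹ * b⁻¹ = φ cc := by
    obtain ⟨a', rfl⟩ := L.exists_eq (hle ha)
    obtain ⟨b', rfl⟩ := L.exists_eq (hle hb)
    rw [← map_inv, ← map_inv, ← map_mul, ← map_mul, ← map_mul] at hne ⊢
    rcases comm_cc a' b' with h | h
    · rw [h, map_one] at hne; exact absurd rfl hne
    · rw [h]
  have e2 : a * b * a⁻¹ * b⁻¹ = m * φ cc * m⁻¹ := by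
    obtain ⟨a', ha'⟩ := L.exists_eq ((hmem a).1 (hT1P ha))
    obtain ⟨b', hb'⟩ := L.exists_eq ((hmem b).1 (hT1P hb))
    have h1 : a * b * a⁻¹ * b⁻¹ = m * φ (a' * b' * a'⁻¹ * b'⁻¹) * m⁻¹ := by
      rw [map_mul, map_mul, map_mul, map_inv, map_inv, ha', hb']
      group
    rcases comm_cc a' b' with h | h
    · exfalso
      rw [h, map_one] at h1
      apply hne
      rw [h1]; group
    · rw [h1, h]
  have hcm : m⁻¹ * φ cc * m = φ cc := by
    rw [e1] at e2
    calc m⁻¹ * φ cc * m = m⁻¹ * (m * φ cc * m⁻¹) * m := by rw [← e2]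
      _ = φ cc := by group
  -- `y` is in `m Z(T) m⁻¹ = Z(T)`
  obtain ⟨z, hz⟩ := L.exists_eq ((hmem y).1 hyP)
  have hzc : ∀ a : C, a * z = z * a := by
    intro a
    apply L.inj
    rw [map_mul, map_mul, hz]
    have k1 : m * φ a * m⁻¹ ∈ P := by
      rw [hmem]
      have e : m⁻¹ * (m * φ a * m⁻¹) * m = φ a := by group
      rw [e]; exact L.mem a
    have h3 := hyPc _ k1
    calc φ a * (m⁻¹ * y * m) = m⁻¹ * (m * φ a * m⁻¹ * y) * m := by group
      _ = m⁻¹ * (y * (m * φ a * m⁻¹)) * m := by rw [h3]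
      _ = m⁻¹ * y * m * φ a := by group
  have hy : y = m * φ z * m⁻¹ := by rw [hz]; group
  have hx'' : m * x * m⁻¹ = x := conj_self hm
  have hcm' : m * φ cc * m⁻¹ = φ cc := by rw [← e2, e1]
  apply hyT
  rcases center_C z hzc with rfl | rfl | rfl | rfl
  · rw [hy, map_one]
    have : m * 1 * m⁻¹ = 1 := by group
    rw [this]; exact one_mem _
  · rw [hy, L.ex, hx'', ← L.ex]; exact L.mem _
  · rw [hy, hcm']; exact L.mem _
  · rw [hy, map_mul, L.ex, conj_mul hx'' hcm', ← L.ex, ← map_mul]; exact L.mem _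

/-! ### (b) -/

/-- `|x^G ∩ C(x)| ≡ 6 (mod 4)` -/
theorem Loc.modEq [Finite G] (L : Loc x T φ) :
    Nat.card {y : G // IsConj x y ∧ y * x = x * y} ≡ 2 [MOD 4] := by
  classical
  set A : Set G := {y : G | IsConj x y ∧ y * x = x * y} with hA
  have h1 : Nat.card {y : G // IsConj x y ∧ y * x = x * y} = A.ncard := (Nat.card_coe_set_eq A).symm ▸ rfl
  have h2 := Set.ncard_inter_add_ncard_sdiff_eq_ncard A (T : Set G) (Set.toFinite A)
  -- the part in `T`
  have h3 : (A ∩ (T : Set G)).ncard = 6 := by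
    have e : A ∩ (T : Set G) = φ '' {z : C | good z} := by
      ext y
      constructor
      · rintro ⟨⟨hy, -⟩, hyT⟩
        obtain ⟨z, rfl⟩ := L.exists_eq hyT
        exact ⟨z, (L.conj_iff z).1 hy, rfl⟩
      · rintro ⟨z, hz, rfl⟩
        exact ⟨⟨(L.conj_iff z).2 hz, L.syl.cent _ (L.mem z)⟩, L.mem z⟩
    rw [e, Set.ncard_image_of_injective _ L.inj, ← Nat.card_coe_set_eq]
    rw [Nat.card_eq_fintype_card]
    exact card_good
  -- the part outside `T`
  have h4 : 4 ∣ (A \ (T : Set G)).ncard := by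
    rw [← Nat.card_coe_set_eq]
    let act : MulAction T ↥(A \ (T : Set G)) :=
      { smul := fun t y => ⟨t * y * (t : G)⁻¹, by
          obtain ⟨y, ⟨hy, hyx⟩, hyT⟩ := y
          have ht := L.syl.cent t t.2
          refine ⟨⟨hy.trans (isConj_iff.2 ⟨t, rfl⟩), ?_⟩, ?_⟩
          · have hti : (t : G)⁻¹ * x = x * (t : G)⁻¹ := L.syl.cent _ (inv_mem t.2)
            calc (t : G) * y * (t : G)⁻¹ * x = t * y * ((t : G)⁻¹ * x) := by group
              _ = t * (y * x) * (t : G)⁻¹ := by rw [hti]; group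
              _ = (t * x) * y * (t : G)⁻¹ := by rw [hyx]; group
              _ = x * ((t : G) * y * (t : G)⁻¹) := by rw [ht]; group
          · intro h
            apply hyT
            have h5 : (t : G)⁻¹ * (t * y * (t : G)⁻¹) * t ∈ T := mul_mem (mul_mem (inv_mem t.2) h) t.2
            have e : (t : G)⁻¹ * (t * y * (t : G)⁻¹) * t = y := by group
            rwa [e] at h5⟩
        one_smul := fun y => Subtype.ext (by
          show ((1 : T) : G) * y * ((1 : T) : G)⁻¹ = y
          rw [OneMemClass.coe_one]; group)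
        mul_smul := fun s t y => Subtype.ext (by
          show ((s * t : T) : G) * y * ((s * t : T) : G)⁻¹ = s * (t * y * (t : G)⁻¹) * (s : G)⁻¹
          rw [Subgroup.coe_mul]; group) }
    apply ModFour.four_dvd_card (P := T) L.syl.two
    intro y
    by_contra hlt
    push Not at hlt
    have hmul := (MulAction.stabilizer T y).card_mul_index
    rw [L.card] at hmul
    have h8 : 8 ≤ Nat.card (MulAction.stabilizer T y) := by
      have h0 : (MulAction.stabilizer T y).index ≠ 0 := index_ne_zero_of_finite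
      interval_cases hi : (MulAction.stabilizer T y).index
      · exact absurd rfl h0
      · omega
      · omega
    have hyy : (y : G) * y = 1 := by
      obtain ⟨g, hg⟩ := isConj_iff.1 y.2.1.1
      rw [← hg]
      calc g * x * g⁻¹ * (g * x * g⁻¹) = g * (x * x) * g⁻¹ := by group
        _ = 1 := by rw [L.sq]; group
    refine L.claim hyy y.2.1.2 y.2.2 (T₁ := (MulAction.stabilizer T y).map T.subtype) (map_subtype_le _) ?_ ?_
    · rw [card_map_of_injective (subtype_injective _)]; exact h8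
    · rintro _ ⟨t, ht, rfl⟩
      have h5 : t • y = y := ht
      have h6 : (t : G) * y * (t : G)⁻¹ = y := congrArg Subtype.val h5
      rw [mul_inv_eq_iff_eq_mul] at h6
      exact h6
  rw [h1, ← h2, h3]
  obtain ⟨k, hk⟩ := h4
  rw [hk]
  show (6 + 4 * k) % 4 = 2 % 4
  omega

/-! ### (c) -/

theorem SylC.odd [Finite G] {y : G} {T : Subgroup G} (h : SylC y T) :
    ¬ 2 ∣ T.relIndex (centralizer ({y} : Set G)) := by
  have : Fact (Nat.Prime 2) := ⟨Nat.prime_two⟩
  set D := centralizer ({y} : Set G) with hD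
  have hle : T ≤ D := fun x hx => mem_centralizer_singleton_iff.2 (h.cent x hx)
  have hP' : IsPGroup 2 (T.subgroupOf D) := h.two.comap_of_injective _ (subtype_injective _)
  obtain ⟨S, hS⟩ := hP'.exists_le_sylow
  have e : (S : Subgroup D).map D.subtype = T := by
    apply h.eq_of_le (S.2.map _)
    · rintro _ ⟨x, -, rfl⟩
      exact mem_centralizer_singleton_iff.1 x.2
    · intro x hx
      exact ⟨⟨x, hle hx⟩, hS (mem_subgroupOf.2 hx), rfl⟩
  have e2 : T.subgroupOf D = (S : Subgroup D) := by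
    rw [← e]
    exact comap_map_eq_self_of_injective (subtype_injective _) _
  show ¬ 2 ∣ (T.subgroupOf D).index
  rw [e2]
  exact S.not_dvd_index

/-- If `N` contains `T` and the `N`-orbit of `x` has length divisible by 4, then so has the class. -/
theorem four_dvd_index [Finite G] (h : SylC x T) {N : Subgroup G} (hTN : T ≤ N)
    (h4 : 4 ∣ {y : G | ∃ n ∈ N, n * x * n⁻¹ = y}.ncard) : 4 ∣ (centralizer ({x} : Set G)).index := by
  classical
  set D := centralizer ({x} : Set G) with hD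
  have hle : T ≤ D := fun x hx => mem_centralizer_singleton_iff.2 (h.cent x hx)
  -- the orbit
  have h1 : (D ⊓ N).relIndex N = {y : G | ∃ n ∈ N, n * x * n⁻¹ = y}.ncard := by
    let act : MulAction N G := MulAction.compHom G ((MulAut.conj : G →* MulAut G).comp N.subtype)
    have hsm : ∀ (n : N) (y : G), n • y = (n : G) * y * (n : G)⁻¹ := fun n y => rfl
    have e1 := MulAction.index_stabilizer N x
    have e2 : MulAction.stabilizer N x = (D ⊓ N).subgroupOf N := by
      ext n
      rw [MulAction.mem_stabilizer_iff, hsm, mem_subgroupOf, mem_inf, hD, mem_centralizer_singleton_iff,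
        mul_inv_eq_iff_eq_mul]
      exact ⟨fun h => ⟨h, n.2⟩, fun h => h.1⟩
    have e3 : MulAction.orbit N x = {y : G | ∃ n ∈ N, n * x * n⁻¹ = y} := by
      ext y
      constructor
      · rintro ⟨n, rfl⟩
        exact ⟨n, n.2, rfl⟩
      · rintro ⟨n, hn, rfl⟩
        exact ⟨⟨n, hn⟩, rfl⟩
    rw [relIndex, ← e2, e1, e3]
  have h2 : (D ⊓ N).relIndex N * N.index = (D ⊓ N).index := relIndex_mul_index inf_le_right
  have h3 : (D ⊓ N).relIndex D * D.index = (D ⊓ N).index := relIndex_mul_index inf_le_left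
  have h5 : T.relIndex (D ⊓ N) * (D ⊓ N).relIndex D = T.relIndex D :=
    relIndex_mul_relIndex T (D ⊓ N) D (le_inf hle hTN) inf_le_left
  have h6 : ¬ 2 ∣ (D ⊓ N).relIndex D := fun h7 => SylC.odd h (by rw [← h5]; exact h7.mul_left _)
  rw [← h1] at h4
  have h8 : 4 ∣ (D ⊓ N).relIndex D * D.index := by
    rw [h3, ← h2]; exact h4.mul_right _
  have h9 : Nat.Coprime 4 ((D ⊓ N).relIndex D) := by
    have : Nat.Coprime 2 ((D ⊓ N).relIndex D) := (Nat.Prime.coprime_iff_not_dvd Nat.prime_two).2 h6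
    exact Nat.Coprime.pow_left 2 this
  exact h9.dvd_of_dvd_mul_left h8

theorem exists_normalising [Finite G] (h : SylC x T) {y g : G} (hy : g * x * g⁻¹ = y)
    (hc : ∀ t ∈ T, t * y = y * t) : ∃ n, n * x * n⁻¹ = y ∧ T.map (MulAut.conj n).toMonoidHom = T := by
  have h1 : SylC y T := h.of_conj hy hc
  have h2 : SylC y (T.map (MulAut.conj g).toMonoidHom) := by
    have := h.conj g
    rwa [hy] at this
  obtain ⟨m, hm, hmT⟩ := h2.exists_conj h1
  refine ⟨m * g, ?_, Eq.trans ?_ hmT⟩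
  · calc m * g * x * (m * g)⁻¹ = m * (g * x * g⁻¹) * m⁻¹ := by group
      _ = m * y * m⁻¹ := by rw [hy]
      _ = y := conj_self hm
  · ext u
    rw [mem_map_conj, mem_map_conj, mem_map_conj]
    have e : (m * g)⁻¹ * u * (m * g) = g⁻¹ * (m⁻¹ * u * m) * g := by group
    rw [e]

theorem mem_normalizer_closure [Finite G] {S : Set G} {h : G} (hS : ∀ s ∈ S, h * s * h⁻¹ ∈ closure S) :
    h ∈ normalizer (closure S : Set G) := by
  have h1 : (closure S).map (MulAut.conj h).toMonoidHom ≤ closure S := by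
    rw [MonoidHom.map_closure, closure_le]
    rintro _ ⟨s, hs, rfl⟩
    exact hS s hs
  have h2 : (closure S).map (MulAut.conj h).toMonoidHom = closure S :=
    eq_of_le_of_card_ge h1 (card_map_of_injective (MulAut.conj h).injective).ge
  rw [mem_normalizer_iff]
  intro t
  constructor
  · intro ht
    exact h1 ⟨t, ht, rfl⟩
  · intro ht
    have h3 : h * t * h⁻¹ ∈ (closure S).map (MulAut.conj h).toMonoidHom := by rw [h2]; exact ht
    rw [mem_map_conj] at h3
    have e : h⁻¹ * (h * t * h⁻¹) * h = t := by group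
    rwa [e] at h3

theorem cent_a1 : ∀ w : C, w * a1 = a1 * w → w = 1 ∨ w = xx ∨ w = cc ∨ w = a1 ∨ w = xx * cc ∨ w = xx * a1 ∨
    w = cc * a1 ∨ w = xx * (cc * a1) := by decide +kernel

theorem card_orb : Fintype.card {z : C // z * a1 = a1 * z ∧ good z} = 4 := by decide +kernel

theorem orb_cases : ∀ z : C, z * a1 = a1 * z → good z →
    z = xx ∨ z = xx * cc ∨ z = xx * a1 ∨ z = xx * (cc * a1) := by decide +kernel

theorem conj_cent : ∀ z w : C, w * a1 = a1 * w → (z * w * z⁻¹) * a1 = a1 * (z * w * z⁻¹) := by decide +kernel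

theorem xc_comm : ∀ z : C, z * (xx * cc) = (xx * cc) * z := by decide +kernel

theorem comm_a : a1 * a2 * a1⁻¹ * a2⁻¹ = cc := by decide +kernel

theorem not_good_a1 : ¬ good a1 := by decide +kernel

theorem a1_ne_one : a1 ≠ 1 := by decide +kernel
theorem a1_ne_cc : a1 ≠ cc := by decide +kernel
theorem cc_ne_one : cc ≠ 1 := by decide +kernel

/-- The four-group-like subgroup `⟨x, c, u₁⟩`. -/
def E (φ : C →* G) : Subgroup G := closure {φ xx, φ cc, φ a1}

theorem mem_E {w : C} (h : w * a1 = a1 * w) : φ w ∈ E φ := by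
  have h1 : φ xx ∈ E φ := subset_closure (by simp)
  have h2 : φ cc ∈ E φ := subset_closure (by simp)
  have h3 : φ a1 ∈ E φ := subset_closure (by simp)
  rcases cent_a1 w h with rfl | rfl | rfl | rfl | rfl | rfl | rfl | rfl
  · rw [map_one]; exact one_mem _
  · exact h1
  · exact h2
  · exact h3
  · rw [map_mul]; exact mul_mem h1 h2
  · rw [map_mul]; exact mul_mem h1 h3
  · rw [map_mul]; exact mul_mem h2 h3
  · rw [map_mul, map_mul]; exact mul_mem h1 (mul_mem h2 h3)

theorem exists_of_mem_E {g : G} (hg : g ∈ E φ) : ∃ w : C, w * a1 = a1 * w ∧ φ w = g := by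
  have hle : E φ ≤ (centralizer ({a1} : Set C)).map φ := by
    rw [E, closure_le]
    rintro _ (rfl | rfl | rfl)
    · exact ⟨xx, mem_centralizer_singleton_iff.2 (by decide +kernel), rfl⟩
    · exact ⟨cc, mem_centralizer_singleton_iff.2 (by decide +kernel), rfl⟩
    · exact ⟨a1, mem_centralizer_singleton_iff.2 rfl, rfl⟩
  obtain ⟨w, hw, rfl⟩ := hle hg
  exact ⟨w, mem_centralizer_singleton_iff.1 hw, rfl⟩

theorem mem_nE [Finite G] {h : G} (h1 : h * φ xx * h⁻¹ ∈ E φ) (h2 : h * φ cc * h⁻¹ ∈ E φ)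
    (h3 : h * φ a1 * h⁻¹ ∈ E φ) : h ∈ normalizer (E φ : Set G) := by
  apply mem_normalizer_closure
  rintro _ (rfl | rfl | rfl)
  · exact h1
  · exact h2
  · exact h3

theorem Loc.le_nE [Finite G] (L : Loc x T φ) : T ≤ normalizer (E φ : Set G) := by
  intro t ht
  obtain ⟨z, rfl⟩ := L.exists_eq ht
  apply mem_nE
  · rw [← map_inv, ← map_mul, ← map_mul]; exact mem_E (conj_cent z _ (by decide +kernel))
  · rw [← map_inv, ← map_mul, ← map_mul]; exact mem_E (conj_cent z _ (by decide +kernel))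
  · rw [← map_inv, ← map_mul, ← map_mul]; exact mem_E (conj_cent z _ rfl)

/-- `φ` of the conjugate of a word -/
theorem conj_comm {n a b : G} {z z' : G} (h1 : n * a * n⁻¹ = z) (h2 : n * b * n⁻¹ = z') :
    n * (a * b * a⁻¹ * b⁻¹) * n⁻¹ = z * z' * z⁻¹ * z'⁻¹ := by
  rw [← h1, ← h2]; group

theorem Loc.not_two [Finite G] (L : Loc x T φ) (hG : ∀ H : Subgroup G, H.index ≠ 2)
    {h : G} (hh : h ∈ normalizer (E φ : Set G)) (hx : h * x * h⁻¹ ≠ x) : False := by
  obtain ⟨r, hr, h1, h2⟩ := L.r1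
  have hx1 : r * φ xx * r⁻¹ = φ xx := by rw [L.ex]; exact conj_self hr
  have h3 : r * φ (cc * a1) * r⁻¹ = φ cc := cyc (by decide +kernel) a1_mul_a1 h1 h2
  have hrN : r ∈ normalizer (E φ : Set G) := by
    apply mem_nE
    · rw [hx1]; exact mem_E (by decide +kernel)
    · rw [h1]; exact mem_E rfl
    · rw [h2]; exact mem_E (by decide +kernel)
  set O : Set G := {y : G | ∃ n ∈ normalizer (E φ : Set G), n * x * n⁻¹ = y} with hO
  have hxO : φ xx ∈ O := ⟨1, one_mem _, by rw [L.ex]; group⟩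
  have step : ∀ {a b : G}, r * a * r⁻¹ = b → a ∈ O → b ∈ O := by
    rintro a b hab ⟨n, hn, rfl⟩
    exact ⟨r * n, mul_mem hrN hn, by rw [← hab]; group⟩
  have k1 : r * φ (xx * cc) * r⁻¹ = φ (xx * a1) := by
    rw [map_mul, map_mul]; exact conj_mul hx1 h1
  have k2 : r * φ (xx * a1) * r⁻¹ = φ (xx * (cc * a1)) := by
    rw [map_mul φ xx a1, map_mul φ xx (cc * a1)]; exact conj_mul hx1 h2
  have k3 : r * φ (xx * (cc * a1)) * r⁻¹ = φ (xx * cc) := by
    rw [map_mul φ xx (cc * a1), map_mul φ xx cc]; exact conj_mul hx1 h3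
  have hmem : ∀ {n : G}, n ∈ normalizer (E φ : Set G) → ∃ w : C, (w * a1 = a1 * w ∧ good w) ∧ φ w = n * x * n⁻¹ := by
    intro n hn
    have h5 : n * φ xx * n⁻¹ ∈ E φ := (mem_normalizer_iff.1 hn _).1 (mem_E (by decide +kernel))
    obtain ⟨w, hw, hw'⟩ := exists_of_mem_E h5
    rw [L.ex] at hw'
    exact ⟨w, ⟨hw, (L.conj_iff w).1 (by rw [hw']; exact isConj_iff.2 ⟨n, rfl⟩)⟩, hw'⟩
  have hall : φ (xx * cc) ∈ O := by
    obtain ⟨w, ⟨hw, hgw⟩, hw'⟩ := hmem hh
    have hwO : φ w ∈ O := ⟨h, hh, hw'.symm⟩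
    rcases orb_cases w hw hgw with rfl | rfl | rfl | rfl
    · rw [L.ex] at hw'; exact absurd hw'.symm hx
    · exact hwO
    · exact step k3 (step k2 hwO)
    · exact step k3 hwO
  have hOeq : O = φ '' {z : C | z * a1 = a1 * z ∧ good z} := by
    ext y
    constructor
    · rintro ⟨n, hn, rfl⟩
      obtain ⟨w, hw, hw'⟩ := hmem hn
      exact ⟨w, hw, hw'⟩
    · rintro ⟨w, ⟨hw, hgw⟩, rfl⟩
      rcases orb_cases w hw hgw with rfl | rfl | rfl | rfl
      · exact hxO
      · exact hall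
      · exact step k1 hall
      · exact step k2 (step k1 hall)
  have hcard : O.ncard = 4 := by
    rw [hOeq, Set.ncard_image_of_injective _ L.inj, ← Nat.card_coe_set_eq, Nat.card_eq_fintype_card]
    exact card_orb
  have h4 := four_dvd_index L.syl L.le_nE (by rw [← hO, hcard])
  have h5 := ModFour.card_conj_modEq hG x L.sq
  rw [ModFour.card_isConj] at h5
  have h6 := h5.trans L.modEq
  obtain ⟨k, hk⟩ := h4
  rw [hk] at h6
  have h7 : (4 * k) % 4 = 2 % 4 := h6
  omega

/-- **THEOREM BETA.** -/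
theorem Loc.false [Finite G] (hG : ∀ H : Subgroup G, H.index ≠ 2) (L : Loc x T φ) : False := by
  obtain ⟨g, hg⟩ := isConj_iff.1 L.conj
  obtain ⟨n, hn, hnT⟩ := exists_normalising L.syl hg (by
    intro t ht
    obtain ⟨z, rfl⟩ := L.exists_eq ht
    rw [← map_mul, ← map_mul, xc_comm])
  have hex : ∀ z : C, ∃ z' : C, φ z' = n * φ z * n⁻¹ := by
    intro z
    apply L.exists_eq
    have : n * φ z * n⁻¹ ∈ T.map (MulAut.conj n).toMonoidHom := ⟨φ z, L.mem z, rfl⟩
    rwa [hnT] at this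
  obtain ⟨b1, hb1⟩ := hex a1
  obtain ⟨b2, hb2⟩ := hex a2
  have hcn : n * φ cc * n⁻¹ = φ cc := by
    have h1 : n * φ cc * n⁻¹ = φ (b1 * b2 * b1⁻¹ * b2⁻¹) := by
      rw [← comm_a]
      simp only [map_mul, map_inv]
      exact conj_comm hb1.symm hb2.symm
    rcases comm_cc b1 b2 with h | h
    · exfalso
      rw [h, map_one] at h1
      apply cc_ne_one
      apply L.inj
      rw [map_one]
      calc φ cc = n⁻¹ * (n * φ cc * n⁻¹) * n := by group
        _ = 1 := by rw [h1]; group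
    · rw [h1, h]
  have hxx : φ xx = x := L.ex
  have hnx : n * φ xx * n⁻¹ = φ (xx * cc) := by rw [hxx]; exact hn
  have hxc : x * φ cc = φ cc * x := by
    rw [← hxx, ← map_mul, ← map_mul]
    exact congrArg φ (by decide +kernel)
  have hne : φ (xx * cc) ≠ x := by
    rw [map_mul, hxx]
    intro h
    apply cc_ne_one
    apply L.inj
    rw [map_one]
    exact mul_left_cancel (h.trans (mul_one x).symm)
  -- the image of `u₁`
  have hb : b1 = a1 ∨ b1 = cc * a1 ∨ b1 = a2 ∨ b1 = cc * a2 := by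
    have hcb : IsConj (φ a1) (φ b1) := isConj_iff.2 ⟨n, hb1.symm⟩
    have hng : ¬ good b1 := fun h => not_good_a1 ((L.conj_iff a1).1 (((L.conj_iff b1).2 h).trans hcb.symm))
    have hsq : b1 * b1 = 1 := by
      apply L.inj
      rw [map_mul, map_one, hb1]
      have : φ a1 * φ a1 = 1 := by rw [← map_mul, a1_mul_a1, map_one]
      calc n * φ a1 * n⁻¹ * (n * φ a1 * n⁻¹) = n * (φ a1 * φ a1) * n⁻¹ := by group
        _ = 1 := by rw [this]; group
    rcases bad_cases b1 hng hsq with h | h | h | h | h | h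
    · exfalso
      rw [h, map_one] at hb1
      apply a1_ne_one
      apply L.inj
      rw [map_one]
      calc φ a1 = n⁻¹ * (n * φ a1 * n⁻¹) * n := by group
        _ = 1 := by rw [← hb1]; group
    · exfalso
      rw [h] at hb1
      apply a1_ne_cc
      apply L.inj
      calc φ a1 = n⁻¹ * (n * φ a1 * n⁻¹) * n := by group
        _ = n⁻¹ * (n * φ cc * n⁻¹) * n := by rw [← hb1, hcn]
        _ = φ cc := by group
    · exact Or.inl h
    · exact Or.inr (Or.inl h)
    · exact Or.inr (Or.inr (Or.inl h))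
    · exact Or.inr (Or.inr (Or.inr h))
  have hA : b1 * a1 = a1 * b1 → False := by
    intro hc
    apply L.not_two hG (h := n)
    · apply mem_nE
      · rw [hnx]; exact mem_E (by decide +kernel)
      · rw [hcn]; exact mem_E (by decide +kernel)
      · rw [← hb1]; exact mem_E hc
    · rw [hn]; exact hne
  have hB : b1 = a2 ∨ b1 = cc * a2 → False := by
    intro hb'
    obtain ⟨r, hr, h1, h2⟩ := L.r2
    have h3 : r * φ (cc * a2) * r⁻¹ = φ cc := cyc (by decide +kernel) a2_mul_a2 h1 h2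
    have hx1 : r * φ xx * r⁻¹ = φ xx := by rw [hxx]; exact conj_self hr
    -- `n⁻¹ φ(a₂) n` is `φ a₁` or `φ (c a₁)`
    have hcn' : n⁻¹ * φ cc * n = φ cc := by
      calc n⁻¹ * φ cc * n = n⁻¹ * (n * φ cc * n⁻¹) * n := by rw [hcn]
        _ = φ cc := by group
    have hn' : n⁻¹ * φ xx * n = φ (xx * cc) := by
      have h5 : n * φ (xx * cc) * n⁻¹ = φ xx := by
        rw [map_mul, conj_mul hnx hcn, map_mul, mul_assoc, ← map_mul, cc_mul_cc, map_one, mul_one]
      rw [← h5]; group
    have key : ∀ w : C, (w = cc ∨ w = a2 ∨ w = cc * a2) → n⁻¹ * φ w * n ∈ E φ := by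
      have ka : n⁻¹ * φ b1 * n = φ a1 := by rw [hb1]; group
      have kc : n⁻¹ * φ (cc * b1) * n = φ (cc * a1) := by
        rw [map_mul, map_mul]
        calc n⁻¹ * (φ cc * φ b1) * n = (n⁻¹ * φ cc * n) * (n⁻¹ * φ b1 * n) := by group
          _ = φ cc * φ a1 := by rw [hcn', ka]
      have m1 : φ a1 ∈ E φ := mem_E rfl
      have m2 : φ (cc * a1) ∈ E φ := mem_E (by decide +kernel)
      have m3 : φ cc ∈ E φ := mem_E (by decide +kernel)
      have e2 : cc * (cc * a2) = a2 := by decide +kernel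
      rintro w (rfl | rfl | rfl)
      · rw [hcn']; exact m3
      · rcases hb' with h | h
        · rw [h] at ka; rw [ka]; exact m1
        · rw [h, e2] at kc; rw [kc]; exact m2
      · rcases hb' with h | h
        · rw [h] at kc; rw [kc]; exact m2
        · rw [h] at ka; rw [ka]; exact m1
    have hxE : n⁻¹ * φ xx * n ∈ E φ := by rw [hn']; exact mem_E (by decide +kernel)
    have hmul : ∀ w : C, (w = cc ∨ w = a2 ∨ w = cc * a2) → n⁻¹ * φ (xx * w) * n ∈ E φ := by
      intro w hw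
      rw [map_mul]
      have e : n⁻¹ * (φ xx * φ w) * n = (n⁻¹ * φ xx * n) * (n⁻¹ * φ w * n) := by group
      rw [e]; exact mul_mem hxE (key w hw)
    have conjE : ∀ {p q : G}, r * (n * p * n⁻¹) * r⁻¹ = q → n⁻¹ * r * n * p * (n⁻¹ * r * n)⁻¹ = n⁻¹ * q * n := by
      intro p q h
      rw [← h]; group
    have e1 : n⁻¹ * r * n * φ xx * (n⁻¹ * r * n)⁻¹ = n⁻¹ * φ (xx * a2) * n := by
      apply conjE
      rw [hnx, map_mul, map_mul]; exact conj_mul hx1 h1
    apply L.not_two hG (h := n⁻¹ * r * n)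
    · apply mem_nE
      · rw [e1]; exact hmul a2 (Or.inr (Or.inl rfl))
      · rw [conjE (q := φ a2) (by rw [hcn]; exact h1)]
        exact key a2 (Or.inr (Or.inl rfl))
      · rcases hb' with h | h
        · rw [conjE (q := φ (cc * a2)) (by rw [← hb1, h]; exact h2)]
          exact key _ (Or.inr (Or.inr rfl))
        · rw [conjE (q := φ cc) (by rw [← hb1, h]; exact h3)]
          exact key _ (Or.inl rfl)
    · rw [hxx] at e1
      rw [e1]
      intro h
      have h5 : φ (xx * a2) = φ (xx * cc) := by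
        calc φ (xx * a2) = n * (n⁻¹ * φ (xx * a2) * n) * n⁻¹ := by group
          _ = n * φ xx * n⁻¹ := by rw [h, hxx]
          _ = φ (xx * cc) := hnx
      have h6 := L.inj h5
      exact absurd h6 (by decide +kernel)
  rcases hb with h | h | h | h
  · exact hA (by rw [h])
  · exact hA (by rw [h]; decide +kernel)
  · exact hB (Or.inl h)
  · exact hB (Or.inr h)

/-! ### the literal form -/

theorem one_or : ∀ z : C, z ≠ 1 → z = xx ∨ z = cc ∨ z = xx * cc ∨ ∃ a : C, a * z * a⁻¹ * z⁻¹ = cc := by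
  decide +kernel

/-- **THEOREM BETA**, literal form: `T ∈ Syl₂(C(x))` of order 16, `u₁, u₂ ∈ T` involutions with `c = (u₁u₂)² ≠ 1`,
`c² = 1`; `c ~ u_i ~ cu_i` cyclically in `C(x)`; `x ~ xc`, `x ≁ c`; no subgroup of index two. -/
theorem main [Finite G] (hG : ∀ H : Subgroup G, H.index ≠ 2) {x u₁ u₂ c : G} {T : Subgroup G}
    (hT : SylC x T) (hcard : Nat.card T = 16) (hx : x * x = 1) (hxT : x ∈ T) (h₁ : u₁ * u₁ = 1) (h₂ : u₂ * u₂ = 1)
    (m₁ : u₁ ∈ T) (m₂ : u₂ ∈ T) (hc : (u₁ * u₂) ^ 2 = c) (hc1 : c ≠ 1) (hcc : c * c = 1)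
    (r1 : ∃ r, r * x = x * r ∧ r * c * r⁻¹ = u₁ ∧ r * u₁ * r⁻¹ = c * u₁)
    (r2 : ∃ r, r * x = x * r ∧ r * c * r⁻¹ = u₂ ∧ r * u₂ * r⁻¹ = c * u₂)
    (hconj : IsConj x (x * c)) (hnot : ¬ IsConj x c) : False := by
  have hr4 : (u₁ * u₂) ^ 4 = 1 := by
    calc (u₁ * u₂) ^ 4 = (u₁ * u₂) ^ 2 * (u₁ * u₂) ^ 2 := by rw [← pow_add]
      _ = 1 := by rw [hc, hcc]
  have hsr : u₁ * (u₁ * u₂) * u₁ = (u₁ * u₂)⁻¹ := by
    rw [mul_inv_rev, inv_eq_of_mul_eq_one_left h₁, inv_eq_of_mul_eq_one_left h₂]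
    calc u₁ * (u₁ * u₂) * u₁ = (u₁ * u₁) * u₂ * u₁ := by group
      _ = u₂ * u₁ := by rw [h₁, one_mul]
  let f : DihedralGroup 4 →* G := Dihedral.lift 4 (u₁ * u₂) u₁ hr4 h₁ hsr
  have hz : ∀ a : Multiplicative (ZMod 2), a = 1 ∨ a = Multiplicative.ofAdd 1 := by decide +kernel
  have h10 : (Multiplicative.ofAdd 1 : Multiplicative (ZMod 2)) ≠ 1 := by decide +kernel
  have h11 : (Multiplicative.ofAdd 1 : Multiplicative (ZMod 2)) * Multiplicative.ofAdd 1 = 1 := by
    decide +kernel
  let e : Multiplicative (ZMod 2) →* G := MonoidHom.mk' (fun z => if z = 1 then 1 else x) (by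
    intro a b
    rcases hz a with rfl | rfl <;> rcases hz b with rfl | rfl
    · simp
    · simp [h10]
    · simp [h10]
    · rw [h11, if_pos rfl, if_neg h10, hx])
  have he : e (Multiplicative.ofAdd 1) = x := by
    show (if Multiplicative.ofAdd 1 = (1 : Multiplicative (ZMod 2)) then (1 : G) else x) = x
    rw [if_neg h10]
  have hfT : ∀ d, f d ∈ T := by
    have hrT : u₁ * u₂ ∈ T := mul_mem m₁ m₂
    have hz : ∀ i, Dihedral.rot 4 (u₁ * u₂) hr4 i ∈ T := fun i =>
      (zpowers_le.2 hrT) (Dihedral.rot_mem_zpowers _ _ i)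
    rintro (i | i)
    · exact hz i
    · exact mul_mem m₁ (hz i)
  have heT : ∀ z, e z ∈ T := by
    intro z
    rcases hz z with rfl | rfl
    · rw [map_one]; exact one_mem _
    · rw [he]; exact hxT
  have hcomm : ∀ d z, Commute (f d) (e z) := by
    intro d z
    rcases hz z with rfl | rfl
    · rw [map_one]; exact Commute.one_right _
    · rw [he]; exact hT.cent _ (hfT d)
  let φ : C →* G := MonoidHom.noncommCoprod f e hcomm
  have hφ : ∀ d z, φ (d, z) = f d * e z := fun d z => MonoidHom.noncommCoprod_apply _ _ _ _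
  have exx : φ xx = x := by rw [xx, hφ, map_one, one_mul, he]
  have ecc : φ cc = c := by
    rw [cc, hφ, map_one, mul_one, ← hc]
    have := Dihedral.lift_r_intCast (u₁ * u₂) u₁ hr4 h₁ hsr 2
    have e2 : ((2 : ℤ) : ZMod 4) = 2 := rfl
    rw [e2, zpow_ofNat] at this
    exact this
  have ea1 : φ a1 = u₁ := by
    rw [a1, hφ, map_one, mul_one]; exact Dihedral.lift_sr_zero _ _ hr4 h₁ hsr
  have ea2 : φ a2 = u₂ := by
    rw [a2, hφ, map_one, mul_one]
    show u₁ * Dihedral.rot 4 (u₁ * u₂) hr4 1 = u₂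
    rw [Dihedral.rot_one, ← mul_assoc, h₁, one_mul]
  have hx1 : x ≠ 1 := by
    rintro rfl
    rw [one_mul, isConj_one_right] at hconj
    exact hc1 hconj
  have inj : Function.Injective φ := by
    rw [injective_iff_map_eq_one]
    intro z hz1
    by_contra hne
    rcases one_or z hne with rfl | rfl | rfl | ⟨a, ha⟩
    · exact hx1 (exx.symm.trans hz1)
    · exact hc1 (ecc.symm.trans hz1)
    · rw [map_mul, exx, ecc] at hz1
      have : x = c := by
        calc x = x * (c * c) := by rw [hcc, mul_one]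
          _ = (x * c) * c := by group
          _ = c := by rw [hz1, one_mul]
      exact hnot (this ▸ IsConj.refl _)
    · apply hc1
      rw [← ecc, ← ha]
      simp only [map_mul, map_inv, hz1]
      group
  have hrange : φ.range = T := by
    apply eq_of_le_of_card_ge
    · rintro _ ⟨⟨d, z⟩, rfl⟩
      rw [hφ]; exact mul_mem (hfT d) (heT z)
    · rw [hcard, ← Nat.card_congr (MonoidHom.ofInjective inj).toEquiv, Nat.card_eq_fintype_card]
      decide +kernel
  have L : Loc x T φ :=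
    { inj := inj
      range := hrange
      ex := exx
      syl := hT
      r1 := by
        obtain ⟨r, k1, k2, k3⟩ := r1
        exact ⟨r, k1, by rw [ecc, ea1]; exact k2, by rw [map_mul, ecc, ea1]; exact k3⟩
      r2 := by
        obtain ⟨r, k1, k2, k3⟩ := r2
        exact ⟨r, k1, by rw [ecc, ea2]; exact k2, by rw [map_mul, ecc, ea2]; exact k3⟩
      conj := by rw [map_mul, exx, ecc]; exact hconj
      not := by rw [ecc]; exact hnot }
  exact L.false hG

end Cfsg.Agent.GH.A7.Beta
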