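import Cfsg.Agent.GH.A7.BetaIn
import Cfsg.Agent.GH.A7.Beta

/-!
# `A₇`, `|Q| = 2`: the case `T = ⟨x⟩ × D₈` is impossible
-/

set_option autoImplicit false

namespace Cfsg.Agent.GH.A7

open Subgroup Cfsg.Agent.GH.TOne

variable {G : Type*} [Group G]

theorem BetaIn.false_of_index [Finite G] (hG : ∀ H : Subgroup G, H.index ≠ 2) {x : G} {T D : Subgroup G}
    {u1 u2 c r1 r2 : G} (B : BetaIn x T D u1 u2 c r1 r2) : False := by
  have hsq : (u1 * u2) ^ 2 = c := by
    have h1 := B.u1u1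
    have h2 := B.u2u2
    calc (u1 * u2) ^ 2 = (u1 * u2) * (u1 * u2) := pow_two _
      _ = (c * (u2 * u1)) * (u1 * u2) := by rw [← B.uu]
      _ = c * u2 * (u1 * u1) * u2 := by group
      _ = c * (u2 * u2) := by rw [h1]; group
      _ = c := by rw [h2, mul_one]
  have hcx : c * x = x * c := B.syl.cent c (B.DT B.cD)
  obtain ⟨g, hg⟩ := B.conj
  exact Beta.main hG B.syl B.cardT B.xx B.xT B.u1u1 B.u2u2 (B.DT B.u1D) (B.DT B.u2D) hsq B.c1 B.cc
    ⟨r1, B.r1x, B.r1c, B.r1u⟩ ⟨r2, B.r2x, B.r2c, B.r2u⟩ (isConj_iff.2 ⟨g, by rw [hg, hcx]⟩)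
    (fun h => by
      obtain ⟨g, hg⟩ := isConj_iff.1 h
      exact B.not g hg)

theorem BetaIn.false [Finite G] (hs : IsSimpleGroup G) (hnc : ¬ IsMulCommutative G) {x : G} {T D : Subgroup G}
    {u1 u2 c r1 r2 : G} (B : BetaIn x T D u1 u2 c r1 r2) : False := by
  apply B.false_of_index
  intro H h
  have hn : H.Normal := normal_of_index_eq_two h
  rcases hs.eq_bot_or_eq_top_of_normal H hn with h1 | h1
  · apply hnc
    rw [h1, index_bot] at h
    have : Fact (Nat.Prime 2) := ⟨Nat.prime_two⟩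
    have hc : IsCyclic G := isCyclic_of_prime_card h
    refine ⟨⟨fun a b => ?_⟩⟩
    letI := hc.commGroup
    exact mul_comm a b
  · rw [h1, index_top] at h
    omega

end Cfsg.Agent.GH.A7
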