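import Cfsg.Agent.GH.A7.Pre
import Cfsg.Agent.GH.QAZStar

/-!
# `A₇`, `|Q| = 2`, no odd 2-element in `C(x)`: `T = ⟨x⟩ × D₈`, `x ~ x c`, `x ≁ c`
-/

set_option autoImplicit false
set_option linter.unusedSectionVars false

namespace Cfsg.Agent.GH.A7

open Subgroup Equiv.Perm
open Cfsg.Agent.GH.TOne
open Cfsg.Agent.GH.L2One.A7 (ρ γ ζ τ)

variable {G : Type*} [Group G] {X : Set G} {K : G → Subgroup G} {σ : G → G → S7}

/-- `T = ⟨x⟩ × D`, `D = ⟨u1, u2⟩` dihedral of order 8, `c` its central involution. -/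
structure BetaIn (x : G) (T D : Subgroup G) (u1 u2 c r1 r2 : G) : Prop where
  xx : x * x = 1
  x1 : x ≠ 1
  syl : SylC x T
  xT : x ∈ T
  DT : D ≤ T
  xD : x ∉ D
  cov : ∀ g ∈ T, g ∈ D ∨ g * x ∈ D
  form : ∀ g ∈ D, ∃ i j k : Fin 2, g = c ^ i.val * u1 ^ j.val * u2 ^ k.val
  cardD : Nat.card D = 8
  cardT : Nat.card T = 16
  u1D : u1 ∈ D
  u2D : u2 ∈ D
  cD : c ∈ D
  u1u1 : u1 * u1 = 1
  u2u2 : u2 * u2 = 1
  cc : c * c = 1
  c1 : c ≠ 1
  cu1 : c * u1 = u1 * c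
  cu2 : c * u2 = u2 * c
  uu : u1 * u2 = c * (u2 * u1)
  r1x : r1 * x = x * r1
  r1c : r1 * c * r1⁻¹ = u1
  r1u : r1 * u1 * r1⁻¹ = c * u1
  r2x : r2 * x = x * r2
  r2c : r2 * c * r2⁻¹ = u2
  r2u : r2 * u2 * r2⁻¹ = c * u2
  conj : ∃ g, g * x * g⁻¹ = c * x
  not : ∀ g, g * x * g⁻¹ ≠ c

theorem S0_form : ∀ i : Fin 4, ∀ j : Fin 2, ∃ i' j' k' : Fin 2,
    el i j 0 = ζ ^ i'.val * (ρ * γ) ^ j'.val * (ζ * γ) ^ k'.val := by
  decide +kernel

theorem zg_el : ζ * γ = el 2 1 0 := by decide +kernel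
theorem rg_el' : ρ * γ = el 1 1 0 := by decide +kernel

theorem Sys.betaIn [Finite G] (hs : IsSimpleGroup G) (hnc : ¬ IsMulCommutative G) (h : Sys X K σ) {x : G}
    (hx : x ∈ X) (hno : ¬ HasOdd σ x) :
    ∃ (T D : Subgroup G) (u1 u2 c r1 r2 : G), BetaIn x T D u1 u2 c r1 r2 := by
  have hxi := h.inv x hx
  obtain ⟨g, hg, hne⟩ := QA.not_isolated hs hnc hxi.sq hxi.ne
  have ht := h.conj x hx g
  have hsign : sign (σ x (g * x * g⁻¹)) = 1 := by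
    rcases Int.units_eq_one_or (sign (σ x (g * x * g⁻¹))) with h1 | h1
    · exact h1
    · exact (hno ⟨_, hg.symm, isPGroup_zpowers_of_sq (hxi.conj g).sq, h1⟩).elim
  obtain ⟨T, φ, c, F, hcT, hcK, hci, hcφ, -, hcc, -, e⟩ := h.inner_pair hx ht hg.symm hne hsign
  have hxT := F.y_mem h
  obtain ⟨u1, hu1, hu1K, hu1φ⟩ := F.ex 1 1
  obtain ⟨u2, hu2, hu2K, hu2φ⟩ := F.ex 2 1
  rw [← rg_el'] at hu1φ
  rw [← zg_el] at hu2φ
  have mulφ : ∀ {s t : G}, s ∈ T → t ∈ T → φ (s * t) = φ s * φ t := fun hs ht =>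
    F.mul h (F.syl.cent _ hs) (F.syl.cent _ ht)
  obtain ⟨r1, hr1, -, hr1'⟩ := F.norm2 h
  obtain ⟨r2, hr2, -, hr2'⟩ := F.norm1 h
  have c1V : φ c ∈ V1 := ⟨2, 0, 0, rfl, by rw [hcφ]; exact zeta_eq⟩
  have c2V : φ c ∈ V2 := ⟨2, 0, 0, rfl, by rw [hcφ]; exact zeta_eq⟩
  have u1V : φ u1 ∈ V2 := ⟨1, 1, 0, rfl, by rw [hu1φ]; exact rg_el'⟩
  have u2V : φ u2 ∈ V1 := ⟨2, 1, 0, rfl, by rw [hu2φ]; exact zg_el⟩
  -- the elements of `T`
  have hcov : ∀ g ∈ T, g ∈ T ⊓ K x ∨ g * x ∈ T ⊓ K x := by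
    intro g hg
    obtain ⟨d, hd, hdK, p, hp, eg, k, hk⟩ := F.split h hg
    have hk0 : k = 0 := by
      by_contra hk0
      have hk1 : k = 1 := by omega
      subst hk1
      apply hno
      have hpx := F.syl.cent p hp
      refine ⟨p, hpx, isPGroup_zpowers_of_mem F.syl.two hp, ?_⟩
      rw [← F.sign_eq hpx, hk]
      decide +kernel
    subst hk0
    rcases F.inj h hp hk with h1 | h1
    · left
      rw [eg, h1, mul_one]
      exact ⟨hd, hdK⟩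
    · right
      rw [eg, h1, mul_assoc, hxi.sq, mul_one]
      exact ⟨hd, hdK⟩
  have hform : ∀ g ∈ T ⊓ K x, ∃ i : Fin 4, ∃ j : Fin 2, φ g = el i j 0 := by
    rintro g ⟨hg, hgK⟩
    obtain ⟨i, j, k, hf⟩ := F.form g hg
    have hs' := h.even x hx g hgK
    rw [← F.sign_eq (F.syl.cent g hg), hf, sign_el] at hs'
    have hk0 : k = 0 := by
      by_contra hk
      rw [if_neg hk] at hs'
      exact absurd hs' (by decide)
    subst hk0
    exact ⟨i, j, hf⟩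
  have hcardD : Nat.card ↥(T ⊓ K x) = 8 := by
    rw [← card_S0]
    apply Nat.card_congr
    refine Equiv.ofBijective (fun g => (⟨φ g, ?_⟩ : S0)) ⟨?_, ?_⟩
    · obtain ⟨i, j, hf⟩ := hform g g.2
      exact ⟨i, j, hf⟩
    · rintro ⟨a, ha, haK⟩ ⟨b, hb, hbK⟩ hab
      exact Subtype.ext (F.eqK h ha hb haK hbK (congrArg Subtype.val hab))
    · rintro ⟨v, i, j, rfl⟩
      obtain ⟨d, hd, hdK, hdφ⟩ := F.ex i j
      exact ⟨⟨d, hd, hdK⟩, Subtype.ext hdφ⟩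
  have hcardT : Nat.card T = 16 := by
    have h1 : F.pre h S0 = T := by
      ext a
      rw [Fr.mem_pre]
      refine ⟨fun ha => ha.1, fun ha => ⟨ha, ?_⟩⟩
      rcases hcov a ha with h2 | h2
      · obtain ⟨i, j, hf⟩ := hform a h2
        exact ⟨i, j, hf⟩
      · obtain ⟨i, j, hf⟩ := hform _ h2
        refine ⟨i, j, ?_⟩
        rw [← hf, mulφ ha hxT, F.phi_y h, mul_one]
    rw [← h1, F.card_pre h (by
      rintro v ⟨i, j, rfl⟩
      obtain ⟨d, hd, -, hdφ⟩ := F.ex i j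
      exact ⟨d, hd, hdφ⟩), card_S0]
  have hpow : ∀ s ∈ T, ∀ n : ℕ, φ (s ^ n) = φ s ^ n := by
    intro s hs n
    induction n with
    | zero => rw [pow_zero, pow_zero, F.one h]
    | succ n ih => rw [pow_succ, pow_succ, mulφ (pow_mem hs n) hs, ih]
  refine ⟨T, T ⊓ K x, u1, u2, c, r1, r2,
    { xx := hxi.sq
      x1 := hxi.ne
      syl := F.syl
      xT := hxT
      DT := inf_le_left
      xD := fun h1 => F.not_mem_K h h1.2
      cov := hcov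
      form := ?_
      cardD := hcardD
      cardT := hcardT
      u1D := ⟨hu1, hu1K⟩
      u2D := ⟨hu2, hu2K⟩
      cD := ⟨hcT, hcK⟩
      u1u1 := F.injK h (mul_mem hu1 hu1) (mul_mem hu1K hu1K) (by
        rw [mulφ hu1 hu1, hu1φ]; decide +kernel)
      u2u2 := F.injK h (mul_mem hu2 hu2) (mul_mem hu2K hu2K) (by
        rw [mulφ hu2 hu2, hu2φ]; decide +kernel)
      cc := hci.sq
      c1 := hci.ne
      cu1 := (hcc u1 hu1).symm
      cu2 := (hcc u2 hu2).symm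
      uu := F.eqK h (mul_mem hu1 hu2) (mul_mem hcT (mul_mem hu2 hu1)) (mul_mem hu1K hu2K)
        (mul_mem hcK (mul_mem hu2K hu1K)) (by
          rw [mulφ hu1 hu2, mulφ hcT (mul_mem hu2 hu1), mulφ hu2 hu1, hu1φ, hu2φ, hcφ]; decide +kernel)
      r1x := h.centK x hx r1 hr1
      r1c := hr1' c hcT c2V u1 hu1 (by rw [hcφ, hu1φ]; decide +kernel) (mul_mem hu1K (inv_mem hcK))
      r1u := hr1' u1 hu1 u1V _ (mul_mem hcT hu1) (by
        rw [mulφ hcT hu1, hcφ, hu1φ]; decide +kernel) (mul_mem (mul_mem hcK hu1K) (inv_mem hu1K))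
      r2x := h.centK x hx r2 hr2
      r2c := hr2' c hcT c1V u2 hu2 (by rw [hcφ, hu2φ]; decide +kernel) (mul_mem hu2K (inv_mem hcK))
      r2u := hr2' u2 hu2 u2V _ (mul_mem hcT hu2) (by
        rw [mulφ hcT hu2, hcφ, hu2φ]; decide +kernel) (mul_mem (mul_mem hcK hu2K) (inv_mem hu2K))
      conj := ⟨g, e⟩
      not := fun g' h1 => h.not_mem hx (h.conj x hx g') (by rw [h1]; exact hcK) }⟩
  intro a ha
  obtain ⟨i, j, hf⟩ := hform a ha
  obtain ⟨i', j', k', h1⟩ := S0_form i j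
  refine ⟨i', j', k', F.eqK h ha.1 (mul_mem (mul_mem (pow_mem hcT _) (pow_mem hu1 _)) (pow_mem hu2 _)) ha.2
    (mul_mem (mul_mem (pow_mem hcK _) (pow_mem hu1K _)) (pow_mem hu2K _)) ?_⟩
  rw [mulφ (mul_mem (pow_mem hcT _) (pow_mem hu1 _)) (pow_mem hu2 _), mulφ (pow_mem hcT _) (pow_mem hu1 _),
    hpow c hcT, hpow u1 hu1, hpow u2 hu2, hcφ, hu1φ, hu2φ, hf, h1]

end Cfsg.Agent.GH.A7
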