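import Cfsg.Agent.GH.A7.Basic

/-!
# `A₇`, `|Q| = 2`: the structure of a Sylow 2-subgroup of `C(y)`
-/

set_option autoImplicit false

namespace Cfsg.Agent.GH.A7

open Subgroup Equiv.Perm
open Cfsg.Agent.GH.TOne
open Cfsg.Agent.GH.L2One.A7 (ρ γ ζ τ)

variable {G : Type*} [Group G]

theorem el_split : ∀ i : Fin 4, ∀ j k : Fin 2, (el i j 0)⁻¹ * el i j k = τ ^ k.val := by
  decide +kernel

theorem el_tau : ∀ i : Fin 4, ∀ j k k' : Fin 2,
    el i j k * τ ^ k'.val * (el i j k)⁻¹ * (τ ^ k'.val)⁻¹ = 1 := by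
  decide +kernel

theorem rho_gamma : ζ = el 1 0 0 * el 0 1 0 * (el 1 0 0)⁻¹ * (el 0 1 0)⁻¹ := by
  decide +kernel

/-- `c` generates the commutator subgroup of `T`. -/
structure ZT (T : Subgroup G) (c : G) : Prop where
  ne : c ≠ 1
  all : ∀ g ∈ T, ∀ h ∈ T, g * h * g⁻¹ * h⁻¹ = 1 ∨ g * h * g⁻¹ * h⁻¹ = c
  some : ∃ g ∈ T, ∃ h ∈ T, g * h * g⁻¹ * h⁻¹ = c

theorem ZT.unique {T : Subgroup G} {c c' : G} (h : ZT T c) (h' : ZT T c') : c = c' := by
  obtain ⟨g, hg, k, hk, e⟩ := h.some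
  rcases h'.all g hg k hk with h1 | h1
  · exact absurd (e.symm.trans h1) h.ne
  · exact e.symm.trans h1

theorem ZT.conj {T : Subgroup G} {c : G} (h : ZT T c) (x : G) :
    ZT (T.map (MulAut.conj x).toMonoidHom) (x * c * x⁻¹) := by
  refine ⟨?_, ?_, ?_⟩
  · intro h1
    apply h.ne
    calc c = x⁻¹ * (x * c * x⁻¹) * x := by group
      _ = 1 := by rw [h1]; group
  · intro g hg k hk
    rw [mem_map_conj] at hg hk
    have e : g * k * g⁻¹ * k⁻¹ =
        x * ((x⁻¹ * g * x) * (x⁻¹ * k * x) * (x⁻¹ * g * x)⁻¹ * (x⁻¹ * k * x)⁻¹) * x⁻¹ := by group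
    rw [e]
    rcases h.all _ hg _ hk with h1 | h1
    · left; rw [h1]; group
    · right; rw [h1]
  · obtain ⟨g, hg, k, hk, e⟩ := h.some
    refine ⟨x * g * x⁻¹, ?_, x * k * x⁻¹, ?_, ?_⟩
    · rw [mem_map_conj]
      have e2 : x⁻¹ * (x * g * x⁻¹) * x = g := by group
      rwa [e2]
    · rw [mem_map_conj]
      have e2 : x⁻¹ * (x * k * x⁻¹) * x = k := by group
      rwa [e2]
    · rw [← e]; group

namespace Fr

variable {X : Set G} {K : G → Subgroup G} {σ : G → G → S7} {y : G} {T : Subgroup G} {φ : G → S7}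

section basic

variable (F : Fr X K σ y T φ) (h : Sys X K σ)
include F h

theorem mul {a b : G} (ha : a * y = y * a) (hb : b * y = y * b) : φ (a * b) = φ a * φ b := by
  obtain ⟨π, hπ⟩ := F.phi
  rw [hπ _ (comm_mul ha hb), hπ _ ha, hπ _ hb, h.mul y F.mem _ _ ha hb]
  group

theorem one : φ 1 = 1 := by
  obtain ⟨π, hπ⟩ := F.phi
  rw [hπ _ (by simp), h.one F.mem]
  group

theorem inv' {a : G} (ha : a * y = y * a) : φ a⁻¹ = (φ a)⁻¹ := by
  have := F.mul h (comm_inv ha) ha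
  rw [inv_mul_cancel, F.one h] at this
  exact eq_inv_of_mul_eq_one_left this.symm

theorem conj {a b : G} (ha : a * y = y * a) (hb : b * y = y * b) : φ (a * b * a⁻¹) = φ a * φ b * (φ a)⁻¹ := by
  rw [F.mul h (comm_mul ha hb) (comm_inv ha), F.mul h ha hb, F.inv' h ha]

theorem phi_y : φ y = 1 := by
  obtain ⟨π, hπ⟩ := F.phi
  rw [hπ _ rfl, h.self y F.mem]
  group

omit h in
theorem eq_one_iff {a : G} (ha : a * y = y * a) : φ a = 1 ↔ σ y a = 1 := by
  obtain ⟨π, hπ⟩ := F.phi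
  rw [hπ _ ha]
  constructor
  · intro h1
    calc σ y a = π⁻¹ * (π * σ y a * π⁻¹) * π := by group
      _ = 1 := by rw [h1]; group
  · intro h1
    rw [h1]; group

omit h in
theorem sign_eq {a : G} (ha : a * y = y * a) : sign (φ a) = sign (σ y a) := by
  obtain ⟨π, hπ⟩ := F.phi
  rw [hπ _ ha, map_mul, map_mul, map_inv, mul_comm (sign π), mul_assoc, mul_inv_cancel, mul_one]

omit h in
theorem sw_iff {a : G} (ha : a * y = y * a) : Sw (φ a) ↔ Sw (σ y a) := by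
  obtain ⟨π, hπ⟩ := F.phi
  rw [hπ _ ha, Sw.conj_iff]

omit h in
theorem off {a b : G} (ha : a * y = y * a) (hb : b * y = y * b) (hab : Off (φ a) (φ b)) :
    Off (σ y a) (σ y b) := by
  obtain ⟨π, hπ⟩ := F.phi
  rw [hπ _ ha, hπ _ hb] at hab
  have h1 := hab.conj π⁻¹
  have e : ∀ s : S7, π⁻¹ * (π * s * π⁻¹) * π⁻¹⁻¹ = s := fun s => by group
  rwa [e, e] at h1

theorem y_mem [Finite G] : y ∈ T := by
  apply F.syl.mem_of_normalizes (isPGroup_zpowers_of_sq (h.inv y F.mem).sq) rfl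
  intro t ht
  have e : y * t * y⁻¹ = t := by rw [← F.syl.cent t ht]; group
  rwa [e]

theorem inj {a : G} (ha : a ∈ T) (h1 : φ a = 1) : a = 1 ∨ a = y :=
  h.eqQ y F.mem a (F.syl.cent a ha) ((F.eq_one_iff (F.syl.cent a ha)).1 h1)
    (isPGroup_zpowers_of_mem F.syl.two ha)

theorem injK {a : G} (ha : a ∈ T) (hK : a ∈ K y) (h1 : φ a = 1) : a = 1 :=
  h.eqK y F.mem a hK ((F.eq_one_iff (F.syl.cent a ha)).1 h1) (isPGroup_zpowers_of_mem F.syl.two ha)

theorem eqK {a b : G} (ha : a ∈ T) (hb : b ∈ T) (haK : a ∈ K y) (hbK : b ∈ K y) (h1 : φ a = φ b) : a = b := by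
  have h2 : a * b⁻¹ = 1 := by
    apply F.injK h (mul_mem ha (inv_mem hb)) (mul_mem haK (inv_mem hbK))
    rw [F.mul h (F.syl.cent a ha) (comm_inv (F.syl.cent b hb)), F.inv' h (F.syl.cent b hb), h1]
    group
  exact mul_inv_eq_one.1 h2

theorem eqT {a b : G} (ha : a ∈ T) (hb : b ∈ T) (h1 : φ a = φ b) : a = b ∨ a = b * y := by
  have h2 := F.inj h (mul_mem (inv_mem hb) ha) (by
    rw [F.mul h (comm_inv (F.syl.cent b hb)) (F.syl.cent a ha), F.inv' h (F.syl.cent b hb), h1]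
    group)
  rcases h2 with h2 | h2
  · left
    exact (inv_mul_eq_one.1 h2).symm
  · right
    rw [← h2]; group

theorem inner {a : G} (ha : a ∈ T) {i : Fin 4} {j : Fin 2} (h1 : φ a = el i j 0) :
    ∃ d ∈ T, d ∈ K y ∧ φ d = φ a ∧ (a = d ∨ a = d * y) := by
  obtain ⟨d, hd, hdK, hds⟩ := F.ex i j
  have h2 : φ a = φ d := h1.trans hds.symm
  exact ⟨d, hd, hdK, h2.symm, F.eqT h ha hd h2⟩

/-- `[D, P] = 1` -/
theorem comm_DP {d p : G} (hd : d ∈ T) (hdK : d ∈ K y) (hp : p ∈ T) {k : Fin 2} (hps : φ p = τ ^ k.val) :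
    d * p = p * d := by
  have hdy := F.syl.cent d hd
  have hpy := F.syl.cent p hp
  have h1 : d * p * d⁻¹ * p⁻¹ = 1 := by
    apply F.injK h (mul_mem (mul_mem (mul_mem hd hp) (inv_mem hd)) (inv_mem hp))
    · have h2 := h.conjK_self F.mem hpy (inv_mem hdK)
      have e : d * p * d⁻¹ * p⁻¹ = d * (p * d⁻¹ * p⁻¹) := by group
      rw [e]
      exact mul_mem hdK h2
    · obtain ⟨i, j, k', hf⟩ := F.form d hd
      rw [F.mul h (comm_mul (comm_mul hdy hpy) (comm_inv hdy)) (comm_inv hpy), F.conj h hdy hpy, F.inv' h hpy,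
        hps, hf]
      exact el_tau i j k' k
  calc d * p = (d * p * d⁻¹ * p⁻¹) * (p * d) := by group
    _ = p * d := by rw [h1, one_mul]

theorem comm_PP {p p' : G} (hp : p ∈ T) (hp' : p' ∈ T) {k k' : Fin 2} (hps : φ p = τ ^ k.val)
    (hps' : φ p' = τ ^ k'.val) : p * p' = p' * p := by
  have hpy := F.syl.cent p hp
  have hpy' := F.syl.cent p' hp'
  by_cases hk : k = k'
  · subst hk
    rcases F.eqT h hp hp' (hps.trans hps'.symm) with h1 | h1
    · rw [h1]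
    · rw [h1, mul_assoc, ← hpy', ← mul_assoc]
  · have h2 : k = 0 ∨ k' = 0 := by omega
    rcases h2 with h2 | h2
    · rw [h2] at hps
      rcases F.inj h hp (by rw [hps]; rfl) with h3 | h3
      · rw [h3, one_mul, mul_one]
      · rw [h3, hpy']
    · rw [h2] at hps'
      rcases F.inj h hp' (by rw [hps']; rfl) with h3 | h3
      · rw [h3, one_mul, mul_one]
      · rw [h3, hpy]

theorem split {g : G} (hg : g ∈ T) : ∃ d ∈ T, d ∈ K y ∧ ∃ p ∈ T, g = d * p ∧ ∃ k : Fin 2, φ p = τ ^ k.val := by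
  obtain ⟨i, j, k, hf⟩ := F.form g hg
  obtain ⟨d, hd, hdK, hds⟩ := F.ex i j
  refine ⟨d, hd, hdK, d⁻¹ * g, mul_mem (inv_mem hd) hg, by group, k, ?_⟩
  rw [F.mul h (comm_inv (F.syl.cent d hd)) (F.syl.cent g hg), F.inv' h (F.syl.cent d hd), hf, hds]
  exact el_split i j k

/-- the elements of `P` are central in `T` -/
theorem central_P {p g : G} (hp : p ∈ T) (hg : g ∈ T) {k : Fin 2} (hps : φ p = τ ^ k.val) : g * p = p * g := by
  obtain ⟨d, hd, hdK, q, hq, rfl, k', hqs⟩ := F.split h hg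
  exact comm_mul (F.comm_DP h hd hdK hp hps) (F.comm_PP h hq hp hqs hps)

theorem comm_eq {g g' : G} (hg : g ∈ T) (hg' : g' ∈ T) :
    ∃ d ∈ T, d ∈ K y ∧ ∃ d' ∈ T, d' ∈ K y ∧ g * g' * g⁻¹ * g'⁻¹ = d * d' * d⁻¹ * d'⁻¹ := by
  obtain ⟨d, hd, hdK, p, hp, rfl, k, hps⟩ := F.split h hg
  obtain ⟨d', hd', hdK', p', hp', rfl, k', hps'⟩ := F.split h hg'
  refine ⟨d, hd, hdK, d', hd', hdK', ?_⟩
  have c1 : Commute d p := F.comm_DP h hd hdK hp hps
  have c2 : Commute d p' := F.comm_DP h hd hdK hp' hps'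
  have c3 : Commute d' p := F.comm_DP h hd' hdK' hp hps
  have c4 : Commute d' p' := F.comm_DP h hd' hdK' hp' hps'
  have c5 : Commute p p' := F.comm_PP h hp hp' hps hps'
  have c6 : Commute (p * p') (d⁻¹) := (c1.symm.mul_left c2.symm).inv_right
  calc d * p * (d' * p') * (d * p)⁻¹ * (d' * p')⁻¹ = d * (p * d') * p' * p⁻¹ * d⁻¹ * p'⁻¹ * d'⁻¹ := by group
    _ = d * (d' * p) * p' * p⁻¹ * d⁻¹ * p'⁻¹ * d'⁻¹ := by rw [c3.symm.eq]
    _ = d * d' * (p * p') * p⁻¹ * d⁻¹ * p'⁻¹ * d'⁻¹ := by group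
    _ = d * d' * (p' * p) * p⁻¹ * d⁻¹ * p'⁻¹ * d'⁻¹ := by rw [c5.eq]
    _ = d * d' * (p' * d⁻¹) * p'⁻¹ * d'⁻¹ := by group
    _ = d * d' * (d⁻¹ * p') * p'⁻¹ * d'⁻¹ := by rw [c2.symm.inv_right.eq]
    _ = _ := by group

theorem exists_zz : ∃ c ∈ T, c ∈ K y ∧ Inv c ∧ φ c = ζ ∧ ZT T c ∧ (∀ g ∈ T, g * c = c * g) ∧
    ∀ a ∈ T, a ∈ K y → (∀ g ∈ T, g * a = a * g) → a = 1 ∨ a = c := by
  obtain ⟨c, hc, hcK, hcs⟩ := F.ex 2 0
  rw [← zeta_eq] at hcs
  have hcy := F.syl.cent c hc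
  have hcc : c * c = 1 := by
    apply F.injK h (mul_mem hc hc) (mul_mem hcK hcK)
    rw [F.mul h hcy hcy, hcs, zeta_eq]
    decide +kernel
  have hc1 : c ≠ 1 := by
    rintro rfl
    rw [F.one h] at hcs
    exact zeta_ne hcs.symm
  have hall : ∀ g ∈ T, ∀ k ∈ T, g * k * g⁻¹ * k⁻¹ = 1 ∨ g * k * g⁻¹ * k⁻¹ = c := by
    intro g hg k hk
    obtain ⟨d, hd, hdK, d', hd', hdK', e⟩ := F.comm_eq h hg hk
    rw [e]
    have hm : d * d' * d⁻¹ * d'⁻¹ ∈ T := mul_mem (mul_mem (mul_mem hd hd') (inv_mem hd)) (inv_mem hd')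
    have hmK : d * d' * d⁻¹ * d'⁻¹ ∈ K y :=
      mul_mem (mul_mem (mul_mem hdK hdK') (inv_mem hdK)) (inv_mem hdK')
    have hdy := F.syl.cent d hd
    have hdy' := F.syl.cent d' hd'
    have h1 : φ (d * d' * d⁻¹ * d'⁻¹) = φ d * φ d' * (φ d)⁻¹ * (φ d')⁻¹ := by
      rw [F.mul h (comm_mul (comm_mul hdy hdy') (comm_inv hdy)) (comm_inv hdy'), F.conj h hdy hdy',
        F.inv' h hdy']
    obtain ⟨i, j, k, hf⟩ := F.form d hd
    obtain ⟨i', j', k', hf'⟩ := F.form d' hd'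
    rw [hf, hf'] at h1
    rcases el_comm i i' j k j' k' with h2 | h2
    · left
      exact F.injK h hm hmK (h1.trans h2)
    · right
      exact F.eqK h hm hc hmK hcK (by rw [h1, h2, hcs])
  refine ⟨c, hc, hcK, ⟨hcc, hc1⟩, hcs, ⟨hc1, hall, ?_⟩, ?_, ?_⟩
  · obtain ⟨d, hd, hdK, hds⟩ := F.ex 1 0
    obtain ⟨d', hd', hdK', hds'⟩ := F.ex 0 1
    refine ⟨d, hd, d', hd', ?_⟩
    rcases hall d hd d' hd' with h1 | h1
    · exfalso
      have hdy := F.syl.cent d hd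
      have hdy' := F.syl.cent d' hd'
      have h2 : φ (d * d' * d⁻¹ * d'⁻¹) = φ d * φ d' * (φ d)⁻¹ * (φ d')⁻¹ := by
        rw [F.mul h (comm_mul (comm_mul hdy hdy') (comm_inv hdy)) (comm_inv hdy'), F.conj h hdy hdy',
          F.inv' h hdy']
      rw [h1, F.one h, hds, hds', ← rho_gamma] at h2
      exact zeta_ne h2.symm
    · exact h1
  · intro g hg
    rcases hall g hg c hc with h1 | h1
    · calc g * c = (g * c * g⁻¹ * c⁻¹) * (c * g) := by group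
        _ = c * g := by rw [h1, one_mul]
    · exfalso
      have hgy := F.syl.cent g hg
      have h2 : φ (g * c * g⁻¹ * c⁻¹) = φ g * φ c * (φ g)⁻¹ * (φ c)⁻¹ := by
        rw [F.mul h (comm_mul (comm_mul hgy hcy) (comm_inv hgy)) (comm_inv hcy), F.conj h hgy hcy, F.inv' h hcy]
      obtain ⟨i, j, k, hf⟩ := F.form g hg
      rw [h1, hcs, hf, zeta_cent i j k] at h2
      have h3 : ζ * el i j k * (el i j k)⁻¹ * ζ⁻¹ = 1 := by group
      rw [h3] at h2
      exact zeta_ne h2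
  · intro a ha haK hcomm
    obtain ⟨i, j, k, hf⟩ := F.form a ha
    have hs := h.even y F.mem a haK
    rw [← F.sign_eq (F.syl.cent a ha), hf, sign_el] at hs
    have hk : k = 0 := by
      by_contra hk
      rw [if_neg hk] at hs
      exact absurd hs (by decide)
    subst hk
    have h1 := cent_S0 i j (by
      intro i' j'
      obtain ⟨d, hd, hdK, hds⟩ := F.ex i' j'
      have h2 := congrArg φ (hcomm d hd)
      rw [F.mul h (F.syl.cent d hd) (F.syl.cent a ha), F.mul h (F.syl.cent a ha) (F.syl.cent d hd), hf, hds] at h2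
      exact h2.symm)
    rcases h1 with h1 | h1
    · left
      exact F.injK h ha haK (hf.trans h1)
    · right
      exact F.eqK h ha hc haK hcK (hf.trans (h1.trans hcs.symm))

end basic

end Fr

end Cfsg.Agent.GH.A7
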