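import Cfsg.Agent.GH.A7.Norm

/-!
# `A₇`, `|Q| = 2`: no inner pairs if `C(y)` contains an odd 2-element
-/

set_option autoImplicit false

namespace Cfsg.Agent.GH.A7

open Subgroup Equiv.Perm
open Cfsg.Agent.GH.TOne
open Cfsg.Agent.GH.L2One.A7 (ρ γ ζ τ)

variable {G : Type*} [Group G] {X : Set G} {K : G → Subgroup G} {σ : G → G → S7}

/-- an odd 2-element of `C(y)` -/
def HasOdd (σ : G → G → S7) (y : G) : Prop :=
  ∃ w, w * y = y * w ∧ IsPGroup 2 (zpowers w) ∧ sign (σ y w) = -1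

theorem sign_zetatau : sign (ζ * τ) = -1 := by decide +kernel

theorem conj_eq_self {g y : G} (h : g * y = y * g) : g * y * g⁻¹ = y := by rw [h]; group

theorem exists_sylC_mem [Finite G] {y w : G} (hw : w * y = y * w) (hw2 : IsPGroup 2 (zpowers w)) :
    ∃ T, SylC y T ∧ w ∈ T := by
  obtain ⟨T, hT, hle⟩ := exists_sylC (y := y) hw2 (by
    intro x hx
    obtain ⟨n, rfl⟩ := mem_zpowers_iff.1 hx
    exact ((show Commute w y from hw).zpow_left n).eq)
  exact ⟨T, hT, hle (mem_zpowers w)⟩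

theorem Sys.sign_conj (h : Sys X K σ) {y : G} (hy : y ∈ X) (g : G) {a : G} (ha : a * y = y * a) :
    sign (σ (g * y * g⁻¹) (g * a * g⁻¹)) = sign (σ y a) := by
  obtain ⟨π, hπ⟩ := h.conjS y hy g
  rw [hπ a ha, map_mul, map_mul, map_inv, mul_comm (sign π), mul_assoc, mul_inv_cancel, mul_one]

theorem Sys.hasOdd_conj (h : Sys X K σ) {y : G} (hy : y ∈ X) (ho : HasOdd σ y) (g : G) :
    HasOdd σ (g * y * g⁻¹) := by
  obtain ⟨w, hw, hw2, hs⟩ := ho
  refine ⟨g * w * g⁻¹, ?_, ?_, ?_⟩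
  · calc g * w * g⁻¹ * (g * y * g⁻¹) = g * (w * y) * g⁻¹ := by group
      _ = g * y * g⁻¹ * (g * w * g⁻¹) := by rw [hw]; group
  · have h1 := hw2.map (MulAut.conj g).toMonoidHom
    rwa [MonoidHom.map_zpowers] at h1
  · rw [h.sign_conj hy g hw, hs]

theorem Fr.exists_tau [Finite G] {y : G} {T : Subgroup G} {φ : G → S7} (F : Fr X K σ y T φ)
    (h : Sys X K σ) (ho : HasOdd σ y) : ∃ w ∈ T, φ w = τ := by
  obtain ⟨w, hw, hw2, hs⟩ := ho
  obtain ⟨T0, hT0, hwT0⟩ := exists_sylC_mem hw hw2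
  obtain ⟨c, hc, hcT⟩ := hT0.exists_conj F.syl
  have hwT : c * w * c⁻¹ ∈ T := by
    rw [← hcT, mem_map_conj]
    have e : c⁻¹ * (c * w * c⁻¹) * c = w := by group
    rwa [e]
  have hs1 : sign (φ (c * w * c⁻¹)) = -1 := by
    rw [F.sign_eq (F.syl.cent _ hwT)]
    have := h.sign_conj F.mem c hw
    rwa [conj_eq_self hc, hs] at this
  obtain ⟨d, hd, hdK, p, hp, e, k, hk⟩ := F.split h hwT
  rw [e, F.mul h (F.syl.cent d hd) (F.syl.cent p hp), map_mul, F.sign_eq (F.syl.cent d hd),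
    h.even y F.mem d hdK, one_mul, hk] at hs1
  refine ⟨p, hp, ?_⟩
  rw [hk]
  fin_cases k
  · exact absurd hs1 (by decide)
  · rfl

/-- an inner pair gives `t = c * y`, `c` the central involution of `T ⊓ K y` -/
theorem Sys.inner_pair [Finite G] (h : Sys X K σ) {y t : G} (hy : y ∈ X) (ht : t ∈ X) (hc : t * y = y * t)
    (hne : t ≠ y) (hs : sign (σ y t) = 1) :
    ∃ T φ c, Fr X K σ y T φ ∧ c ∈ T ∧ c ∈ K y ∧ Inv c ∧ φ c = ζ ∧ ZT T c ∧ (∀ g ∈ T, g * c = c * g) ∧
      (∀ a ∈ T, a ∈ K y → (∀ g ∈ T, g * a = a * g) → a = 1 ∨ a = c) ∧ t = c * y := by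
  obtain ⟨T, hT, htT, hTt⟩ := h.exists_central hy (h.inv t ht) hc (fun hsw => by
    have := hsw.sign
    rw [hs] at this
    exact absurd this (by decide))
  obtain ⟨φ, F⟩ := h.exists_fr hy hT
  obtain ⟨c, hcT, hcK, hci, hcs, hcZ, hcc, hcu⟩ := F.exists_zz h
  refine ⟨T, φ, c, F, hcT, hcK, hci, hcs, hcZ, hcc, hcu, ?_⟩
  obtain ⟨d, hd, hdK, p, hp, e, k, hk⟩ := F.split h htT
  have hdy := F.syl.cent d hd
  have hpy := F.syl.cent p hp
  have hk0 : k = 0 := by
    rw [← F.sign_eq hc, e, F.mul h hdy hpy, map_mul, F.sign_eq hdy, h.even y hy d hdK, one_mul, hk] at hs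
    fin_cases k
    · rfl
    · exact absurd hs (by decide +kernel)
  subst hk0
  have hp1 : φ p = 1 := hk
  have hdc : ∀ g ∈ T, g * d = d * g := by
    intro g hg
    have h1 := hTt g hg
    have h2 := F.central_P h hp hg hk
    have e2 : d = t * p⁻¹ := by rw [e]; group
    rw [e2]
    have c1 : Commute g t := h1
    have c2 : Commute g p := h2
    exact (c1.mul_right c2.inv_right).eq
  rcases F.inj h hp hp1 with h1 | h1
  · exfalso
    rw [h1, mul_one] at e
    rw [← e] at hdK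
    exact h.not_mem hy ht hdK
  · rcases hcu d hd hdK hdc with h2 | h2
    · exact absurd (by rw [e, h1, h2, one_mul]) hne
    · rw [e, h1, h2]

/-- **(I)**: if `C(y)` contains an odd 2-element, then `y ^ G` contains no inner pair. -/
theorem Sys.not_inner [Finite G] (h : Sys X K σ) {y : G} (hy : y ∈ X) (ho : HasOdd σ y) {g : G}
    (hc : g * y * g⁻¹ * y = y * (g * y * g⁻¹)) (hne : g * y * g⁻¹ ≠ y) :
    sign (σ y (g * y * g⁻¹)) = -1 := by
  by_contra hs
  have hs : sign (σ y (g * y * g⁻¹)) = 1 := by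
    rcases Int.units_eq_one_or (sign (σ y (g * y * g⁻¹))) with h1 | h1
    · exact h1
    · exact absurd h1 hs
  have ht := h.conj y hy g
  obtain ⟨T, φ, c, F, hcT, hcK, hci, hcs, hcZ, hcc, hcu, e⟩ := h.inner_pair hy ht hc hne hs
  have hyi := h.inv y hy
  have hyT := F.y_mem h
  have hcy := F.syl.cent c hcT
  have htT : c * y ∈ T := mul_mem hcT hyT
  have hcent : ∀ g ∈ T, g * (c * y) = c * y * g := fun g hg => by
    have c1 : Commute g c := hcc g hg
    have c2 : Commute g y := F.syl.cent g hg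
    exact (c1.mul_right c2).eq
  -- `n`
  obtain ⟨n, hn, hnT⟩ : ∃ n, n * y * n⁻¹ = c * y ∧ T.map (MulAut.conj n).toMonoidHom = T := by
    have h1 := F.syl.conj g
    have h2 : SylC (g * y * g⁻¹) T := F.syl.of_conj rfl (by rw [e]; exact hcent)
    obtain ⟨a, ha, haT⟩ := h1.exists_conj h2
    refine ⟨a * g, ?_, ?_⟩
    · have e2 : a * g * y * (a * g)⁻¹ = a * (g * y * g⁻¹) * a⁻¹ := by group
      rw [e2, conj_eq_self ha, e]
    · refine Eq.trans ?_ haT
      ext x
      rw [mem_map_conj, mem_map_conj, mem_map_conj]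
      have e2 : (a * g)⁻¹ * x * (a * g) = g⁻¹ * (a⁻¹ * x * a) * g := by group
      rw [e2]
  have hnmem : ∀ x ∈ T, n * x * n⁻¹ ∈ T := by
    intro x hx
    rw [← hnT, mem_map_conj]
    have e2 : n⁻¹ * (n * x * n⁻¹) * n = x := by group
    rwa [e2]
  have hnmem' : ∀ x ∈ T, n⁻¹ * x * n ∈ T := by
    intro x hx
    rw [← hnT, mem_map_conj] at hx
    exact hx
  have hnc : n * c * n⁻¹ = c := by
    have h1 := hcZ.conj n
    rw [hnT] at h1
    exact h1.unique hcZ
  have hncy : n * (c * y) * n⁻¹ = y := by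
    have e2 : n * (c * y) * n⁻¹ = (n * c * n⁻¹) * (n * y * n⁻¹) := by group
    rw [e2, hnc, hn, ← mul_assoc, hci.sq, one_mul]
  have hcKt : c ∈ K (c * y) := by
    have h1 := h.conjK y hy n c hcK
    rwa [hnc, hn] at h1
  rw [e] at ht hne hc
  have hycy : y * (c * y) = c := by
    rw [← mul_assoc, ← hcy, mul_assoc, hyi.sq, mul_one]
  obtain ⟨w, hw, hwφ⟩ := F.exists_tau h ho
  have hwy := F.syl.cent w hw
  have hw'T := hnmem w hw
  have hw'y := F.syl.cent _ hw'T
  obtain ⟨w', hw'⟩ : ∃ w', w' = n * w * n⁻¹ := ⟨_, rfl⟩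
  rw [← hw'] at hw'T hw'y
  have hw'c : ∀ g ∈ T, g * w' = w' * g := by
    intro g hg
    have h1 := F.central_P h hw (hnmem' g hg) (k := 1) hwφ
    rw [hw']
    calc g * (n * w * n⁻¹) = n * ((n⁻¹ * g * n) * w) * n⁻¹ := by group
      _ = n * (w * (n⁻¹ * g * n)) * n⁻¹ := by rw [h1]
      _ = n * w * n⁻¹ * g := by group
  obtain ⟨d, hd, hdK, p, hp, ew, k, hk⟩ := F.split h hw'T
  have hpy := F.syl.cent p hp
  have hdc : ∀ g ∈ T, g * d = d * g := by
    intro g hg
    have h1 := hw'c g hg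
    have h2 := F.central_P h hp hg hk
    have e2 : d = w' * p⁻¹ := by rw [ew]; group
    rw [e2]
    have c1 : Commute g w' := h1
    have c2 : Commute g p := h2
    exact (c1.mul_right c2.inv_right).eq
  have hd2 : d = 1 ∨ d = c := hcu d hd hdK hdc
  have hdd : d * d = 1 := by
    rcases hd2 with h1 | h1
    · rw [h1, one_mul]
    · rw [h1, hci.sq]
  have hττ : ∀ k : Fin 2, τ ^ k.val * τ ^ k.val = 1 := by decide +kernel
  have hpp : p * p = 1 ∨ p * p = y := F.inj h (mul_mem hp hp) (by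
    rw [F.mul h hpy hpy, hk]; exact hττ k)
  have hww : w * w = 1 ∨ w * w = y := F.inj h (mul_mem hw hw) (by
    rw [F.mul h hwy hwy, hwφ]; exact hττ 1)
  have hw'w' : w' * w' = n * (w * w) * n⁻¹ := by rw [hw']; group
  have hcy1 : c * y ≠ 1 := by
    intro h1
    have h2 : y = c := by
      rw [← hci.inv_eq]
      exact eq_inv_of_mul_eq_one_right h1
    rw [← h2] at hcK
    exact F.not_mem_K h hcK
  rcases hww with hww | hww
  swap
  · -- `w * w = y`
    rw [hww, hn] at hw'w'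
    have h1 : w' * w' = p * p := by
      have h2 := hdc p hp
      rw [ew]
      calc d * p * (d * p) = d * (p * d) * p := by group
        _ = d * (d * p) * p := by rw [h2]
        _ = (d * d) * (p * p) := by group
        _ = p * p := by rw [hdd, one_mul]
    rw [h1] at hw'w'
    rcases hpp with h2 | h2
    · exact hcy1 (hw'w'.symm.trans h2)
    · apply hci.ne
      have h3 : c * y = 1 * y := by rw [← hw'w', h2, one_mul]
      exact mul_right_cancel h3
  -- `w * w = 1`
  have hwi : w' * w' = 1 := by rw [hw'w', hww]; group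
  obtain ⟨w0, hw0T, hw0φ, hw0⟩ : ∃ w0 ∈ T, φ w0 = τ ∧ (w0 = w' ∨ w0 = w' * (c * y)) := by
    have hk1 : k = 1 := by
      by_contra hk1
      have hk0 : k = 0 := by omega
      have hp1 : φ p = 1 := by rw [hk, hk0]; rfl
      have h1 : w' = 1 ∨ w' = n * (c * y) * n⁻¹ ∨ w' = n * c * n⁻¹ ∨ w' = n * y * n⁻¹ := by
        rw [hnc, hn, hncy]
        rcases hd2 with h2 | h2 <;> rcases F.inj h hp hp1 with h3 | h3 <;> rw [ew, h2, h3]
        · left; rw [mul_one]
        · right; left; rw [one_mul]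
        · right; right; left; rw [mul_one]
        · right; right; right; rfl
      have hcan : ∀ a, w' = n * a * n⁻¹ → w = a := by
        intro a h2
        rw [hw'] at h2
        exact mul_left_cancel (mul_right_cancel h2)
      have h2 : φ w = 1 ∨ φ w = ζ := by
        rcases h1 with h1 | h1 | h1 | h1
        · left
          have : w = 1 := hcan 1 (by rw [h1]; group)
          rw [this, F.one h]
        · right
          rw [hcan _ h1, F.mul h hcy rfl, F.phi_y h, mul_one, hcs]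
        · right
          rw [hcan _ h1, hcs]
        · left
          rw [hcan _ h1, F.phi_y h]
      rw [hwφ] at h2
      revert h2
      decide +kernel
    subst hk1
    have hk' : φ p = τ := hk
    rcases hd2 with h2 | h2
    · refine ⟨p, hp, hk', Or.inl ?_⟩
      rw [ew, h2, one_mul]
    · refine ⟨p * y, mul_mem hp hyT, ?_, Or.inr ?_⟩
      · rw [F.mul h hpy rfl, F.phi_y h, mul_one, hk']
      · rw [ew, h2]
        have h3 := hcc p hp
        calc p * y = (c * c) * p * y := by rw [hci.sq, one_mul]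
          _ = c * (c * p) * y := by group
          _ = c * (p * c) * y := by rw [h3]
          _ = c * p * (c * y) := by group
  have hw0y := F.syl.cent w0 hw0T
  have hw0t := hcent w0 hw0T
  have hw0c := hcc w0 hw0T
  have hw0i : Inv w0 := by
    refine ⟨?_, ?_⟩
    · rcases hw0 with h1 | h1
      · rw [h1, hwi]
      · have h2 := hcent w' hw'T
        have h3 : c * y * (c * y) = 1 := (h.inv _ ht).sq
        rw [h1]
        calc w' * (c * y) * (w' * (c * y)) = w' * (c * y * w') * (c * y) := by group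
          _ = w' * (w' * (c * y)) * (c * y) := by rw [h2]
          _ = (w' * w') * (c * y * (c * y)) := by group
          _ = 1 := by rw [hwi, h3, one_mul]
    · intro h1
      rw [h1, F.one h] at hw0φ
      revert hw0φ
      decide +kernel
  have hsw1 : Sw (σ y w0) := (F.sw_iff hw0y).1 (by rw [hw0φ]; exact tau_sw)
  have hoff1 : Off (σ y w0) (σ y c) := F.off hw0y hcy (by rw [hw0φ, hcs]; exact off_tau_zeta)
  obtain ⟨π, hπ⟩ := h.conjS y hy n
  rw [hn] at hπ
  have hσt : σ (c * y) w0 = π * σ y w * π⁻¹ := by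
    rw [← hπ w hwy, ← hw']
    rcases hw0 with h1 | h1
    · rw [h1]
    · rw [h1, h.mul _ ht _ _ (hcent w' hw'T) rfl, h.self _ ht, mul_one]
  have hσc : σ (c * y) c = π * σ y c * π⁻¹ := by
    have h1 := hπ c hcy
    rwa [hnc] at h1
  have hsw2 : Sw (σ (c * y) w0) := by
    rw [hσt]
    exact Sw.conj ((F.sw_iff hwy).1 (by rw [hwφ]; exact tau_sw)) π
  have hoff2 : Off (σ (c * y) w0) (σ (c * y) c) := by
    rw [hσt, hσc]
    exact Off.conj (F.off hwy hcy (by rw [hwφ, hcs]; exact off_tau_zeta)) π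
  have hc2 : IsPGroup 2 (zpowers c) := isPGroup_zpowers_of_sq hci.sq
  by_cases hX : w0 ∈ X
  · obtain ⟨h1, h2⟩ := h.share y hy w0 hX hw0y hsw1 c hcK hw0c.symm hc2 hoff1
    have h3 := h.transp y hy w0 hX hw0y hsw1
    have h4 := h.transp _ ht w0 hX hw0t hsw2
    have h5 : σ w0 c ≠ 1 := fun h6 => hci.ne (h.eqK w0 hX c h1 h6 hc2)
    apply not_sw_mul h3 h5 h2
    rw [← h.mul w0 hX _ _ hw0y.symm hw0c.symm, ← hcy]
    exact h4
  · refine h.outside y hy (c * y) ht hne hc w0 hX hw0i hw0y hw0t hsw1 hsw2 ?_ ?_ ?_ ?_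
    all_goals rw [hycy]
    · exact hcK
    · exact hcKt
    · exact hoff1
    · exact hoff2

end Cfsg.Agent.GH.A7
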