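import Cfsg.Agent.GH.A7.InstShare

/-!
# GH-L2, `K / O(K) = A₇`, `|Q| = 2`: the instance of `A7.Sys`

`exists_sys`: `XSet X 2520`, all 2-components have tops `L₂(q)`, `q` odd, or `A₇` and order (mod core) at most 2520, `X`
contains all involutions with a 2-component of order 2520 (mod core), `Q_y = ⟨y⟩` for `y ∈ X`.
`exists_sys_max`: `X = maxSet G`.
-/

set_option autoImplicit false
set_option linter.unusedSectionVars false

open Cfsg Subgroup
open Cfsg.Agent.SignalizersComponents Cfsg.Agent.Lib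
open Cfsg.Agent.SignalizersComponents.IntrinsicBasic
open Cfsg.Agent.Intrinsic.Basic Cfsg.Agent.Intrinsic.Cen
open Cfsg.Agent.GH.Defs Cfsg.Agent.GH.Comp Cfsg.Agent.GH.XSet Cfsg.Agent.GH.L2Frame
open Cfsg.Agent.GH.A7.InstBase Cfsg.Agent.GH.A7.InstPerm Cfsg.Agent.GH.A7.InstJ
open Cfsg.Agent.GH.A7.InstSig Cfsg.Agent.GH.A7.InstShare
open Cfsg.Agent.GH.TOne Cfsg.Agent.GH.L2Quad Cfsg.Agent.GH.L2FourOC
open scoped commutatorElement Pointwise

namespace Cfsg.Agent.GH.A7.Inst

variable {G : Type*} [Group G] [Finite G] {X : Set G}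

section out

variable (h : XBase X) (hodd : ∀ y ∈ X, ¬ EvenCenter (KK y)) (e : Isos X)

include h hodd

/-- (JP) `y` fixes the 2-component of `C(w)`. -/
theorem fixes_L {y w : G} (hy : y ∈ X) (hw : w * w = 1) (hwy : w * y = y * w)
    (hc : IsComp (centralizer ({w} : Set G)) (KK w)) (hwodd : ¬ EvenCenter (KK w))
    (hN : y ∈ normalizer (KK w : Set G)) (hL : IsL2odd (STop (KK w)))
    (hcard : Nat.card (Bar (KK w)) ≤ 2520) (hs : Sw (sg e y w)) : Fixes y (KK w) := by
  by_contra hnf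
  obtain ⟨i, j, hij, hsw⟩ := hs
  obtain ⟨J, hJ, hJy, hJw, h60, -⟩ := exists_J h hodd e hy hw hwy hij hsw
  obtain ⟨F, _, _, hF, -, ⟨ε⟩⟩ := hL
  have R : L2Aut.Rep F (STop (KK w)) := L2Aut.Rep.ofEquiv (L2Aut.two_ne_zero_of_odd hF) ε
  have h1 : act (KK w) ⟨y, hN⟩ ≠ 1 := fun h1 => hnf ((act_eq_one_iff (quasisimple hc) hN).1 h1)
  have h2 : act (KK w) ⟨y, hN⟩ * act (KK w) ⟨y, hN⟩ = 1 := by
    rw [← map_mul]
    have h3 : (⟨y, hN⟩ * ⟨y, hN⟩ : normalizer (KK w : Set G)) = 1 := Subtype.ext (h.sq hy)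
    rw [h3, map_one]
  have h3 := card_dvd_range _ (odd_ker hwodd hJw)
  rw [h60] at h3
  have h4 : 0 < Nat.card ((topMap (KK w)).comp (inclusion hJw)).range := Nat.card_pos
  have h5 := Nat.le_of_dvd h4 h3
  refine InstL2.no_perfect R (InstL2.card_lt R ?_) h1 h2 (range_perfect hJ.perfect _)
    (lt_of_lt_of_le (by norm_num) h5) ?_
  · refine le_trans (Nat.card_le_card_of_surjective (QuotientGroup.mk' (center (Bar (KK w))))
      (QuotientGroup.mk'_surjective _)) hcard
  · rintro _ ⟨x, rfl⟩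
    change act (KK w) ⟨y, hN⟩ (topMap (KK w) (inclusion hJw x)) = topMap (KK w) (inclusion hJw x)
    rw [act_apply]
    congr 1
    apply Subtype.ext
    change y * (x : G) * y⁻¹ = x
    rw [mul_inv_eq_iff_eq_mul]
    exact (h.comm_of_mem hy (hJy x.2)).eq.symm

end out

/-- `outside` -/
theorem outside (hG : Hyp G) (ho : AllOdd G) (h : XBase X) (e : Isos X)
    (hT : ∀ (x : G) (K : Subgroup G), Comp2 x K → x ∉ X →
      IsL2odd (STop K) ∧ Nat.card (Bar K) ≤ 2520)
    {y t w : G} (hy : y ∈ X) (ht : t ∈ X) (hne : t ≠ y) (hty : t * y = y * t) (hwX : w ∉ X)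
    (hw : Inv w) (hwy : w * y = y * w) (hwt : w * t = t * w) (hsy : Sw (sg e y w))
    (hst : Sw (sg e t w)) (hc1 : y * t ∈ KK y)
    (ho1 : Off (sg e y w) (sg e y (y * t))) : False := by
  have hodd : ∀ y ∈ X, ¬ EvenCenter (KK y) := fun y hy => ho y _ ⟨h.inv y hy, h.comp y hy⟩
  have hcc : y * t * (y * t) = 1 := by
    calc y * t * (y * t) = y * (t * y) * t := by group
      _ = y * (y * t) * t := by rw [hty]
      _ = (y * y) * (t * t) := by group
      _ = 1 := by rw [h.sq hy, h.sq ht, one_mul]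
  have hcw : y * t * w = w * (y * t) := by
    calc y * t * w = y * (t * w) := by group
      _ = y * (w * t) := by rw [hwt]
      _ = (y * w) * t := by group
      _ = w * (y * t) := by rw [← hwy]; group
  -- the 2-component of `C(w)`
  obtain ⟨i, j, hij, hsw⟩ := id hsy
  obtain ⟨J, hJ, hJy, hJw, h60, hmem⟩ := exists_J h hodd e hy hw.sq hwy hij hsw
  rw [hsw] at ho1
  have hcJ : y * t ∈ J := hmem _ hc1 hcw
    (ho1 i (by rw [Equiv.swap_apply_left]; exact hij.symm))
    (ho1 j (by rw [Equiv.swap_apply_right]; exact hij)) (isPGroup_zpowers_of_sq hcc)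
  have hne0 : L2 (centralizer ({w} : Set G)) ≠ ⊥ := by
    intro h0
    have h1 : J ≤ ⊥ := by
      rw [← h0]
      exact hJw
    exact hJ.ne_bot (le_bot_iff.1 h1)
  obtain ⟨L, hL⟩ := exists_comp2_of_L2_ne_bot hw.orderOf hne0
  have hKL : KK w = L := L2Pair.KK_eq hG ho hL
  rw [← hKL] at hL
  obtain ⟨hL1, hL2⟩ := hT w _ hL hwX
  have hN := centralizer_le_normalizer hG ho hL
  have f1 : Fixes y (KK w) := fixes_L h hodd e hy hw.sq hwy hL.comp (ho _ _ hL)
    (hN (mem_centralizer_singleton_iff.2 hwy.symm)) hL1 hL2 hsy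
  have f2 : Fixes t (KK w) := fixes_L h hodd e ht hw.sq hwt hL.comp (ho _ _ hL)
    (hN (mem_centralizer_singleton_iff.2 hwt.symm)) hL1 hL2 hst
  have h1 := eq_one_of_odd hL.comp (ho _ _ hL) (fixes_mul f1 f2) ⟨y * t, hJw hcJ, by
    rw [inv_mul_cancel]; exact one_mem _⟩ (n := 1) (by rw [pow_one, pow_two, hcc])
  apply hne
  have h2 : t = y * (y * t) := by
    calc t = (y * y) * t := by rw [h.sq hy, one_mul]
      _ = y * (y * t) := by group
  rw [h2, h1, mul_one]

/-- **The instance.** -/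
theorem exists_sys (hG : Hyp G) (ho : AllOdd G) (h : XSet X 2520)
    (hT : ∀ (x : G) (K : Subgroup G), Comp2 x K → IsTop (STop K))
    (hmax : ∀ (x : G) (K : Subgroup G), Comp2 x K → Nat.card (Bar K) ≤ 2520)
    (hX : ∀ (x : G) (K : Subgroup G), Comp2 x K → Nat.card (Bar K) = 2520 → x ∈ X)
    (hQ : ∀ y ∈ X, ∀ a : G, a * y = y * a → Fixes a (KK y) → IsPGroup 2 (zpowers a) →
      a = 1 ∨ a = y) : ∃ σ : G → G → S7, Sys X KK σ := by
  have hodd : ∀ y ∈ X, ¬ EvenCenter (KK y) := fun y hy => ho y _ ⟨h.inv y hy, h.comp y hy⟩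
  have hcard : ∀ (x : G) (K : Subgroup G), Comp2 x K → Nat.card (STop K) = Nat.card (Bar K) :=
    fun x K hK => Nat.card_congr (topEquiv (ho x K hK)).toEquiv
  -- `A₇`
  have hA : ∀ y ∈ X, Nonempty (STop (KK y) ≃* alternatingGroup (Fin 7)) := by
    intro y hy
    have hy2 : Comp2 y (KK y) := ⟨h.inv y hy, h.comp y hy⟩
    rcases hT y _ hy2 with h1 | h1
    · exfalso
      obtain ⟨F, _, _, hF, h5, ⟨ε⟩⟩ := h1
      have R : L2Aut.Rep F (STop (KK y)) := L2Aut.Rep.ofEquiv (L2Aut.two_ne_zero_of_odd hF) ε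
      have h2 := L2AutField.card_range R.two R.π R.ker
      rw [MonoidHom.range_eq_top.2 R.surj, Subgroup.card_top, hcard y _ hy2, h.card y hy] at h2
      obtain ⟨q, hq⟩ : ∃ q, q = Nat.card F := ⟨_, rfl⟩
      rw [← hq] at h2
      have h3 : q < 18 := by
        by_contra hcon
        push Not at hcon
        have h4 : 18 ^ 2 ≤ q ^ 2 := Nat.pow_le_pow_left hcon 2
        have h5 : 18 * 323 ≤ q * (q ^ 2 - 1) := Nat.mul_le_mul hcon (by omega)
        omega
      interval_cases q <;> omega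
    · exact h1
  let e : Isos X := fun y hy => (hA y hy).some
  have hL : ∀ (x : G) (K : Subgroup G), Comp2 x K → x ∉ X →
      IsL2odd (STop K) ∧ Nat.card (Bar K) ≤ 2520 := by
    intro x K hK hx
    refine ⟨?_, hmax x K hK⟩
    rcases hT x K hK with h1 | ⟨⟨ε⟩⟩
    · exact h1
    · exfalso
      apply hx
      apply hX x K hK
      rw [← hcard x K hK, Nat.card_congr ε.toEquiv, L2FourAlt.card_alt]
  refine ⟨sg e, ?_⟩
  exact
    { inv := fun y hy => inv_of_orderOf (h.inv y hy)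
      conj := h.conj
      conjK := by
        intro y hy g k hk
        rw [← h.toXBase.cj_KK hy g]
        exact conj_mem_cj g hk
      centK := fun y hy k hk => (h.toXBase.comm_of_mem hy hk).eq
      mul := fun y hy a b ha hb => sg_mul h.toXBase e hy ha hb
      self := fun y hy => sg_self h.toXBase e hy
      conjS := fun y hy g => sg_conj h.toXBase e hy g
      even := fun y hy k hk => sg_even h.toXBase e hy hk
      onto := fun y hy π hπ => sg_onto h.toXBase e hy hπ
      eqK := fun y hy k hk h1 h2 => sg_eqK h.toXBase hodd e hy hk h1 h2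
      eqQ := fun y hy a ha h1 h2 =>
        hQ y hy a ha ((sg_eq_one_iff h.toXBase e hy ha).1 h1) h2
      transp := fun y hy t ht hty hs => transp h.toXBase hodd e hQ hy ht hty hs
      share := fun y hy t ht hty hs k hk hkt h2 ho' =>
        share h.toXBase hodd e hQ hy ht hty hs hk hkt h2 ho'
      outside := fun y hy t ht hne hty w hwX hw hwy hwt hsy hst hc1 _ ho1 _ =>
        outside hG ho h.toXBase e hL hy ht hne hty hwX hw hwy hwt hsy hst hc1 ho1 }

/-- The instance for `maxSet G`. -/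
theorem exists_sys_max (hG : Hyp G) (ho : AllOdd G) {x : G} {K : Subgroup G} (hK : Max2 x K)
    (hK7 : IsAlt 7 (STop K)) (hT : ∀ (x : G) (K : Subgroup G), Comp2 x K → IsTop (STop K))
    (hQ : ∀ y ∈ L2Pair.maxSet G, ∀ a : G, a * y = y * a → Fixes a (KK y) →
      IsPGroup 2 (zpowers a) → a = 1 ∨ a = y) :
    ∃ σ : G → G → S7, Sys (L2Pair.maxSet G) KK σ := by
  have hc : Nat.card (Bar K) = 2520 := by
    obtain ⟨ε⟩ := hK7
    rw [← Nat.card_congr (topEquiv (ho x K hK.comp2)).toEquiv, Nat.card_congr ε.toEquiv,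
      L2FourAlt.card_alt]
  have hX := L2Pair.xset_max hG ho hK
  rw [hc] at hX
  refine exists_sys hG ho hX hT (fun z L hL => ?_) (fun z L hL h1 => ?_) hQ
  · rw [← hc]
    exact hK.le z L hL
  · exact ⟨L, hK.of_card hL (by rw [h1, hc])⟩

end Cfsg.Agent.GH.A7.Inst
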