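import Cfsg.Agent.GH.A7.Sys
import Cfsg.Agent.GH.TOne.Inst
import Cfsg.Agent.StandardComponent.AltAut

/-!
# GH-L2, `K / O(K) = A₇`: the action on seven points

`rep e : N(K) → S₇` for `e : STop K ≃* A₇`: `e (a l) = rep a * e l * (rep a)⁻¹`, `rep k = e (topMap k)` for `k ∈ K`,
`rep a = 1` iff `a` fixes `K`, conjugation.
-/

set_option autoImplicit false
set_option linter.unusedSectionVars false

open Cfsg Subgroup
open Cfsg.Agent.SignalizersComponents Cfsg.Agent.Lib
open Cfsg.Agent.SignalizersComponents.IntrinsicBasic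
open Cfsg.Agent.Intrinsic.Basic Cfsg.Agent.Intrinsic.Cen
open Cfsg.Agent.GH.Defs Cfsg.Agent.GH.Comp Cfsg.Agent.GH.XSet Cfsg.Agent.GH.L2Frame
open Cfsg.Agent.StandardComponent
open scoped commutatorElement Pointwise

namespace Cfsg.Agent.GH.A7.InstBase

theorem exists_psi : ∃ ψ : MulAut (alternatingGroup (Fin 7)) →* S7,
    ∀ (e : MulAut (alternatingGroup (Fin 7))) (x : alternatingGroup (Fin 7)),
      ((e x : alternatingGroup (Fin 7)) : S7) = ψ e * x * (ψ e)⁻¹ := AltAut.exists_autHom 7 le_rfl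

/-- The automorphisms of `A₇` as elements of `S₇`. -/
noncomputable def psi : MulAut (alternatingGroup (Fin 7)) →* S7 := exists_psi.choose

theorem psi_spec (e : MulAut (alternatingGroup (Fin 7))) (x : alternatingGroup (Fin 7)) :
    ((e x : alternatingGroup (Fin 7)) : S7) = psi e * x * (psi e)⁻¹ := exists_psi.choose_spec e x

variable {G : Type*} [Group G]

section rep

variable {K : Subgroup G} (e : STop K ≃* alternatingGroup (Fin 7))

/-- The action of `N(K)` on seven points. -/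
noncomputable def rep : normalizer (K : Set G) →* S7 :=
  psi.comp ((MulAut.congr e).toMonoidHom.comp (act K))

theorem rep_spec (a : normalizer (K : Set G)) (l : STop K) :
    ((e (act K a l) : alternatingGroup (Fin 7)) : S7) = rep e a * (e l : S7) * (rep e a)⁻¹ := by
  have h1 := psi_spec (MulAut.congr e (act K a)) (e l)
  have h2 : MulAut.congr e (act K a) (e l) = e (act K a (e.symm (e l))) := rfl
  rw [h2, e.symm_apply_apply] at h1
  exact h1

theorem rep_unique {a : normalizer (K : Set G)} {π : S7}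
    (h : ∀ l : STop K, ((e (act K a l) : alternatingGroup (Fin 7)) : S7) = π * (e l : S7) * π⁻¹) :
    rep e a = π := by
  apply AltAut.conj_unique (m := 5) (by norm_num)
  intro x
  obtain ⟨l, rfl⟩ := e.surjective x
  rw [← h]
  exact (rep_spec e a l).symm

theorem rep_mem (k : K) : rep e ⟨k, le_normalizer k.2⟩ = (e (topMap K k) : S7) := by
  apply rep_unique
  intro l
  rw [act_of_mem, MulAut.conj_apply, map_mul, map_mul, map_inv]
  rfl

theorem rep_mem' {k : G} (hk : k ∈ K) (hN : k ∈ normalizer (K : Set G)) :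
    rep e ⟨k, hN⟩ = (e (topMap K ⟨k, hk⟩) : S7) := rep_mem e ⟨k, hk⟩

theorem rep_eq_one_iff (hq : IsQuasisimple (Bar K)) {a : G} (ha : a ∈ normalizer (K : Set G)) :
    rep e ⟨a, ha⟩ = 1 ↔ Fixes a K := by
  rw [← act_eq_one_iff hq ha]
  constructor
  · intro h
    ext l
    apply e.injective
    apply Subtype.ext
    rw [rep_spec, h]
    simp
  · intro h
    apply rep_unique
    intro l
    rw [h]
    simp

end rep

/-- Two surjections with the same kernel. -/
theorem exists_equiv_of_ker {A B C : Type*} [Group A] [Group B] [Group C] {f : A →* B} {g : A →* C}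
    (hf : Function.Surjective f) (hg : Function.Surjective g) (h : f.ker = g.ker) :
    ∃ φ : B ≃* C, ∀ a, φ (f a) = g a := by
  refine ⟨((QuotientGroup.quotientKerEquivOfSurjective f hf).symm.trans
    (QuotientGroup.quotientMulEquivOfEq h)).trans
      (QuotientGroup.quotientKerEquivOfSurjective g hg), fun a => ?_⟩
  have h1 : (QuotientGroup.quotientKerEquivOfSurjective f hf).symm (f a) =
      (QuotientGroup.mk a : A ⧸ f.ker) := by
    rw [MulEquiv.symm_apply_eq]
    rfl
  rw [MulEquiv.trans_apply, MulEquiv.trans_apply, h1]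
  rfl

theorem conj_mem_cj {K : Subgroup G} (g : G) {k : G} (hk : k ∈ K) : g * k * g⁻¹ ∈ cj g K := by
  rw [mem_cj]
  have h1 : g⁻¹ * (g * k * g⁻¹) * g = k := by group
  rwa [h1]

/-- `K → STop (cj g K)` -/
def cjTop (K : Subgroup G) (g : G) : K →* STop (cj g K) where
  toFun k := topMap (cj g K) ⟨g * k * g⁻¹, conj_mem_cj g k.2⟩
  map_one' := by
    have : (⟨g * ((1 : K) : G) * g⁻¹, conj_mem_cj g (1 : K).2⟩ : cj g K) = 1 :=
      Subtype.ext (by simp)
    rw [this, map_one]
  map_mul' a b := by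
    rw [← map_mul]
    congr 1
    apply Subtype.ext
    change g * ((a : G) * b) * g⁻¹ = g * a * g⁻¹ * (g * b * g⁻¹)
    group

theorem cjTop_surjective (K : Subgroup G) (g : G) : Function.Surjective (cjTop K g) := by
  intro l
  obtain ⟨⟨k, hk⟩, rfl⟩ := topMap_surjective (cj g K) l
  rw [mem_cj] at hk
  refine ⟨⟨_, hk⟩, ?_⟩
  change topMap (cj g K) _ = _
  congr 1
  apply Subtype.ext
  change g * (g⁻¹ * k * g) * g⁻¹ = k
  group

theorem ker_cjTop (K : Subgroup G) (g : G) : (topMap K).ker = (cjTop K g).ker := by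
  ext k
  rw [MonoidHom.mem_ker (f := cjTop K g)]
  change _ ↔ topMap (cj g K) ⟨g * k * g⁻¹, conj_mem_cj g k.2⟩ = 1
  rw [← MonoidHom.mem_ker, mem_ker_iff, mem_ker_iff, mem_fix, mem_fix]
  constructor
  · exact fun h => h.cj g
  · intro h
    have h1 := h.cj g⁻¹
    have e1 : cj g⁻¹ (cj g K) = K := by
      ext x
      rw [mem_cj, mem_cj]
      have : g⁻¹ * (g⁻¹⁻¹ * x * g⁻¹) * g = x := by group
      rw [this]
    have e2 : g⁻¹ * (g * (k : G) * g⁻¹) * g⁻¹⁻¹ = k := by group
    rw [e1] at h1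
    change Fixes (g⁻¹ * (g * (k : G) * g⁻¹) * g⁻¹⁻¹) K at h1
    rwa [e2] at h1

/-- Conjugation: `rep` of `cj g K` is conjugate to `rep` of `K`. -/
theorem exists_conj {K : Subgroup G} (e : STop K ≃* alternatingGroup (Fin 7)) (g : G)
    {K' : Subgroup G} (hK' : K' = cj g K) (e' : STop K' ≃* alternatingGroup (Fin 7)) :
    ∃ π : S7, ∀ (a : G) (ha : a ∈ normalizer (K : Set G))
      (ha' : g * a * g⁻¹ ∈ normalizer (K' : Set G)),
        rep e' ⟨g * a * g⁻¹, ha'⟩ = π * rep e ⟨a, ha⟩ * π⁻¹ := by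
  subst hK'
  obtain ⟨φ, hφ⟩ := exists_equiv_of_ker (topMap_surjective K) (cjTop_surjective K g)
    (ker_cjTop K g)
  let θ : MulAut (alternatingGroup (Fin 7)) := (e.symm.trans φ).trans e'
  have hθ : ∀ l : STop K, ((e' (φ l) : alternatingGroup (Fin 7)) : S7) =
      psi θ * (e l : S7) * (psi θ)⁻¹ := by
    intro l
    have h1 := psi_spec θ (e l)
    have h2 : θ (e l) = e' (φ (e.symm (e l))) := rfl
    rw [h2, e.symm_apply_apply] at h1
    exact h1
  refine ⟨psi θ, fun a ha ha' => ?_⟩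
  apply rep_unique
  intro l'
  obtain ⟨l, rfl⟩ := φ.surjective l'
  have h1 : act (cj g K) ⟨g * a * g⁻¹, ha'⟩ (φ l) = φ (act K ⟨a, ha⟩ l) := by
    obtain ⟨k, rfl⟩ := topMap_surjective K l
    rw [hφ, act_apply, hφ]
    change act (cj g K) ⟨g * a * g⁻¹, ha'⟩ (topMap (cj g K) ⟨g * k * g⁻¹, conj_mem_cj g k.2⟩) =
      topMap (cj g K) ⟨g * (a * k * a⁻¹) * g⁻¹, _⟩
    rw [act_apply]
    congr 1
    apply Subtype.ext
    change g * a * g⁻¹ * (g * k * g⁻¹) * (g * a * g⁻¹)⁻¹ = g * (a * k * a⁻¹) * g⁻¹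
    group
  rw [h1, hθ, hθ, rep_spec]
  group

end Cfsg.Agent.GH.A7.InstBase
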