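import Mathlib
import Cfsg.Agent.SignalizersComponents.IntrinsicDiag
import Cfsg.Agent.GH.Defs

/-!
# GH-L2, `K / O(K) = A₇`: facts about `S₇`

* `fixTwo i j ≤ A₇`, the stabiliser of two points: simple of order 60.
* `isSwap_of_five`: an involution of `S₇` whose centraliser has order divisible by five is a transposition.
* `fix_of_perfect`: a perfect subgroup centralising the transposition `(a b)` fixes `a` and `b`.
-/

set_option autoImplicit false

open Equiv Equiv.Perm Subgroup
open scoped commutatorElement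

namespace Cfsg.Agent.GH.A7.InstPerm

/-- The even permutations fixing `i` and `j`. -/
def fixTwo (i j : Fin 7) : Subgroup (alternatingGroup (Fin 7)) where
  carrier := {x | (x : Perm (Fin 7)) i = i ∧ (x : Perm (Fin 7)) j = j}
  one_mem' := ⟨rfl, rfl⟩
  mul_mem' := by
    rintro a b ⟨h1, h2⟩ ⟨h3, h4⟩
    refine ⟨?_, ?_⟩
    · change (a : Perm (Fin 7)) ((b : Perm (Fin 7)) i) = i
      rw [h3, h1]
    · change (a : Perm (Fin 7)) ((b : Perm (Fin 7)) j) = j
      rw [h4, h2]
  inv_mem' := by
    rintro a ⟨h1, h2⟩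
    refine ⟨?_, ?_⟩
    · change (a : Perm (Fin 7))⁻¹ i = i
      rw [Perm.inv_eq_iff_eq, h1]
    · change (a : Perm (Fin 7))⁻¹ j = j
      rw [Perm.inv_eq_iff_eq, h2]

theorem mem_fixTwo {i j : Fin 7} {x : alternatingGroup (Fin 7)} :
    x ∈ fixTwo i j ↔ (x : Perm (Fin 7)) i = i ∧ (x : Perm (Fin 7)) j = j := Iff.rfl

/-- the other points -/
abbrev Rest (i j : Fin 7) : Type := {x : Fin 7 // x ≠ i ∧ x ≠ j}

theorem card_rest : ∀ i j : Fin 7, i ≠ j → Fintype.card (Rest i j) = 5 := by decide

theorem nat_card_rest {i j : Fin 7} (h : i ≠ j) : Nat.card (Rest i j) = 5 := by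
  rw [Nat.card_eq_fintype_card, card_rest i j h]

/-- `Alt(5) → A₇` -/
def emb (i j : Fin 7) : alternatingGroup (Rest i j) →* alternatingGroup (Fin 7) :=
  ((ofSubtype (p := fun x : Fin 7 => x ≠ i ∧ x ≠ j)).comp
    (alternatingGroup (Rest i j)).subtype).codRestrict _ (fun x => by
      rw [mem_alternatingGroup]
      change sign (ofSubtype (x : Perm (Rest i j))) = 1
      rw [sign_ofSubtype]
      exact mem_alternatingGroup.1 x.2)

theorem emb_injective (i j : Fin 7) : Function.Injective (emb i j) := by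
  intro a b h
  have h1 : ofSubtype (a : Perm (Rest i j)) = ofSubtype (b : Perm (Rest i j)) :=
    congrArg (fun x : alternatingGroup (Fin 7) => (x : Perm (Fin 7))) h
  exact Subtype.ext (ofSubtype_injective h1)

theorem range_emb (i j : Fin 7) : (emb i j).range = fixTwo i j := by
  ext x
  constructor
  · rintro ⟨y, rfl⟩
    refine ⟨?_, ?_⟩
    · exact ofSubtype_apply_of_not_mem (p := fun x : Fin 7 => x ≠ i ∧ x ≠ j) _ (fun h => h.1 rfl)
    · exact ofSubtype_apply_of_not_mem (p := fun x : Fin 7 => x ≠ i ∧ x ≠ j) _ (fun h => h.2 rfl)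
  · rintro ⟨h1, h2⟩
    have h3 : ∀ a : Fin 7, ((x : Perm (Fin 7)) a ≠ i ∧ (x : Perm (Fin 7)) a ≠ j) ↔ (a ≠ i ∧ a ≠ j) := by
      intro a
      have e1 : (x : Perm (Fin 7)) a = i ↔ a = i :=
        ⟨fun h => (x : Perm (Fin 7)).injective (by rw [h, h1]), fun h => by rw [h, h1]⟩
      have e2 : (x : Perm (Fin 7)) a = j ↔ a = j :=
        ⟨fun h => (x : Perm (Fin 7)).injective (by rw [h, h2]), fun h => by rw [h, h2]⟩
      rw [ne_eq, ne_eq, e1, e2]
    have h4 : ofSubtype (p := fun x : Fin 7 => x ≠ i ∧ x ≠ j)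
        ((x : Perm (Fin 7)).subtypePerm h3) = x := by
      apply ofSubtype_subtypePerm
      intro a ha
      refine ⟨?_, ?_⟩
      · rintro rfl
        exact ha h1
      · rintro rfl
        exact ha h2
    refine ⟨⟨(x : Perm (Fin 7)).subtypePerm h3, ?_⟩, Subtype.ext h4⟩
    rw [mem_alternatingGroup, ← sign_ofSubtype, h4]
    exact mem_alternatingGroup.1 x.2

/-- `fixTwo i j` is the alternating group on the other points. -/
noncomputable def fixEquiv (i j : Fin 7) : alternatingGroup (Rest i j) ≃* fixTwo i j :=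
  (MonoidHom.ofInjective (emb_injective i j)).trans (MulEquiv.subgroupCongr (range_emb i j))

theorem simple_alt {i j : Fin 7} (h : i ≠ j) : IsSimpleGroup (alternatingGroup (Rest i j)) :=
  alternatingGroup.isSimpleGroup (by rw [nat_card_rest h])

theorem simple_fixTwo {i j : Fin 7} (h : i ≠ j) : IsSimpleGroup (fixTwo i j) :=
  Defs.isSimple_congr (fixEquiv i j) (simple_alt h)

theorem card_fixTwo {i j : Fin 7} (h : i ≠ j) : Nat.card (fixTwo i j) = 60 := by
  have h1 : Nontrivial (Rest i j) := by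
    rw [← Fintype.one_lt_card_iff_nontrivial, card_rest i j h]
    norm_num
  rw [← Nat.card_congr (fixEquiv i j).toEquiv, nat_card_alternatingGroup, nat_card_rest h]
  rfl

theorem nc_fixTwo {i j : Fin 7} (h : i ≠ j) : ¬ IsMulCommutative (fixTwo i j) := by
  intro hc
  have h1 := simple_fixTwo h
  have h2 : (Nat.card (fixTwo i j)).Prime := by
    let _ : CommGroup (fixTwo i j) := { (inferInstance : Group (fixTwo i j)) with
      mul_comm := fun a b => hc.is_comm.comm a b }
    exact IsSimpleGroup.prime_card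
  rw [card_fixTwo h] at h2
  exact absurd h2 (by norm_num)

theorem qs_fixTwo {i j : Fin 7} (h : i ≠ j) : IsQuasisimple (fixTwo i j) :=
  SignalizersComponents.IntrinsicDiag.quasisimple_of_simple (simple_fixTwo h) (nc_fixTwo h)

/-- An involution whose centraliser has order divisible by five is a transposition. -/
theorem isSwap_of_five {π : Perm (Fin 7)} (h2 : π * π = 1) (h1 : π ≠ 1)
    (h5 : 5 ∣ Nat.card (centralizer ({π} : Set (Perm (Fin 7))))) : π.IsSwap := by
  have ho : orderOf π = 2 := orderOf_eq_prime (by rw [pow_two, h2]) h1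
  obtain ⟨n, hn⟩ := cycleType_prime_order (σ := π) (by rw [ho]; exact Nat.prime_two)
  rw [ho] at hn
  have hle : π.cycleType.sum ≤ 7 := by
    rw [sum_cycleType]
    exact (Finset.card_le_univ _).trans (by simp)
  rw [hn] at hle
  have hn2 : n + 1 ≤ 3 := by
    rw [Multiset.sum_replicate] at hle
    simp only [smul_eq_mul] at hle
    omega
  rw [nat_card_centralizer, hn] at h5
  have hn3 : n = 0 := by
    have h6 : n = 0 ∨ n = 1 ∨ n = 2 := by omega
    rcases h6 with h | h | h
    · exact h
    · exfalso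
      subst h
      revert h5
      decide
    · exfalso
      subst h
      revert h5
      decide
  rw [hn3] at hn
  rw [← card_support_eq_two, ← sum_cycleType, hn]
  rfl

/-- A perfect subgroup centralising `(a b)` fixes `a` and `b`. -/
theorem fix_of_perfect {P : Subgroup (Perm (Fin 7))} (hP : ⁅P, P⁆ = P) {a b : Fin 7} (hab : a ≠ b)
    (hc : ∀ p ∈ P, p * swap a b = swap a b * p) : ∀ p ∈ P, p a = a ∧ p b = b := by
  have key : ∀ p ∈ P, (p a = a ∧ p b = b) ∨ (p a = b ∧ p b = a) := by
    intro p hp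
    have h1 : swap (p a) (p b) = swap a b := by
      rw [Equiv.swap_apply_apply p a b, hc p hp, mul_inv_cancel_right]
    have h2 : swap (p a) (p b) (p a) = swap a b (p a) := by rw [h1]
    rw [swap_apply_left] at h2
    have hne : p b ≠ p a := fun h => hab (p.injective h.symm)
    by_cases h3 : p a = a
    · left
      rw [h3, swap_apply_left] at h2
      exact ⟨h3, h2⟩
    · by_cases h4 : p a = b
      · right
        rw [h4, swap_apply_right] at h2
        exact ⟨h4, h2⟩
      · exfalso
        rw [swap_apply_of_ne_of_ne h3 h4] at h2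
        exact hne h2
  let F : Subgroup (Perm (Fin 7)) :=
    { carrier := {p | p a = a ∧ p b = b}
      one_mem' := ⟨rfl, rfl⟩
      mul_mem' := by
        rintro x y ⟨h1, h2⟩ ⟨h3, h4⟩
        exact ⟨by rw [Perm.mul_apply, h3, h1], by rw [Perm.mul_apply, h4, h2]⟩
      inv_mem' := by
        rintro x ⟨h1, h2⟩
        exact ⟨by rw [Perm.inv_eq_iff_eq, h1], by rw [Perm.inv_eq_iff_eq, h2]⟩ }
  have h1 : ⁅P, P⁆ ≤ F := by
    rw [commutator_le]
    intro x hx y hy
    have hxi := key x⁻¹ (inv_mem hx)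
    have hyi := key y⁻¹ (inv_mem hy)
    have hx' := key x hx
    have hy' := key y hy
    have hxx : ∀ c, x (x⁻¹ c) = c := fun c => by rw [← Perm.mul_apply, mul_inv_cancel]; rfl
    have hyy : ∀ c, y (y⁻¹ c) = c := fun c => by rw [← Perm.mul_apply, mul_inv_cancel]; rfl
    have hba : b ≠ a := hab.symm
    change (x * y * x⁻¹ * y⁻¹) a = a ∧ (x * y * x⁻¹ * y⁻¹) b = b
    simp only [Perm.mul_apply]
    rcases hyi with ⟨e1, e2⟩ | ⟨e1, e2⟩ <;> rcases hxi with ⟨e3, e4⟩ | ⟨e3, e4⟩ <;>
      rcases hy' with ⟨e5, e6⟩ | ⟨e5, e6⟩ <;> rcases hx' with ⟨e7, e8⟩ | ⟨e7, e8⟩ <;>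
      simp only [e1, e2, e3, e4, e5, e6, e7, e8, and_self] <;>
      exfalso
    all_goals
      have k1 := hxx a
      have k2 := hyy a
      simp only [e1, e3, e5, e6, e7, e8] at k1 k2
      first
        | exact hab k1
        | exact hab k2
        | exact hba k1
        | exact hba k2
  intro p hp
  rw [← hP] at hp
  exact h1 hp

end Cfsg.Agent.GH.A7.InstPerm
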