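import Cfsg.Agent.GH.A7.InstBase
import Cfsg.Agent.GH.A7.InstPerm
import Cfsg.Agent.GH.L2FrameComp

/-!
# GH-L2, `K / O(K) = A₇`: the 2-component `J` of the centraliser of a transposition

`w ∈ H` an involution acting on `K / O(K) = A₇` as the transposition `(i j)`.  `JJ e w i j`: the subgroup generated by
the 2-elements of `C_K(w)` fixing `i` and `j`; it is a 2-component of `H ⊓ C(w)` with `JJ / O(JJ)` of order 60.
-/

set_option autoImplicit false
set_option linter.unusedSectionVars false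

open Cfsg Subgroup
open Cfsg.Agent.SignalizersComponents Cfsg.Agent.Lib
open Cfsg.Agent.SignalizersComponents.IntrinsicBasic
open Cfsg.Agent.Intrinsic.Basic Cfsg.Agent.Intrinsic.Cen
open Cfsg.Agent.GH.Defs Cfsg.Agent.GH.Comp Cfsg.Agent.GH.XSet Cfsg.Agent.GH.L2Frame
open Cfsg.Agent.GH.A7.InstBase Cfsg.Agent.GH.A7.InstPerm
open scoped commutatorElement Pointwise

namespace Cfsg.Agent.GH.A7.InstJ

theorem comm_swap {p : S7} {a b : Fin 7} (hab : a ≠ b) (hc : p * Equiv.swap a b = Equiv.swap a b * p) :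
    (p a = a ∧ p b = b) ∨ (p a = b ∧ p b = a) := by
  have h1 : Equiv.swap (p a) (p b) = Equiv.swap a b := by
    rw [Equiv.swap_apply_apply p a b, hc, mul_inv_cancel_right]
  have h2 : Equiv.swap (p a) (p b) (p a) = Equiv.swap a b (p a) := by rw [h1]
  rw [Equiv.swap_apply_left] at h2
  have hne : p b ≠ p a := fun h => hab (p.injective h.symm)
  by_cases h3 : p a = a
  · left
    rw [h3, Equiv.swap_apply_left] at h2
    exact ⟨h3, h2⟩
  · by_cases h4 : p a = b
    · right
      rw [h4, Equiv.swap_apply_right] at h2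
      exact ⟨h4, h2⟩
    · exfalso
      rw [Equiv.swap_apply_of_ne_of_ne h3 h4] at h2
      exact hne h2

theorem comm_of_fix {p : S7} {a b : Fin 7} (h1 : p a = a) (h2 : p b = b) :
    p * Equiv.swap a b = Equiv.swap a b * p := by
  have h3 := Equiv.swap_apply_apply p a b
  rw [h1, h2] at h3
  exact mul_inv_eq_iff_eq_mul.1 h3.symm

variable {G : Type*} [Group G]

section defs

variable {K : Subgroup G} (e : STop K ≃* alternatingGroup (Fin 7))

/-- The subgroup `A₅` of `STop K`. -/
def MM (i j : Fin 7) : Subgroup (STop K) := (fixTwo i j).comap e.toMonoidHom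

theorem mem_MM {i j : Fin 7} {l : STop K} :
    l ∈ MM e i j ↔ (e l : S7) i = i ∧ (e l : S7) j = j := Iff.rfl

/-- `MM` is `A₅` -/
noncomputable def mmEquiv (i j : Fin 7) : MM e i j ≃* fixTwo i j :=
  (e.subgroupMap (MM e i j)).trans (MulEquiv.subgroupCongr (by
    change ((fixTwo i j).comap e.toMonoidHom).map e.toMonoidHom = fixTwo i j
    exact map_comap_eq_self_of_surjective e.surjective _))

theorem qs_MM {i j : Fin 7} (h : i ≠ j) : IsQuasisimple (MM e i j) :=
  PCompQuot.quasisimple_congr (mmEquiv e i j).symm (qs_fixTwo h)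

theorem card_MM {i j : Fin 7} (h : i ≠ j) : Nat.card (MM e i j) = 60 := by
  rw [Nat.card_congr (mmEquiv e i j).toEquiv, card_fixTwo h]

theorem core_MM {i j : Fin 7} (h : i ≠ j) : oddCore (MM e i j) = ⊥ := by
  have h1 : IsSimpleGroup (MM e i j) := isSimple_congr (mmEquiv e i j).symm (simple_fixTwo h)
  have : Finite (MM e i j) := Nat.finite_of_card_ne_zero (by rw [card_MM e h]; norm_num)
  rcases (pPrimeCore_normal 2 (MM e i j)).eq_bot_or_eq_top with h2 | h2
  · exact h2
  · exfalso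
    have h3 : Odd (Nat.card (oddCore (MM e i j))) := odd_card_oddCore _
    rw [show oddCore (MM e i j) = ⊤ from h2, card_top, card_MM e h] at h3
    exact absurd h3 (by decide)

/-- The elements of `C_K(w)` fixing `i` and `j`. -/
def XX (w : G) (i j : Fin 7) : Subgroup G :=
  ((MM e i j).comap (topMap K)).map K.subtype ⊓ centralizer ({w} : Set G)

/-- The subgroup generated by its 2-elements. -/
def JJ (w : G) (i j : Fin 7) : Subgroup G := PComponents.pElem 2 (XX e w i j)

theorem XX_le (w : G) (i j : Fin 7) : XX e w i j ≤ K := inf_le_left.trans (map_subtype_le _)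

theorem JJ_le_XX (w : G) (i j : Fin 7) : JJ e w i j ≤ XX e w i j := PComponents.pElem_le _

theorem JJ_le (w : G) (i j : Fin 7) : JJ e w i j ≤ K := (JJ_le_XX e w i j).trans (XX_le e w i j)

theorem mem_XX {w k : G} {i j : Fin 7} : k ∈ XX e w i j ↔ ∃ hk : k ∈ K,
    k * w = w * k ∧ (e (topMap K ⟨k, hk⟩) : S7) i = i ∧ (e (topMap K ⟨k, hk⟩) : S7) j = j := by
  constructor
  · rintro ⟨⟨k, hk, rfl⟩, h2⟩
    exact ⟨k.2, mem_centralizer_singleton_iff.1 h2, hk⟩
  · rintro ⟨hk, h1, h2⟩
    exact ⟨⟨⟨k, hk⟩, h2, rfl⟩, mem_centralizer_singleton_iff.2 h1⟩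

theorem mem_JJ {w k : G} {i j : Fin 7} (hk : k ∈ K) (h1 : k * w = w * k)
    (h2 : (e (topMap K ⟨k, hk⟩) : S7) i = i) (h3 : (e (topMap K ⟨k, hk⟩) : S7) j = j) {n : ℕ}
    (hn : k ^ 2 ^ n = 1) : k ∈ JJ e w i j :=
  PComponents.mem_pElem ((mem_XX e).2 ⟨hk, h1, h2, h3⟩) hn

end defs

theorem mem_zpowers_sq {w x : G} (hw : w * w = 1) (hx : x ∈ zpowers w) : x = 1 ∨ x = w := by
  obtain ⟨k, rfl⟩ := mem_zpowers_iff.1 hx
  have h2 : w ^ (2 : ℤ) = 1 := by
    rw [show (2 : ℤ) = ((2 : ℕ) : ℤ) from rfl, zpow_natCast, pow_two, hw]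
  rcases Int.even_or_odd' k with ⟨m, rfl | rfl⟩
  · left
    rw [zpow_mul, h2, one_zpow]
  · right
    rw [zpow_add, zpow_mul, h2, one_zpow, one_mul, zpow_one]

theorem centralizer_zpowers (w : G) :
    centralizer ((zpowers w : Subgroup G) : Set G) = centralizer ({w} : Set G) := by
  rw [zpowers_eq_closure, centralizer_closure]

section main

variable [Finite G] {H K : Subgroup G} (e : STop K ≃* alternatingGroup (Fin 7))

theorem act_w {w : G} (hwK : w ∈ normalizer (K : Set G)) {i j : Fin 7}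
    (hsw : rep e ⟨w, hwK⟩ = Equiv.swap i j) {l : STop K} :
    act K ⟨w, hwK⟩ l = l ↔ (e l : S7) * Equiv.swap i j = Equiv.swap i j * (e l : S7) := by
  have h1 := rep_spec e ⟨w, hwK⟩ l
  rw [hsw] at h1
  constructor
  · intro h
    rw [h] at h1
    exact (mul_inv_eq_iff_eq_mul.1 h1.symm).symm
  · intro h
    apply e.injective
    apply Subtype.ext
    rw [h1, ← h, mul_inv_cancel_right]

theorem mem_fixedTop_iff {w : G} (hw : w * w = 1) (hwK : w ∈ normalizer (K : Set G)) {i j : Fin 7}
    (hsw : rep e ⟨w, hwK⟩ = Equiv.swap i j) {l : STop K} :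
    l ∈ fixedTop K (zpowers w) ↔ (e l : S7) * Equiv.swap i j = Equiv.swap i j * (e l : S7) := by
  rw [← act_w e hwK hsw, mem_fixedTop]
  constructor
  · intro h
    exact h ⟨w, hwK⟩ (mem_zpowers w)
  · rintro h ⟨p, hp⟩ hp'
    rcases mem_zpowers_sq hw hp' with h1 | h1
    · have h2 : (⟨p, hp⟩ : normalizer (K : Set G)) = 1 := Subtype.ext h1
      rw [h2, map_one]
      rfl
    · have h2 : (⟨p, hp⟩ : normalizer (K : Set G)) = ⟨w, hwK⟩ := Subtype.ext h1
      rw [h2]
      exact h

/-- **The 2-component.** -/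
theorem isComp_JJ (hK : IsComp H K) (hodd : ¬ EvenCenter K) {w : G} (hw : w * w = 1)
    (hwK : w ∈ normalizer (K : Set G)) {i j : Fin 7} (hij : i ≠ j)
    (hsw : rep e ⟨w, hwK⟩ = Equiv.swap i j) :
    IsComp (H ⊓ centralizer ({w} : Set G)) (JJ e w i j) ∧
      Nat.card (Bar (JJ e w i j)) = 60 := by
  have hP : IsPGroup 2 (zpowers w) := by
    rintro ⟨x, hx⟩
    refine ⟨1, Subtype.ext ?_⟩
    change x ^ 2 ^ 1 = 1
    rw [pow_one, pow_two]
    rcases mem_zpowers_sq hw hx with rfl | rfl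
    · rw [mul_one]
    · exact hw
  have hPK : zpowers w ≤ normalizer (K : Set G) := by rw [zpowers_le]; exact hwK
  have hMC : MM e i j ≤ fixedTop K (zpowers w) := by
    intro l hl
    rw [mem_fixedTop_iff e hw hwK hsw]
    exact comm_of_fix hl.1 hl.2
  have hn : ((MM e i j).subgroupOf (fixedTop K (zpowers w))).Normal := by
    refine ⟨fun m hm l => ?_⟩
    rw [mem_subgroupOf] at hm ⊢
    have h1 := (mem_fixedTop_iff e hw hwK hsw).1 (inv_mem l.2)
    change (e (((l : fixedTop K (zpowers w)) : STop K) * m * (l : STop K)⁻¹) : S7) i = i ∧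
      (e (((l : fixedTop K (zpowers w)) : STop K) * m * (l : STop K)⁻¹) : S7) j = j
    rw [map_mul, map_mul]
    obtain ⟨hm1, hm2⟩ := hm
    change (e (m : STop K) : S7) i = i at hm1
    change (e (m : STop K) : S7) j = j at hm2
    have e1 : ∀ c : Fin 7, (e (l : STop K) : S7) ((e ((l : STop K)⁻¹) : S7) c) = c := by
      intro c
      have e2 : (e (l : STop K) : S7) * (e ((l : STop K)⁻¹) : S7) = 1 := by
        have e3 : e (l : STop K) * e ((l : STop K)⁻¹) = 1 := by rw [← map_mul, mul_inv_cancel, map_one]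
        exact congrArg Subtype.val e3
      have e4 := congrArg (fun p : S7 => p c) e2
      exact e4
    change (e (l : STop K) : S7) ((e (m : STop K) : S7) ((e ((l : STop K)⁻¹) : S7) i)) = i ∧
      (e (l : STop K) : S7) ((e (m : STop K) : S7) ((e ((l : STop K)⁻¹) : S7) j)) = j
    have ei := e1 i
    have ej := e1 j
    rcases comm_swap hij h1 with ⟨h2, h3⟩ | ⟨h2, h3⟩
    · rw [h2] at ei
      rw [h3] at ej
      rw [h2, h3, hm1, hm2]
      exact ⟨ei, ej⟩
    · rw [h2] at ei
      rw [h3] at ej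
      rw [h2, h3, hm1, hm2]
      exact ⟨ei, ej⟩
  obtain ⟨J, hJ, hJK, hJM, hMJ, ⟨ε⟩⟩ := exists_comp hK hodd hP hPK hMC hn.isSubnormal (qs_MM e hij)
    (core_MM e hij)
  rw [centralizer_zpowers] at hJ
  have hJX : J ≤ XX e w i j := by
    intro x hx
    exact (mem_XX e).2 ⟨hJK hx, mem_centralizer_singleton_iff.1 (hJ.le hx).2, hJM ⟨x, hJK hx⟩ hx⟩
  have hker : Odd (Nat.card ((topMap K).ker.map K.subtype)) := by
    rw [card_map_of_injective K.subtype_injective]
    exact odd_card_ker hodd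
  have hcore : (topMap K).ker.map K.subtype ≤ core K := by
    refine le_core (map_subtype_le _) ?_ hker
    intro k hk
    rw [mem_normalizer_iff_cj]
    have h1 : (((topMap K).ker.map K.subtype).subgroupOf K).Normal := by
      have e1 : ((topMap K).ker.map K.subtype).subgroupOf K = (topMap K).ker := by
        ext x
        rw [mem_subgroupOf]
        constructor
        · rintro ⟨y, hy, hyx⟩
          rwa [← Subtype.ext hyx]
        · intro h
          exact ⟨x, h, rfl⟩
      rw [e1]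
      infer_instance
    have h2 : K ≤ normalizer (((topMap K).ker.map K.subtype : Subgroup G) : Set G) := by
      have h3 := (normal_subgroupOf_iff_le_normalizer (map_subtype_le (topMap K).ker)).1 h1
      exact h3
    exact mem_normalizer_iff_cj.1 (h2 hk)
  have hJJ : JJ e w i j = J := by
    apply le_antisymm
    · refine (closure_le _).2 ?_
      rintro x ⟨hx, n, hn⟩
      obtain ⟨hxK, hxw, hx2⟩ := (mem_XX e).1 hx
      obtain ⟨y, hyJ, hyx⟩ := hMJ (topMap K ⟨x, hxK⟩) hx2
      refine hJ.mem_of_two hyJ (x := x) ?_ hn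
      have h1 : y⁻¹ * ⟨x, hxK⟩ ∈ (topMap K).ker := by
        rw [MonoidHom.mem_ker, map_mul, map_inv, hyx, inv_mul_cancel]
      have h2 : (y : G)⁻¹ * x ∈ core K := hcore ⟨_, h1, rfl⟩
      have h3 : (y : G)⁻¹ * x ∈ core H := hK.core_le_core h2
      have h4 : (y : G)⁻¹ * x ∈ centralizer ({w} : Set G) := mul_mem (inv_mem (hJ.le hyJ).2)
        (mem_centralizer_singleton_iff.2 hxw)
      have h5 : core H ⊓ centralizer ({w} : Set G) ≤ core (H ⊓ centralizer ({w} : Set G)) := by
        refine le_core (inf_le_inf_right _ (core_le H)) ?_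
          ((odd_card_core H).of_dvd_nat (card_dvd_of_le inf_le_left))
        intro a ha
        rw [mem_normalizer_iff_cj, cj_inf, cj_eq_self_of_mem ha.2,
          mem_normalizer_iff_cj.1 (le_normalizer_core H ha.1)]
      exact h5 ⟨h3, h4⟩
    · rw [← hJ.pElem_eq]
      exact PComponents.pElem_mono hJX
  rw [hJJ]
  exact ⟨hJ, by rw [Nat.card_congr ε.toEquiv, card_MM e hij]⟩

end main

end Cfsg.Agent.GH.A7.InstJ
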