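import Cfsg.Agent.GH.L2AutField
import Cfsg.Agent.GH.L2AutPGL

/-!
# Fixed points of involutory automorphisms of `PSL(2,F)`, `|F| < 25`

`no_perfect`: a perfect subgroup of order greater than 12 is not fixed by an involutory automorphism.
-/

set_option autoImplicit false
set_option linter.unusedSectionVars false

namespace Cfsg.Agent.GH.A7.InstL2

open Matrix Cfsg.Agent.Lib.SL2Mat Cfsg.Agent.Lib.AutSL2 Cfsg.Agent.Lib.AutSL2Out
open Cfsg.Agent.GH.L2Aut Cfsg.Agent.GH.L2AutField Cfsg.Agent.LFourA.FieldInv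
open scoped commutatorElement

variable {F : Type*} [Field F] [Finite F] {L : Type*} [Group L]
  (R : Cfsg.Agent.GH.L2Aut.Rep F L)

local notation "SL2" => Matrix.SpecialLinearGroup (Fin 2) F
local notation "M2" => Matrix (Fin 2) (Fin 2) F

/-- `s` multiplies `g` by the scalar `ε`. -/
def Eps (g : M2) (ε : F) (s : GL (Fin 2) F) : Prop := s.1 * g = ε • (g * s.1)

theorem Eps.mul {g : M2} {a b : F} {s t : GL (Fin 2) F} (h1 : Eps g a s) (h2 : Eps g b t) :
    Eps g (a * b) (s * t) := by
  unfold Eps at *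
  rw [Units.val_mul, Matrix.mul_assoc, h2, Matrix.mul_smul, ← Matrix.mul_assoc, h1,
    Matrix.smul_mul, smul_smul, Matrix.mul_assoc, mul_comm b a]

theorem Eps.inv {g : M2} {a : F} {s : GL (Fin 2) F} (ha : a * a = 1) (h1 : Eps g a s) :
    Eps g a s⁻¹ := by
  unfold Eps at *
  have e1 : s⁻¹.1 * s.1 = 1 := by rw [← Units.val_mul, inv_mul_cancel, Units.val_one]
  have e2 : s.1 * s⁻¹.1 = 1 := by rw [← Units.val_mul, mul_inv_cancel, Units.val_one]
  have h2 : g * s⁻¹.1 = a • (s⁻¹.1 * g) := by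
    calc g * s⁻¹.1 = s⁻¹.1 * s.1 * g * s⁻¹.1 := by rw [e1, Matrix.one_mul]
      _ = s⁻¹.1 * (s.1 * g) * s⁻¹.1 := by rw [Matrix.mul_assoc s⁻¹.1 s.1 g]
      _ = a • (s⁻¹.1 * (g * s.1) * s⁻¹.1) := by rw [h1, Matrix.mul_smul, Matrix.smul_mul]
      _ = a • (s⁻¹.1 * g) := by
          rw [← Matrix.mul_assoc, Matrix.mul_assoc _ s.1, e2, Matrix.mul_one]
  rw [h2, smul_smul, ha, one_smul]

theorem Eps.comm {g : M2} {a b : F} (ha : a * a = 1) (hb : b * b = 1) {s t : GL (Fin 2) F}
    (h1 : Eps g a s) (h2 : Eps g b t) : ⁅s, t⁆.1 * g = g * ⁅s, t⁆.1 := by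
  have h3 := ((h1.mul h2).mul (h1.inv ha)).mul (h2.inv hb)
  have e1 : a * b * a * b = 1 := by linear_combination b * b * ha + hb
  rw [e1] at h3
  unfold Eps at h3
  rw [one_smul] at h3
  exact h3

/-- elements of `L` fixed by `gl g`, `g` involutory -/
theorem exists_eps {g : GL (Fin 2) F} {s : SL2} (hs : R.gl g (R.π s) = R.π s) :
    ∃ a : F, a * a = 1 ∧ Eps g.1 a (Matrix.SpecialLinearGroup.toGL s) := by
  have h1 : R.gl (Matrix.SpecialLinearGroup.toGL s) * R.gl g =
      R.gl g * R.gl (Matrix.SpecialLinearGroup.toGL s) := by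
    rw [← R.conj_π]
    ext x
    change R.π s * R.gl g x * (R.π s)⁻¹ = R.gl g (R.π s * x * (R.π s)⁻¹)
    rw [map_mul, map_mul, map_inv, hs]
  rcases R.comm_cases h1 with h2 | h2
  · exact ⟨1, by ring, by unfold Eps; rw [one_smul]; exact h2⟩
  · exact ⟨-1, by ring, by unfold Eps; rw [neg_one_smul]; exact h2⟩

/-- The inner-diagonal case. -/
theorem not_pgl {g : GL (Fin 2) F} (h1 : R.gl g ≠ 1) {P : Subgroup L} (hP : ⁅P, P⁆ = P)
    (hne : P ≠ ⊥) (hfix : ∀ x ∈ P, R.gl g x = x) : False := by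
  have hs := R.not_scalar_of_ne h1
  let C : Subgroup L :=
    { carrier := {x | ∃ s : SL2, R.π s = x ∧
        (Matrix.SpecialLinearGroup.toGL s).1 * g.1 = g.1 * (Matrix.SpecialLinearGroup.toGL s).1}
      one_mem' := ⟨1, map_one _, by
        rw [map_one, Units.val_one, Matrix.one_mul, Matrix.mul_one]⟩
      mul_mem' := by
        rintro _ _ ⟨s, rfl, hs⟩ ⟨t, rfl, ht⟩
        refine ⟨s * t, map_mul _ _ _, ?_⟩
        rw [map_mul, Units.val_mul, Matrix.mul_assoc, ht, ← Matrix.mul_assoc, hs,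
          Matrix.mul_assoc]
      inv_mem' := by
        rintro _ ⟨s, rfl, hs⟩
        refine ⟨s⁻¹, map_inv _ _, ?_⟩
        have h2 : Eps g.1 1 (Matrix.SpecialLinearGroup.toGL s) := by
          unfold Eps; rw [one_smul]; exact hs
        have h3 := h2.inv (one_mul 1)
        unfold Eps at h3
        rw [one_smul, ← map_inv] at h3
        exact h3 }
  have hPC : P ≤ C := by
    rw [← hP, Subgroup.commutator_le]
    intro x hx y hy
    obtain ⟨s, rfl⟩ := R.surj x
    obtain ⟨t, rfl⟩ := R.surj y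
    obtain ⟨a, ha, hsa⟩ := exists_eps R (hfix _ hx)
    obtain ⟨b, hb, htb⟩ := exists_eps R (hfix _ hy)
    refine ⟨⁅s, t⁆, map_commutatorElement _ _ _, ?_⟩
    rw [map_commutatorElement]
    exact hsa.comm ha hb htb
  apply hne
  rw [← hP, Subgroup.commutator_eq_bot_iff_le_centralizer]
  intro x hx
  rw [Subgroup.mem_centralizer_iff]
  intro y hy
  obtain ⟨s, rfl, hs'⟩ := hPC hx
  obtain ⟨t, rfl, ht'⟩ := hPC hy
  obtain ⟨a, b, hab⟩ := exists_ab hs hs'.symm
  obtain ⟨c, d, hcd⟩ := exists_ab hs ht'.symm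
  have h3 : (Matrix.SpecialLinearGroup.toGL t).1 * (Matrix.SpecialLinearGroup.toGL s).1 =
      (Matrix.SpecialLinearGroup.toGL s).1 * (Matrix.SpecialLinearGroup.toGL t).1 := by
    rw [hab, hcd]
    simp only [Matrix.add_mul, Matrix.mul_add, Matrix.smul_mul, Matrix.mul_smul, Matrix.one_mul,
      Matrix.mul_one]
    module
  have h4 : t * s = s * t := Subtype.ext h3
  rw [← map_mul, ← map_mul, h4]

include R in
/-- **No perfect fixed subgroup.** -/
theorem no_perfect (hF : Nat.card F < 25) {α : MulAut L} (h1 : α ≠ 1) (h2 : α * α = 1)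
    {P : Subgroup L} (hP : ⁅P, P⁆ = P) (hc : 12 < Nat.card P) (hfix : ∀ x ∈ P, α x = x) :
    False := by
  by_cases hf : R.fld α = 1
  · obtain ⟨g, rfl⟩ := R.mem_PGL.1 (R.mem_PGL_iff_fld.2 hf)
    refine not_pgl R h1 hP ?_ hfix
    rintro rfl
    rw [Subgroup.card_bot] at hc
    omega
  · obtain ⟨h, K, H, -⟩ := exists_fInv R h2 hf
    have hL : Finite L := R.finite
    have hK1 := odd_card_K H
    have hK2 : 1 < Nat.card K := Finite.one_lt_card
    have hK3 := H.card
    have hK : Nat.card K = 3 := by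
      have h3 : Nat.card K < 5 := by
        by_contra hcon
        have h4 : 5 * 5 ≤ Nat.card K * Nat.card K := Nat.mul_le_mul (by omega) (by omega)
        rw [hK3, pow_two] at hF
        omega
      omega
    have h3 := card_range (two_ne H) H.sub (sub_eq_one_iff H)
    rw [hK] at h3
    have h4 : Nat.card H.sub.range = 12 := by omega
    have h5 : P ≤ H.sub.range := by
      rw [← hP, Subgroup.commutator_le]
      intro x hx y hy
      obtain ⟨s, rfl⟩ := H.surj x
      obtain ⟨t, rfl⟩ := H.surj y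
      rw [← map_commutatorElement]
      apply mem_sub_of_fix H
      have key : ∀ s : SL2, (R.π.comp (conjGL h).toMonoidHom) s ∈ P →
          fieldAut (R.fld α) s = s ∨ fieldAut (R.fld α) s = -s := by
        intro s hs
        have e1 := hfix _ hs
        rw [H.act] at e1
        have e2 : (R.π.comp (conjGL h).toMonoidHom) (s⁻¹ * fieldAut (R.fld α) s) = 1 := by
          rw [map_mul, map_inv, e1, inv_mul_cancel]
        rcases (H.ker _).1 e2 with e3 | e3
        · left
          exact (inv_mul_eq_one.1 e3).symm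
        · right
          have e4 : fieldAut (R.fld α) s = s * -1 := inv_mul_eq_iff_eq_mul.1 e3
          rw [e4, mul_neg, mul_one]
      rw [map_commutatorElement]
      rcases key s hx with e1 | e1 <;> rcases key t hy with e2 | e2 <;> rw [e1, e2]
      · simp only [commutatorElement_def, inv_neg, mul_neg, neg_mul, neg_neg]
      · simp only [commutatorElement_def, inv_neg, mul_neg, neg_mul, neg_neg]
      · simp only [commutatorElement_def, inv_neg, mul_neg, neg_mul, neg_neg]
    have h6 := Nat.card_le_card_of_injective _ (Subgroup.inclusion_injective h5)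
    omega

include R in
/-- `|F| < 25` from the order of `L`. -/
theorem card_lt (h : Nat.card L ≤ 2520) : Nat.card F < 25 := by
  have h1 := card_range R.two R.π R.ker
  rw [MonoidHom.range_eq_top.2 R.surj, Subgroup.card_top] at h1
  by_contra hcon
  push Not at hcon
  have h2 : 25 ^ 2 ≤ Nat.card F ^ 2 := Nat.pow_le_pow_left hcon 2
  have h3 : 25 * 624 ≤ Nat.card F * (Nat.card F ^ 2 - 1) := Nat.mul_le_mul hcon (by omega)
  omega

end Cfsg.Agent.GH.A7.InstL2
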