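import Cfsg.Agent.GH.A7.InstSig

/-!
# GH-L2, `K / O(K) = A₇`, `|Q| = 2`: the fields `transp`, `share`, `outside`
-/

set_option autoImplicit false
set_option linter.unusedSectionVars false

open Cfsg Subgroup
open Cfsg.Agent.SignalizersComponents Cfsg.Agent.Lib
open Cfsg.Agent.SignalizersComponents.IntrinsicBasic
open Cfsg.Agent.Intrinsic.Basic Cfsg.Agent.Intrinsic.Cen
open Cfsg.Agent.GH.Defs Cfsg.Agent.GH.Comp Cfsg.Agent.GH.XSet Cfsg.Agent.GH.L2Frame
open Cfsg.Agent.GH.A7.InstBase Cfsg.Agent.GH.A7.InstPerm Cfsg.Agent.GH.A7.InstJ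
open Cfsg.Agent.GH.A7.InstSig
open Cfsg.Agent.GH.TOne
open scoped commutatorElement Pointwise

namespace Cfsg.Agent.GH.A7.InstShare

variable {G : Type*} [Group G]

section general

theorem range_perfect {J : Subgroup G} (hJ : ⁅J, J⁆ = J) {M : Type*} [Group M] (φ : J →* M) :
    ⁅φ.range, φ.range⁆ = φ.range := by
  have h1 : ⁅(⊤ : Subgroup J), (⊤ : Subgroup J)⁆ = ⊤ := by
    apply map_injective J.subtype_injective
    rw [map_commutator, ← MonoidHom.range_eq_map, J.range_subtype, hJ]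
  rw [MonoidHom.range_eq_map, ← map_commutator, h1]

variable [Finite G]

theorem card_dvd_range {J : Subgroup G} {M : Type*} [Group M] (φ : J →* M)
    (hodd : Odd (Nat.card φ.ker)) : Nat.card (Bar J) ∣ Nat.card φ.range := by
  have h1 : φ.ker ≤ oddCore ↥J := le_oddCore inferInstance hodd
  have h2 : Nat.card φ.range = φ.ker.index := by rw [Subgroup.index_ker]
  rw [h2]
  exact Subgroup.index_dvd_of_le h1

/-- The map `J → STop L`, `J ≤ L`: odd kernel. -/
theorem odd_ker {J L : Subgroup G} (hodd : ¬ EvenCenter L) (hJL : J ≤ L) :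
    Odd (Nat.card ((topMap L).comp (inclusion hJL)).ker) := by
  refine odd_of_dvd ?_ (odd_card_ker hodd)
  have h1 : ((topMap L).comp (inclusion hJL)).ker.map (inclusion hJL) ≤ (topMap L).ker := by
    rintro _ ⟨x, hx, rfl⟩
    exact hx
  have h3 := card_dvd_of_le h1
  rwa [card_map_of_injective (inclusion_injective hJL)] at h3

end general

variable [Finite G] {X : Set G} (h : XBase X) (hodd : ∀ y ∈ X, ¬ EvenCenter (KK y)) (e : Isos X)

include h hodd

/-- The facts about `t ∈ X` acting as a transposition on `KK y`. -/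
theorem exists_J' {y t : G} (hy : y ∈ X) (ht : t ∈ X) (hty : t * y = y * t) {i j : Fin 7}
    (hij : i ≠ j) (hsw : sg e y t = Equiv.swap i j) :
    ∃ R : Subgroup S7, ⁅R, R⁆ = R ∧ 60 ∣ Nat.card R ∧ R ≤ centralizer ({sg e t y} : Set S7) ∧
      (∀ k ∈ KK y, k * t = t * k → (sg e y k) i = i → (sg e y k) j = j →
        IsPGroup 2 (zpowers k) → k ∈ KK t ∧ sg e t k ∈ R) := by
  obtain ⟨J, hJ, hJy, hJt, hc, hmem⟩ := exists_J h hodd e hy (h.sq ht) hty hij hsw
  let φ : J →* S7 := (rep (e t ht)).comp (inclusion (hJt.trans le_normalizer))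
  have hφ : ∀ x : J, φ x = sg e t x := fun x => (sg_eq e ht (le_normalizer (hJt x.2))).symm
  have hker : Odd (Nat.card φ.ker) := by
    refine odd_of_dvd ?_ (odd_ker (hodd t ht) hJt)
    apply card_dvd_of_le
    intro x hx
    have h1 : sg e t (x : G) = 1 := by rw [← hφ]; exact hx
    have h2 := (sg_eq_one_iff h e ht (h.comm_of_mem ht (hJt x.2)).eq).1 h1
    have h3 : (inclusion hJt x) ∈ (topMap (KK t)).ker := mem_ker_iff.2 (mem_fix.2 h2)
    exact h3
  refine ⟨φ.range, range_perfect hJ.perfect φ, ?_, ?_, ?_⟩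
  · rw [← hc]
    exact card_dvd_range φ hker
  · rintro _ ⟨x, rfl⟩
    rw [mem_centralizer_singleton_iff, hφ]
    have h1 : (x : G) * y = y * x := (h.comm_of_mem hy (hJy x.2)).eq
    have h2 : (x : G) * t = t * x := (h.comm_of_mem ht (hJt x.2)).eq
    rw [← sg_mul h e ht h2 hty.symm, ← sg_mul h e ht hty.symm h2, h1]
  · intro k hk hkt h1 h2 h3
    have h4 := hmem k hk hkt h1 h2 h3
    exact ⟨hJt h4, ⟨k, h4⟩, hφ ⟨k, h4⟩⟩

variable (hQ : ∀ y ∈ X, ∀ a : G, a * y = y * a → Fixes a (KK y) → IsPGroup 2 (zpowers a) →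
  a = 1 ∨ a = y)

include hQ

theorem transp {y t : G} (hy : y ∈ X) (ht : t ∈ X) (hty : t * y = y * t) (hs : Sw (sg e y t)) :
    Sw (sg e t y) := by
  obtain ⟨i, j, hij, hsw⟩ := hs
  obtain ⟨R, -, h60, hR, -⟩ := exists_J' h hodd e hy ht hty hij hsw
  have h1 : sg e t y * sg e t y = 1 := by
    rw [← sg_mul h e ht hty.symm hty.symm, h.sq hy]
    have h3 : (1 : G) * t = t * 1 := by rw [one_mul, mul_one]
    have h4 := sg_mul h e ht h3 h3
    rw [one_mul] at h4
    exact (left_eq_mul.1 h4)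
  have h2 : sg e t y ≠ 1 := by
    intro h3
    have h4 := (sg_eq_one_iff h e ht hty.symm).1 h3
    rcases hQ t ht y hty.symm h4 (isPGroup_zpowers_of_sq (h.sq hy)) with h5 | h5
    · exact h.ne_one hy h5
    · subst h5
      rw [sg_self h e hy] at hsw
      have h6 := congrArg (fun p : S7 => p i) hsw
      change i = Equiv.swap i j i at h6
      rw [Equiv.swap_apply_left] at h6
      exact hij h6
  refine isSwap_of_five h1 h2 ?_
  have h3 : 60 ∣ Nat.card (centralizer ({sg e t y} : Set S7)) := h60.trans (card_dvd_of_le hR)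
  exact (by norm_num : 5 ∣ 60).trans h3

theorem share {y t : G} (hy : y ∈ X) (ht : t ∈ X) (hty : t * y = y * t) (hs : Sw (sg e y t))
    {k : G} (hk : k ∈ KK y) (hkt : k * t = t * k) (h2 : IsPGroup 2 (zpowers k))
    (ho : Off (sg e y t) (sg e y k)) : k ∈ KK t ∧ Off (sg e t y) (sg e t k) := by
  obtain ⟨a, b, hab, hsw'⟩ := transp h hodd e hQ hy ht hty hs
  obtain ⟨i, j, hij, hsw⟩ := hs
  obtain ⟨R, hRR, -, hR, hmem⟩ := exists_J' h hodd e hy ht hty hij hsw
  rw [hsw] at ho
  obtain ⟨h3, h4⟩ := hmem k hk hkt (ho i (by rw [Equiv.swap_apply_left]; exact hij.symm))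
    (ho j (by rw [Equiv.swap_apply_right]; exact hij)) h2
  refine ⟨h3, ?_⟩
  have h5 := fix_of_perfect hRR hab (fun p hp => by
    have h6 := mem_centralizer_singleton_iff.1 (hR hp)
    rwa [hsw'] at h6) _ h4
  intro c hc
  rw [hsw'] at hc
  by_cases h6 : c = a
  · rw [h6]; exact h5.1
  · by_cases h7 : c = b
    · rw [h7]; exact h5.2
    · exact absurd (Equiv.swap_apply_of_ne_of_ne h6 h7) hc

end Cfsg.Agent.GH.A7.InstShare
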