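import Cfsg.Agent.GH.A7.InstJ
import Cfsg.Agent.GH.A7.InstL2

/-!
# GH-L2, `K / O(K) = A₇`, `|Q| = 2`: the instance of `A7.Sys`
-/

set_option autoImplicit false
set_option linter.unusedSectionVars false

open Cfsg Subgroup
open Cfsg.Agent.SignalizersComponents Cfsg.Agent.Lib
open Cfsg.Agent.SignalizersComponents.IntrinsicBasic
open Cfsg.Agent.Intrinsic.Basic Cfsg.Agent.Intrinsic.Cen
open Cfsg.Agent.GH.Defs Cfsg.Agent.GH.Comp Cfsg.Agent.GH.XSet Cfsg.Agent.GH.L2Frame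
open Cfsg.Agent.GH.A7.InstBase Cfsg.Agent.GH.A7.InstPerm Cfsg.Agent.GH.A7.InstJ
open Cfsg.Agent.GH.TOne
open scoped commutatorElement Pointwise

namespace Cfsg.Agent.GH.A7.InstSig

variable {G : Type*} [Group G]

/-- The isomorphisms. -/
abbrev Isos (X : Set G) : Type _ := ∀ y : G, y ∈ X → STop (KK y) ≃* alternatingGroup (Fin 7)

open Classical in
/-- The action of `C(y)` on seven points. -/
noncomputable def sg {X : Set G} (e : Isos X) (y a : G) : S7 :=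
  if h : ∃ _ : y ∈ X, a ∈ normalizer (KK y : Set G) then rep (e y h.choose) ⟨a, h.choose_spec⟩ else 1

theorem sg_eq {X : Set G} (e : Isos X) {y a : G} (hy : y ∈ X)
    (ha : a ∈ normalizer (KK y : Set G)) : sg e y a = rep (e y hy) ⟨a, ha⟩ := by
  have h : ∃ _ : y ∈ X, a ∈ normalizer (KK y : Set G) := ⟨hy, ha⟩
  unfold sg
  rw [dif_pos h]

variable [Finite G] {X : Set G} (h : XBase X) (hodd : ∀ y ∈ X, ¬ EvenCenter (KK y)) (e : Isos X)

include h

theorem norm {y a : G} (hy : y ∈ X) (ha : a * y = y * a) : a ∈ normalizer (KK y : Set G) :=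
  h.mem_normalizer hy ha

theorem sg_mem {y k : G} (hy : y ∈ X) (hk : k ∈ KK y) :
    sg e y k = (e y hy (topMap (KK y) ⟨k, hk⟩) : S7) := by
  rw [sg_eq e hy (le_normalizer hk)]
  exact rep_mem' (e y hy) hk _

theorem sg_eq_one_iff {y a : G} (hy : y ∈ X) (ha : a * y = y * a) :
    sg e y a = 1 ↔ Fixes a (KK y) := by
  rw [sg_eq e hy (norm h hy ha)]
  exact rep_eq_one_iff (e y hy) (quasisimple (h.comp y hy)) _

theorem sg_mul {y a b : G} (hy : y ∈ X) (ha : a * y = y * a) (hb : b * y = y * b) :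
    sg e y (a * b) = sg e y a * sg e y b := by
  rw [sg_eq e hy (norm h hy ha), sg_eq e hy (norm h hy hb),
    sg_eq e hy (mul_mem (norm h hy ha) (norm h hy hb)), ← map_mul]
  rfl

theorem sg_self {y : G} (hy : y ∈ X) : sg e y y = 1 := by
  rw [sg_eq_one_iff h e hy rfl]
  exact h.fixes_self hy

theorem sg_conj {y : G} (hy : y ∈ X) (g : G) : ∃ π : S7, ∀ a : G, a * y = y * a →
    sg e (g * y * g⁻¹) (g * a * g⁻¹) = π * sg e y a * π⁻¹ := by
  obtain ⟨π, hπ⟩ := exists_conj (e y hy) g (h.cj_KK hy g).symm (e _ (h.conj y hy g))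
  refine ⟨π, fun a ha => ?_⟩
  have h1 : g * a * g⁻¹ * (g * y * g⁻¹) = g * y * g⁻¹ * (g * a * g⁻¹) := by
    calc g * a * g⁻¹ * (g * y * g⁻¹) = g * (a * y) * g⁻¹ := by group
      _ = g * (y * a) * g⁻¹ := by rw [ha]
      _ = g * y * g⁻¹ * (g * a * g⁻¹) := by group
  rw [sg_eq e hy (norm h hy ha), sg_eq e (h.conj y hy g) (norm h (h.conj y hy g) h1)]
  exact hπ a _ _

theorem sg_even {y k : G} (hy : y ∈ X) (hk : k ∈ KK y) : Equiv.Perm.sign (sg e y k) = 1 := by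
  rw [sg_mem h e hy hk]
  exact Equiv.Perm.mem_alternatingGroup.1 (e y hy (topMap (KK y) ⟨k, hk⟩)).2

theorem sg_onto {y : G} (hy : y ∈ X) {π : S7} (hπ : Equiv.Perm.sign π = 1) :
    ∃ k ∈ KK y, sg e y k = π := by
  obtain ⟨l, hl⟩ := (e y hy).surjective ⟨π, Equiv.Perm.mem_alternatingGroup.2 hπ⟩
  obtain ⟨k, rfl⟩ := topMap_surjective (KK y) l
  refine ⟨k, k.2, ?_⟩
  rw [sg_mem h e hy k.2, hl]

include hodd

theorem sg_eqK {y k : G} (hy : y ∈ X) (hk : k ∈ KK y) (h1 : sg e y k = 1)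
    (h2 : IsPGroup 2 (zpowers k)) : k = 1 := by
  obtain ⟨n, hn⟩ := h2 ⟨k, mem_zpowers k⟩
  have hn' : k ^ 2 ^ n = 1 := by simpa using congrArg Subtype.val hn
  refine eq_one_of_odd (h.comp y hy) (hodd y hy)
    ((sg_eq_one_iff h e hy (h.comm_of_mem hy hk).eq).1 h1) ⟨k, hk, ?_⟩ hn'
  rw [inv_mul_cancel]
  exact one_mem _

/-! ### the 2-component `J` -/

theorem exists_J {y w : G} (hy : y ∈ X) (hw : w * w = 1) (hwy : w * y = y * w) {i j : Fin 7}
    (hij : i ≠ j) (hsw : sg e y w = Equiv.swap i j) :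
    ∃ J : Subgroup G, IsComp (centralizer ({y} : Set G) ⊓ centralizer ({w} : Set G)) J ∧
      J ≤ KK y ∧ J ≤ KK w ∧ Nat.card (Bar J) = 60 ∧
      (∀ k ∈ KK y, k * w = w * k → (sg e y k) i = i → (sg e y k) j = j →
        IsPGroup 2 (zpowers k) → k ∈ J) := by
  have hN := norm h hy hwy
  rw [sg_eq e hy hN] at hsw
  obtain ⟨h1, h2⟩ := isComp_JJ (e y hy) (h.comp y hy) (hodd y hy) hw hN hij hsw
  refine ⟨JJ (e y hy) w i j, h1, JJ_le _ _ _ _, ?_, h2, ?_⟩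
  · rw [inf_comm] at h1
    exact isComp_le_L2 (mem_centralizer_singleton_iff.mpr hwy.symm) (h.sq hy) h1
  · intro k hk hkw h3 h4 h5
    obtain ⟨n, hn⟩ := h5 ⟨k, mem_zpowers k⟩
    rw [sg_mem h e hy hk] at h3 h4
    exact mem_JJ (e y hy) hk hkw h3 h4 (n := n) (by simpa using congrArg Subtype.val hn)

end Cfsg.Agent.GH.A7.InstSig
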