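import Cfsg.Agent.GH.A7.WrType
import Cfsg.Agent.Walter.SylowIn
import Cfsg.Agent.GH.Models.PSL43

/-!
# GH-L2, `K / O(K) = A₇`: the end, `S = D₈ wr 2`

helper858's text (blueprints/GH-L2-A7.md), section (6.3).  `e 0` an involution, `T` a Sylow 2-subgroup of `C(e 0)` of
order 32, `X = (e 0)^G ∩ T = {e 0, e 1, e 2, e 3}` a basis of `E = E₁₆`, `d ∈ T` an involution centralising `e 0`,
`e 1` and interchanging `e 2`, `e 3`; `r` centralises `e 0` and permutes `e 1, e 2, e 3` cyclically.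
Then a Sylow 2-subgroup of `G` is `D₈ wr 2`.
-/

set_option autoImplicit false

namespace Cfsg.Agent.GH.A7.WrEnd

open Subgroup Cfsg.Agent.Walter.SylowIn Cfsg.Agent.GH.C2Syl Cfsg.Agent.GH.C2Syl.PB
open Cfsg.Agent.GH.PcTypes Cfsg.Agent.GH.Pc

variable {G : Type*} [Group G]

/-- The input. -/
structure In (T E : Subgroup G) (e : Fin 4 → G) (d r : G) : Prop where
  syl : SylIn 2 T (centralizer ({e 0} : Set G))
  cls : ∀ i, ∃ g : G, g * e 0 * g⁻¹ = e i
  only : ∀ g : G, g * e 0 * g⁻¹ ∈ T → ∃ i, g * e 0 * g⁻¹ = e i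
  sq : e 0 * e 0 = 1
  comm : ∀ i j, e i * e j = e j * e i
  cardE : Nat.card E = 16
  memE : ∀ i, e i ∈ E
  gen : ∀ K : Subgroup G, (∀ i, e i ∈ K) → E ≤ K
  ET : E ≤ T
  cardT : Nat.card T = 32
  dT : d ∈ T
  dd : d * d = 1
  d0 : d * e 0 = e 0 * d
  d1 : d * e 1 = e 1 * d
  d2 : d * e 2 = e 3 * d
  r0 : r * e 0 = e 0 * r
  r1 : r * e 1 = e 2 * r
  r2 : r * e 2 = e 3 * r
  r3 : r * e 3 = e 1 * r

theorem map_conj_mem {P : Subgroup G} {g x : G} :
    x ∈ P.map (MulAut.conj g).toMonoidHom ↔ g⁻¹ * x * g ∈ P := by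
  constructor
  · rintro ⟨y, hy, rfl⟩
    simpa [mul_assoc] using hy
  · intro h
    exact ⟨_, h, by simp [mul_assoc]⟩

namespace In

variable {T E : Subgroup G} {e : Fin 4 → G} {d r : G}

theorem sq' (h : In T E e d r) (i : Fin 4) : e i * e i = 1 := by
  obtain ⟨g, hg⟩ := h.cls i
  rw [← hg]
  calc g * e 0 * g⁻¹ * (g * e 0 * g⁻¹) = g * (e 0 * e 0) * g⁻¹ := by group
    _ = 1 := by rw [h.sq]; group

theorem commE (h : In T E e d r) {x y : G} (hx : x ∈ E) (hy : y ∈ E) : x * y = y * x := by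
  have h1 : ∀ i, E ≤ centralizer ({e i} : Set G) := fun i => h.gen _ fun j =>
    mem_centralizer_singleton_iff.2 (h.comm j i)
  have h2 : E ≤ centralizer ({x} : Set G) := h.gen _ fun j =>
    mem_centralizer_singleton_iff.2 (mem_centralizer_singleton_iff.1 (h1 j hx)).symm
  exact (mem_centralizer_singleton_iff.1 (h2 hy)).symm

theorem sqE (h : In T E e d r) {x : G} (hx : x ∈ E) : x * x = 1 := by
  let K : Subgroup G :=
    { carrier := {x | x ∈ E ∧ x * x = 1}
      one_mem' := ⟨E.one_mem, one_mul 1⟩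
      mul_mem' := by
        rintro a b ⟨ha, ha'⟩ ⟨hb, hb'⟩
        refine ⟨E.mul_mem ha hb, ?_⟩
        calc a * b * (a * b) = a * (b * a) * b := by group
          _ = a * (a * b) * b := by rw [h.commE hb ha]
          _ = (a * a) * (b * b) := by group
          _ = 1 := by rw [ha', hb', one_mul]
      inv_mem' := by
        rintro a ⟨ha, ha'⟩
        refine ⟨E.inv_mem ha, ?_⟩
        rw [← mul_inv_rev, ha', inv_one] }
  exact (h.gen K (fun i => ⟨h.memE i, h.sq' i⟩) hx).2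

theorem finE (h : In T E e d r) : Finite E := Nat.finite_of_card_ne_zero (by rw [h.cardE]; norm_num)

/-- The elements of `E` in the type `E`: a basis. -/
theorem pb (h : In T E e d r) {X : Subgroup G} (hX : E ≤ X) :
    PB (E.subgroupOf X) (fun i => (⟨e i, hX (h.memE i)⟩ : X)) where
  mem i := h.memE i
  card := by
    rw [Nat.card_congr (subgroupOfEquivOfLe hX).toEquiv, h.cardE]
  gen := by
    intro x hx
    have h1 : E ≤ (closure (Set.range fun i => (⟨e i, hX (h.memE i)⟩ : X))).map X.subtype :=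
      h.gen _ fun i => ⟨_, subset_closure ⟨i, rfl⟩, rfl⟩
    obtain ⟨y, hy, hyx⟩ := h1 hx
    have : y = x := Subtype.ext hyx
    rwa [← this]

theorem el (h : In T E e d r) {X : Subgroup G} (hX : X ≤ normalizer (E : Set G)) :
    El (E.subgroupOf X) where
  normal := by
    constructor
    intro n hn g
    exact (mem_normalizer_iff.1 (hX g.2) n).1 hn
  sq v hv := Subtype.ext (h.sqE hv)

theorem E_le_norm : E ≤ normalizer (E : Set G) := le_normalizer

theorem inj (h : In T E e d r) : Function.Injective e := by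
  have h1 := pt_injective (h.el E_le_norm) (h.pb le_rfl)
  intro i j hij
  have h2 : pt (fun i => (⟨e i, h.memE i⟩ : E)) (Pi.single i 1) = pt (fun i => (⟨e i, h.memE i⟩ : E)) (Pi.single j 1) := by
    rw [pt_single_one, pt_single_one]
    exact Subtype.ext hij
  have h3 := h1 h2
  by_contra hne
  have h4 := congrFun h3 i
  rw [Pi.single_eq_same, Pi.single_eq_of_ne hne] at h4
  exact absurd h4 (by decide)

/-- Elements conjugating `e i` into `T` permute the `e i`. -/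
theorem perm_of (h : In T E e d r) {g : G} (hg : ∀ i, g * e i * g⁻¹ ∈ T) :
    ∃ σ : Equiv.Perm (Fin 4), ∀ i, g * e i * g⁻¹ = e (σ i) := by
  have h1 : ∀ i, ∃ j, g * e i * g⁻¹ = e j := by
    intro i
    obtain ⟨k, hk⟩ := h.cls i
    have h2 : g * k * e 0 * (g * k)⁻¹ = g * e i * g⁻¹ := by rw [← hk]; group
    obtain ⟨j, hj⟩ := h.only (g * k) (by rw [h2]; exact hg i)
    exact ⟨j, by rw [← h2]; exact hj⟩
  choose f hf using h1
  have hinj : Function.Injective f := by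
    intro i j hij
    apply h.inj
    have h2 : g * e i * g⁻¹ = g * e j * g⁻¹ := by rw [hf, hf, hij]
    exact mul_left_cancel (mul_right_cancel h2)
  exact ⟨Equiv.ofBijective f (Finite.injective_iff_bijective.1 hinj), hf⟩

theorem acts_inv {g : G} {σ : Equiv.Perm (Fin 4)} (hg : ∀ i, g * e i * g⁻¹ = e (σ i)) (i : Fin 4) :
    g⁻¹ * e i * g⁻¹⁻¹ = e (σ.symm i) := by
  have h1 := hg (σ.symm i)
  rw [Equiv.apply_symm_apply] at h1
  rw [← h1]; group

theorem mem_norm (h : In T E e d r) {g : G} {σ : Equiv.Perm (Fin 4)}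
    (hg : ∀ i, g * e i * g⁻¹ = e (σ i)) : g ∈ normalizer (E : Set G) := by
  have key : ∀ {g : G} {σ : Equiv.Perm (Fin 4)}, (∀ i, g * e i * g⁻¹ = e (σ i)) → ∀ x ∈ E, g * x * g⁻¹ ∈ E := by
    intro g σ hg x hx
    have h1 : E ≤ E.comap (MulAut.conj g).toMonoidHom := h.gen _ fun i => by
      rw [mem_comap]
      change g * e i * g⁻¹ ∈ E
      rw [hg]; exact h.memE _
    exact h1 hx
  rw [mem_normalizer_iff]
  intro x
  refine ⟨key hg x, fun hx => ?_⟩
  have h1 := key (acts_inv hg) _ hx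
  have e1 : g⁻¹ * (g * x * g⁻¹) * g⁻¹⁻¹ = x := by group
  rwa [e1] at h1

theorem acts_of_norm (h : In T E e d r) {g : G} (hg : g ∈ normalizer (E : Set G)) :
    ∃ σ : Equiv.Perm (Fin 4), ∀ i, g * e i * g⁻¹ = e (σ i) :=
  h.perm_of fun i => h.ET ((mem_normalizer_iff.1 hg _).1 (h.memE i))

theorem acts_unique (h : In T E e d r) {g : G} {σ τ : Equiv.Perm (Fin 4)}
    (h1 : ∀ i, g * e i * g⁻¹ = e (σ i)) (h2 : ∀ i, g * e i * g⁻¹ = e (τ i)) : σ = τ :=
  Equiv.ext fun i => h.inj (by rw [← h1, ← h2])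

/-- The action on the basis. -/
noncomputable def phi (h : In T E e d r) : normalizer (E : Set G) →* Equiv.Perm (Fin 4) where
  toFun g := Classical.choose (h.acts_of_norm g.2)
  map_one' := h.acts_unique (Classical.choose_spec (h.acts_of_norm (1 : normalizer (E : Set G)).2))
    (fun i => by simp)
  map_mul' a b := h.acts_unique (Classical.choose_spec (h.acts_of_norm (a * b).2)) (fun i => by
    have ha := Classical.choose_spec (h.acts_of_norm a.2)
    have hb := Classical.choose_spec (h.acts_of_norm b.2)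
    have h1 : ((a * b : normalizer (E : Set G)) : G) * e i * ((a * b : normalizer (E : Set G)) : G)⁻¹ =
        a * (b * e i * (b : G)⁻¹) * (a : G)⁻¹ := by push_cast; group
    rw [h1, hb, ha]
    rfl)

theorem phi_spec (h : In T E e d r) (g : normalizer (E : Set G)) (i : Fin 4) :
    (g : G) * e i * (g : G)⁻¹ = e (h.phi g i) := Classical.choose_spec (h.acts_of_norm g.2) i

theorem phi_eq (h : In T E e d r) {g : normalizer (E : Set G)} {σ : Equiv.Perm (Fin 4)}
    (hg : ∀ i, (g : G) * e i * (g : G)⁻¹ = e (σ i)) : h.phi g = σ := h.acts_unique (h.phi_spec g) hg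

theorem cj_of {g x y : G} (h : g * x = y * g) : g * x * g⁻¹ = y := by rw [h]; group

/-- `d` acts as the transposition `(2 3)`. -/
theorem d_acts (h : In T E e d r) (i : Fin 4) : d * e i * d⁻¹ = e (Equiv.swap 2 3 i) := by
  have h3 : d * e 3 = e 2 * d := by
    have h1 := h.d2
    have hdd := h.dd
    calc d * e 3 = d * (e 3 * d) * d⁻¹ := by group
      _ = (d * d) * e 2 * d⁻¹ := by rw [← h1]; group
      _ = e 2 * (d * d) * d⁻¹ := by rw [hdd]; group
      _ = e 2 * d := by group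
  fin_cases i
  · exact cj_of h.d0
  · exact cj_of h.d1
  · exact cj_of h.d2
  · exact cj_of h3

/-- the 3-cycle `(1 2 3)` -/
def c3 : Equiv.Perm (Fin 4) := Equiv.swap 1 3 * Equiv.swap 1 2

theorem r_acts (h : In T E e d r) (i : Fin 4) : r * e i * r⁻¹ = e (c3 i) := by
  fin_cases i
  · exact cj_of h.r0
  · exact cj_of h.r1
  · exact cj_of h.r2
  · exact cj_of h.r3

theorem d_not (h : In T E e d r) : d ∉ E := by
  intro hd
  have h1 := h.d_acts 2
  rw [show (Equiv.swap (2 : Fin 4) 3) 2 = 3 by decide, h.commE hd (h.memE 2), mul_inv_cancel_right] at h1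
  exact absurd (h.inj h1) (by decide)

theorem finT (h : In T E e d r) : Finite T := Nat.finite_of_card_ne_zero (by rw [h.cardT]; norm_num)

theorem cov (h : In T E e d r) {t : G} (ht : t ∈ T) : t ∈ E ∨ d * t ∈ E := by
  have h1 : (E.subgroupOf T).index = 2 := by
    have h2 := (E.subgroupOf T).card_mul_index
    rw [Nat.card_congr (subgroupOfEquivOfLe h.ET).toEquiv, h.cardE, h.cardT] at h2
    omega
  by_cases hE : t ∈ E
  · exact Or.inl hE
  · right
    have h3 := (Subgroup.mul_mem_iff_of_index_two h1 (a := ⟨d, h.dT⟩) (b := ⟨t, ht⟩)).2 (by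
      rw [mem_subgroupOf, mem_subgroupOf]
      exact ⟨fun hd => absurd hd h.d_not, fun ht' => absurd ht' hE⟩)
    exact h3

theorem T_le (h : In T E e d r) : T ≤ normalizer (E : Set G) := by
  have hE : E ≤ normalizer (E : Set G) := le_normalizer
  have hd : d ∈ normalizer (E : Set G) := h.mem_norm h.d_acts
  intro t ht
  rcases h.cov ht with h1 | h1
  · exact hE h1
  · have h2 := mul_mem (inv_mem hd) (hE h1)
    rwa [inv_mul_cancel_left] at h2

/-- Elements of `T` centralising the basis are in `E`. -/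
theorem cent_T (h : In T E e d r) {t : G} (ht : t ∈ T) (hc : ∀ i, t * e i = e i * t) : t ∈ E := by
  rcases h.cov ht with h1 | h1
  · exact h1
  · exfalso
    have h2 : d * e 2 * d⁻¹ = e 2 := by
      have h3 : d * t * e 2 = e 2 * (d * t) := h.commE h1 (h.memE 2)
      have h4 : d * e 2 * t = e 2 * d * t := by
        calc d * e 2 * t = d * (e 2 * t) := by group
          _ = d * (t * e 2) := by rw [hc]
          _ = d * t * e 2 := by group
          _ = e 2 * (d * t) := h3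
          _ = e 2 * d * t := by group
      exact cj_of (mul_right_cancel h4)
    rw [h.d_acts 2, show (Equiv.swap (2 : Fin 4) 3) 2 = 3 by decide] at h2
    exact absurd (h.inj h2) (by decide)

/-- `T` centralises `e 1`. -/
theorem T_cent_one (h : In T E e d r) {t : G} (ht : t ∈ T) : t * e 1 = e 1 * t := by
  rcases h.cov ht with h1 | h1
  · exact h.commE h1 (h.memE 1)
  · have h2 := h.commE h1 (h.memE 1)
    have h3 : d * (t * e 1) = d * (e 1 * t) := by
      calc d * (t * e 1) = d * t * e 1 := by group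
        _ = e 1 * (d * t) := h2
        _ = e 1 * d * t := by group
        _ = d * e 1 * t := by rw [h.d1]
        _ = d * (e 1 * t) := by group
    exact mul_left_cancel h3

variable [Finite G]

/-- An element of `N(T)` moving `e 0` to `e 1`. -/
theorem exists_g0 (h : In T E e d r) : ∃ (g : G) (σ : Equiv.Perm (Fin 4)),
    (∀ i, g * e i * g⁻¹ = e (σ i)) ∧ σ 0 = 1 := by
  have : Fact (Nat.Prime 2) := ⟨Nat.prime_two⟩
  obtain ⟨k, hk⟩ := h.cls 1
  have hC : (centralizer ({e 0} : Set G)).map (MulAut.conj k).toMonoidHom = centralizer ({e 1} : Set G) := by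
    ext x
    rw [map_conj_mem, mem_centralizer_singleton_iff, mem_centralizer_singleton_iff, ← hk]
    constructor
    · intro hx
      calc x * (k * e 0 * k⁻¹) = k * (k⁻¹ * x * k * e 0) * k⁻¹ := by group
        _ = k * (e 0 * (k⁻¹ * x * k)) * k⁻¹ := by rw [hx]
        _ = k * e 0 * k⁻¹ * x := by group
    · intro hx
      calc k⁻¹ * x * k * e 0 = k⁻¹ * (x * (k * e 0 * k⁻¹)) * k := by group
        _ = k⁻¹ * (k * e 0 * k⁻¹ * x) * k := by rw [hx]
        _ = e 0 * (k⁻¹ * x * k) := by group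
  have h1 : SylIn 2 (T.map (MulAut.conj k).toMonoidHom) (centralizer ({e 1} : Set G)) := by
    rw [← hC]
    exact h.syl.map_conj k
  have hT1 : T ≤ centralizer ({e 1} : Set G) := fun t ht =>
    mem_centralizer_singleton_iff.2 (h.T_cent_one ht)
  have h2 : SylIn 2 T (centralizer ({e 1} : Set G)) := by
    refine sylIn_of_card_le h1 hT1 h.syl.isPGroup ?_
    rw [card_map_of_injective (MulAut.conj k).injective]
  obtain ⟨c, hc, h3⟩ := h1.exists_conj h2
  rw [mem_centralizer_singleton_iff] at hc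
  have h4 : ∀ t ∈ T, (c * k) * t * (c * k)⁻¹ ∈ T := by
    intro t ht
    rw [← h3]
    refine ⟨k * t * k⁻¹, ⟨t, ht, rfl⟩, ?_⟩
    change c * (k * t * k⁻¹) * c⁻¹ = _
    group
  obtain ⟨σ, hσ⟩ := h.perm_of (g := c * k) fun i => h4 _ (h.ET (h.memE i))
  refine ⟨c * k, σ, hσ, ?_⟩
  apply h.inj
  rw [← hσ, ← hk]
  have h5 : c * k * e 0 * (c * k)⁻¹ = c * (k * e 0 * k⁻¹) * c⁻¹ := by group
  rw [h5, hk, hc]
  group

theorem S3_gen : ∀ τ : Equiv.Perm (Fin 4), τ 0 = 0 → τ = 1 ∨ τ = c3 ∨ τ = c3 * c3 ∨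
    τ = Equiv.swap 2 3 ∨ τ = Equiv.swap 2 3 * c3 ∨ τ = Equiv.swap 2 3 * (c3 * c3) := by
  decide

theorem phi_surj (h : In T E e d r) : Function.Surjective h.phi := by
  have hd : Equiv.swap 2 3 ∈ h.phi.range := ⟨⟨d, h.mem_norm h.d_acts⟩, h.phi_eq h.d_acts⟩
  have hr : c3 ∈ h.phi.range := ⟨⟨r, h.mem_norm h.r_acts⟩, h.phi_eq h.r_acts⟩
  obtain ⟨g, σ, hg, hσ⟩ := h.exists_g0
  have hs : σ ∈ h.phi.range := ⟨⟨g, h.mem_norm hg⟩, h.phi_eq hg⟩
  have h0 : ∀ τ : Equiv.Perm (Fin 4), τ 0 = 0 → τ ∈ h.phi.range := by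
    intro τ hτ
    rcases S3_gen τ hτ with h1 | h1 | h1 | h1 | h1 | h1 <;> rw [h1]
    · exact one_mem _
    · exact hr
    · exact mul_mem hr hr
    · exact hd
    · exact mul_mem hd hr
    · exact mul_mem hd (mul_mem hr hr)
  have key : ∀ (ρ τ : Equiv.Perm (Fin 4)), ρ ∈ h.phi.range → ρ 0 = τ 0 → τ ∈ h.phi.range := by
    intro ρ τ hρ h1
    have h2 : (ρ⁻¹ * τ) 0 = 0 := by
      rw [Equiv.Perm.mul_apply, ← h1]
      exact Equiv.symm_apply_apply ρ 0
    have h3 := mul_mem hρ (h0 _ h2)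
    rwa [mul_inv_cancel_left] at h3
  intro τ
  have h4 : τ ∈ h.phi.range := by
    have h5 : τ 0 = 0 ∨ τ 0 = 1 ∨ τ 0 = 2 ∨ τ 0 = 3 := by
      generalize τ 0 = k
      revert k
      decide
    rcases h5 with h5 | h5 | h5 | h5
    · exact h0 τ h5
    · exact key σ τ hs (by rw [hσ, h5])
    · refine key (c3 * σ) τ (mul_mem hr hs) ?_
      rw [Equiv.Perm.mul_apply, hσ, h5]
      decide
    · refine key (c3 * (c3 * σ)) τ (mul_mem hr (mul_mem hr hs)) ?_
      rw [Equiv.Perm.mul_apply, Equiv.Perm.mul_apply, hσ, h5]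
      decide
  exact h4


/-! ### The permutations of order a power of two -/

/-- `σ` preserves the partition `{0, 1}, {2, 3}`. -/
def Q8 (σ : Equiv.Perm (Fin 4)) : Prop :=
  (σ 2 = 2 ∧ σ 3 = 3) ∨ (σ 2 = 3 ∧ σ 3 = 2) ∨ (σ 2 = 0 ∧ σ 3 = 1) ∨ (σ 2 = 1 ∧ σ 3 = 0)

instance : DecidablePred Q8 := fun σ => by unfold Q8; infer_instance

set_option maxRecDepth 20000 in
theorem Q8_of : ∀ σ : Equiv.Perm (Fin 4), Q8 σ ∨
    ((Equiv.swap 2 3 * (σ * Equiv.swap 2 3 * σ⁻¹)) * ((Equiv.swap 2 3 * (σ * Equiv.swap 2 3 * σ⁻¹)) *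
      (Equiv.swap 2 3 * (σ * Equiv.swap 2 3 * σ⁻¹))) = 1 ∧
      (Equiv.swap 2 3 * (σ * Equiv.swap 2 3 * σ⁻¹)) ≠ 1) := by decide

omit [Finite G] in
theorem eq_one_of {σ : Equiv.Perm (Fin 4)} {n : ℕ} (hn : σ ^ 2 ^ n = 1) (h3 : σ * (σ * σ) = 1) : σ = 1 := by
  have h1 : orderOf σ ∣ 3 := orderOf_dvd_of_pow_eq_one (by rw [pow_succ', pow_two]; exact h3)
  have h2 : orderOf σ ∣ 2 ^ n := orderOf_dvd_of_pow_eq_one hn
  have h4 : Nat.Coprime (2 ^ n) 3 := Nat.Coprime.pow_left n (by norm_num)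
  have h5 : orderOf σ = 1 := Nat.dvd_one.1 (h4 ▸ Nat.dvd_gcd h2 h1)
  exact orderOf_eq_one_iff.1 h5

omit [Finite G] in
theorem card_Q8 : (Finset.univ.filter Q8 : Finset (Equiv.Perm (Fin 4))).card = 8 := by decide

omit [Finite G] in
/-- The elements of a 2-subgroup of `Perm (Fin 4)` of order 8 containing `(2 3)`. -/
theorem mem_Q8_iff (Q : Sylow 2 (Equiv.Perm (Fin 4))) (hs : Equiv.swap 2 3 ∈ Q) (σ : Equiv.Perm (Fin 4)) :
    σ ∈ Q ↔ Q8 σ := by
  have h1 : ∀ σ, σ ∈ Q → Q8 σ := by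
    intro σ hσ
    rcases Q8_of σ with h | ⟨h3, h4⟩
    · exact h
    · exfalso
      have h2 : Equiv.swap 2 3 * (σ * Equiv.swap 2 3 * σ⁻¹) ∈ (Q : Subgroup (Equiv.Perm (Fin 4))) :=
        mul_mem hs (mul_mem (mul_mem hσ hs) (inv_mem hσ))
      obtain ⟨n, hn⟩ := Q.isPGroup' ⟨_, h2⟩
      exact h4 (eq_one_of (congrArg Subtype.val hn) h3)
  have hc : Nat.card Q = 8 := by
    have h2 := (Q : Subgroup (Equiv.Perm (Fin 4))).card_mul_index
    have h3 : Nat.card (Equiv.Perm (Fin 4)) = 24 := by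
      rw [Nat.card_eq_fintype_card, Fintype.card_perm, Fintype.card_fin]
      rfl
    rw [h3] at h2
    have h4 : ¬ 2 ∣ (Q : Subgroup (Equiv.Perm (Fin 4))).index := Q.not_dvd_index
    obtain ⟨k, hk⟩ := IsPGroup.iff_card.1 Q.isPGroup'
    change Nat.card (Q : Subgroup (Equiv.Perm (Fin 4))) = 8
    rw [hk] at h2 ⊢
    have h5 : k < 5 := by
      by_contra h5
      have h6 : 2 ^ 5 ≤ 2 ^ k := Nat.pow_le_pow_right (by norm_num) (by omega)
      have h7 : (Q : Subgroup (Equiv.Perm (Fin 4))).index ≠ 0 := by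
        intro h; rw [h] at h4; exact h4 (dvd_zero 2)
      have h8 : 2 ^ 5 * 1 ≤ 2 ^ k * (Q : Subgroup (Equiv.Perm (Fin 4))).index :=
        Nat.mul_le_mul h6 (Nat.one_le_iff_ne_zero.2 h7)
      omega
    interval_cases k <;> omega
  have h2 : (Q : Set (Equiv.Perm (Fin 4))) =
      ((Finset.univ.filter Q8 : Finset (Equiv.Perm (Fin 4))) : Set (Equiv.Perm (Fin 4))) := by
    refine Set.eq_of_subset_of_ncard_le ?_ ?_ (Set.toFinite _)
    · intro σ hσ
      rw [Finset.mem_coe, Finset.mem_filter]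
      exact ⟨Finset.mem_univ _, h1 σ hσ⟩
    · rw [Set.ncard_coe_finset, card_Q8]
      have h4 : (Q : Set (Equiv.Perm (Fin 4))).ncard = 8 := by
        rw [← hc]; rfl
      rw [h4]
  constructor
  · exact h1 σ
  · intro h
    have : σ ∈ (Q : Set (Equiv.Perm (Fin 4))) := by
      rw [h2, Finset.mem_coe, Finset.mem_filter]
      exact ⟨Finset.mem_univ _, h⟩
    exact this

/-- `M` is a Sylow 2-subgroup of `N(E)` containing `T`. -/
structure Big (T E : Subgroup G) (e : Fin 4 → G) (M : Subgroup G) : Prop where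
  syl : SylIn 2 M (normalizer (E : Set G))
  TM : T ≤ M
  act : ∀ g ∈ M, ∀ σ : Equiv.Perm (Fin 4), (∀ i, g * e i * g⁻¹ = e (σ i)) → Q8 σ
  sur : ∀ σ : Equiv.Perm (Fin 4), Q8 σ → ∃ g ∈ M, ∀ i, g * e i * g⁻¹ = e (σ i)
  cen : ∀ g ∈ M, (∀ i, g * e i = e i * g) → g ∈ E
  card : Nat.card M = 128

omit [Finite G] in
theorem cent_M (h : In T E e d r) {M : Subgroup G} (hM : IsPGroup 2 M) (hTM : T ≤ M) {g : G}
    (hg : g ∈ M) (hc : ∀ i, g * e i = e i * g) : g ∈ E := by
  have h1 : M ⊓ centralizer ({e 0} : Set G) = T := by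
    refine h.syl.eq_of_le (le_inf hTM h.syl.le) inf_le_right (hM.to_le inf_le_left)
  apply h.cent_T _ hc
  rw [← h1]
  exact ⟨hg, mem_centralizer_singleton_iff.2 (hc 0)⟩

theorem exists_big (h : In T E e d r) : ∃ M, Big T E e M := by
  have : Fact (Nat.Prime 2) := ⟨Nat.prime_two⟩
  obtain ⟨M, ⟨M0, hM0⟩, hTM⟩ := exists_sylIn_ge h.T_le h.syl.isPGroup
  have hM2 : IsPGroup 2 M := by rw [← hM0]; exact M0.isPGroup'.map _
  have hMN : M ≤ normalizer (E : Set G) := by rw [← hM0]; exact map_subtype_le _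
  have mem0 : ∀ g : normalizer (E : Set G), (g : G) ∈ M ↔ g ∈ M0 := by
    intro g
    rw [← hM0]
    constructor
    · rintro ⟨y, hy, hyg⟩
      have : y = g := Subtype.ext hyg
      rwa [← this]
    · intro hg
      exact ⟨g, hg, rfl⟩
  set Q := M0.mapSurjective h.phi_surj with hQ
  have hQm : ∀ σ, σ ∈ Q ↔ ∃ g ∈ M0, h.phi g = σ := by
    intro σ
    have h1 : (Q : Subgroup (Equiv.Perm (Fin 4))) = (M0 : Subgroup (normalizer (E : Set G))).map h.phi := rfl
    change σ ∈ (Q : Subgroup (Equiv.Perm (Fin 4))) ↔ _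
    rw [h1, mem_map]
    rfl
  have hsw : Equiv.swap 2 3 ∈ Q :=
    (hQm _).2 ⟨⟨d, h.mem_norm h.d_acts⟩, (mem0 _).1 (hTM h.dT), h.phi_eq h.d_acts⟩
  have hiff := mem_Q8_iff Q hsw
  have hcen : ∀ g ∈ M, (∀ i, g * e i = e i * g) → g ∈ E := fun g hg hc => h.cent_M hM2 hTM hg hc
  refine ⟨M, ⟨M0, hM0⟩, hTM, ?_, ?_, hcen, ?_⟩
  · intro g hg σ hσ
    rw [← hiff, hQm]
    exact ⟨⟨g, hMN hg⟩, (mem0 _).1 hg, h.phi_eq hσ⟩
  · intro σ hσ
    rw [← hiff, hQm] at hσ
    obtain ⟨g, hg, rfl⟩ := hσ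
    exact ⟨g, (mem0 g).2 hg, h.phi_spec g⟩
  · -- the order
    let f : M →* Equiv.Perm (Fin 4) := h.phi.comp (inclusion hMN)
    have hfs : ∀ (g : M) i, (g : G) * e i * (g : G)⁻¹ = e (f g i) := fun g i =>
      h.phi_spec (inclusion hMN g) i
    have h1 := f.ker.card_mul_index
    rw [index_ker] at h1
    have h2 : Nat.card f.range = 8 := by
      have h3 : (f.range : Set (Equiv.Perm (Fin 4))) =
          ((Finset.univ.filter Q8 : Finset (Equiv.Perm (Fin 4))) : Set (Equiv.Perm (Fin 4))) := by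
        ext σ
        rw [Finset.mem_coe, Finset.mem_filter, and_iff_right (Finset.mem_univ σ), ← hiff, hQm]
        constructor
        · rintro ⟨g, rfl⟩
          exact ⟨inclusion hMN g, (mem0 _).1 g.2, rfl⟩
        · rintro ⟨g, hg, rfl⟩
          exact ⟨⟨g, (mem0 g).2 hg⟩, rfl⟩
      have h5 : (f.range : Set (Equiv.Perm (Fin 4))).ncard = 8 := by
        rw [h3, Set.ncard_coe_finset, card_Q8]
      rw [← h5]; rfl
    have h3 : Nat.card f.ker = 16 := by
      have h4 : f.ker.map M.subtype = E := by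
        ext x
        constructor
        · rintro ⟨g, hg, rfl⟩
          apply hcen _ g.2
          intro i
          have h5 := hfs g i
          rw [(MonoidHom.mem_ker).1 hg] at h5
          exact mul_inv_eq_iff_eq_mul.1 h5
        · intro hx
          refine ⟨⟨x, hTM (h.ET hx)⟩, ?_, rfl⟩
          rw [SetLike.mem_coe, MonoidHom.mem_ker]
          apply h.phi_eq
          intro i
          change x * e i * x⁻¹ = e i
          rw [h.commE hx (h.memE i), mul_inv_cancel_right]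
      rw [← h.cardE, ← h4, card_map_of_injective M.subtype_injective]
    rw [h2, h3] at h1
    exact h1.symm

/-- A conjugate of `e 0` in `M` commuting with some `e j` is in `E`. -/
theorem mem_of_comm (h : In T E e d r) {M : Subgroup G} (hM : IsPGroup 2 M) (hEM : E ≤ M) {f k : G}
    (hf : f ∈ M) (hk : k * e 0 * k⁻¹ = f) {j : Fin 4} (hj : f * e j = e j * f) : f ∈ E := by
  have : Fact (Nat.Prime 2) := ⟨Nat.prime_two⟩
  obtain ⟨l, hl⟩ := h.cls j
  set R : Subgroup G := (M ⊓ centralizer ({e j} : Set G)).map (MulAut.conj l⁻¹).toMonoidHom with hR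
  have hRC : R ≤ centralizer ({e 0} : Set G) := by
    rintro _ ⟨x, hx, rfl⟩
    change l⁻¹ * x * l⁻¹⁻¹ ∈ _
    have h1 : x * e j = e j * x := mem_centralizer_singleton_iff.1 hx.2
    rw [← hl] at h1
    rw [mem_centralizer_singleton_iff]
    calc l⁻¹ * x * l⁻¹⁻¹ * e 0 = l⁻¹ * (x * (l * e 0 * l⁻¹)) * l := by group
      _ = l⁻¹ * (l * e 0 * l⁻¹ * x) * l := by rw [h1]
      _ = e 0 * (l⁻¹ * x * l⁻¹⁻¹) := by group
  have hR2 : IsPGroup 2 R := (hM.to_le inf_le_left).map _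
  obtain ⟨c, -, hc⟩ := h.syl.conj_le hRC hR2
  have key : ∀ x ∈ M, x * e j = e j * x → (c * l⁻¹) * x * (c * l⁻¹)⁻¹ ∈ T := by
    intro x hx hxj
    have h1 := hc (l⁻¹ * x * l⁻¹⁻¹) ⟨x, ⟨hx, mem_centralizer_singleton_iff.2 hxj⟩, rfl⟩
    have h2 : (c * l⁻¹) * x * (c * l⁻¹)⁻¹ = c * (l⁻¹ * x * l⁻¹⁻¹) * c⁻¹ := by group
    rw [h2]; exact h1
  obtain ⟨σ, hσ⟩ := h.perm_of (g := c * l⁻¹) fun i => key _ (hEM (h.memE i)) (h.comm i j)
  have h1 := key f hf hj
  have h2 : (c * l⁻¹ * k) * e 0 * (c * l⁻¹ * k)⁻¹ = (c * l⁻¹) * f * (c * l⁻¹)⁻¹ := by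
    rw [← hk]; group
  obtain ⟨i, hi⟩ := h.only (c * l⁻¹ * k) (by rw [h2]; exact h1)
  rw [h2] at hi
  have h3 := hσ (σ.symm i)
  rw [Equiv.apply_symm_apply, ← hi] at h3
  rw [← mul_left_cancel (mul_right_cancel h3)]
  exact h.memE _


/-! ### `N(M)` normalises `E` -/

omit [Finite G] in
theorem Q8_trans : ∀ i j : Fin 4, ∃ σ : Equiv.Perm (Fin 4), Q8 σ ∧ σ i = j := by decide

omit [Finite G] in
/-- free involutions -/
theorem free_cases : ∀ σ : Equiv.Perm (Fin 4), σ * σ = 1 → (∀ i, σ i ≠ i) →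
    (∀ i, σ i = τa i) ∨ (∀ i, σ i = τb i) ∨ ∀ i, σ i = τc i := by decide

/-- the regular four-group -/
def V4 : Subgroup (Equiv.Perm (Fin 4)) where
  carrier := {σ | σ = 1 ∨ σ = Equiv.swap 0 1 * Equiv.swap 2 3 ∨ σ = Equiv.swap 0 2 * Equiv.swap 1 3 ∨
    σ = Equiv.swap 0 3 * Equiv.swap 1 2}
  one_mem' := Or.inl rfl
  mul_mem' := by
    rintro a b (rfl | rfl | rfl | rfl) (rfl | rfl | rfl | rfl)
    all_goals
      simp only [Set.mem_ofPred_eq]
      decide
  inv_mem' := by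
    rintro a (rfl | rfl | rfl | rfl)
    all_goals
      simp only [Set.mem_ofPred_eq]
      decide

omit [Finite G] in
theorem mem_V4_of_free : ∀ σ : Equiv.Perm (Fin 4), σ * σ = 1 → (∀ i, σ i ≠ i) →
    σ = 1 ∨ σ = Equiv.swap 0 1 * Equiv.swap 2 3 ∨ σ = Equiv.swap 0 2 * Equiv.swap 1 3 ∨
    σ = Equiv.swap 0 3 * Equiv.swap 1 2 := by decide

omit [Finite G] in
theorem card_V4 : Nat.card V4 ≤ 4 := by
  have h1 : (V4 : Set (Equiv.Perm (Fin 4))) ⊆ (({1, Equiv.swap 0 1 * Equiv.swap 2 3,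
      Equiv.swap 0 2 * Equiv.swap 1 3, Equiv.swap 0 3 * Equiv.swap 1 2} : Finset (Equiv.Perm (Fin 4))) :
      Set (Equiv.Perm (Fin 4))) := by
    intro σ hσ
    rw [Finset.mem_coe]
    simp only [Finset.mem_insert, Finset.mem_singleton]
    exact hσ
  have h2 := Set.ncard_le_ncard h1 (Set.toFinite _)
  rw [Set.ncard_coe_finset] at h2
  exact h2.trans (by decide)

omit [Finite G] in
/-- The fixed points of a free involution on the permutation module. -/
theorem card_fix : ∀ τ : Fin 4 → Fin 4, (τ = τa ∨ τ = τb ∨ τ = τc) →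
    Fintype.card {s : Fin 4 → ZMod 2 // s ∘ τ = s} ≤ 4 := by
  rintro τ (rfl | rfl | rfl) <;> decide

omit [Finite G] in
theorem fix_two : ∀ τ τ' : Fin 4 → Fin 4, (τ = τa ∨ τ = τb ∨ τ = τc) → (τ' = τa ∨ τ' = τb ∨ τ' = τc) →
    τ ≠ τ' → ∀ s : Fin 4 → ZMod 2, s ∘ τ = s → s ∘ τ' = s → s = 0 ∨ s = fun _ => 1 := by
  rintro τ τ' (rfl | rfl | rfl) (rfl | rfl | rfl) hne
  all_goals first
    | exact absurd rfl hne
    | decide

omit [Finite G] in
theorem good_of {τ : Fin 4 → Fin 4} (h : τ = τa ∨ τ = τb ∨ τ = τc) : Good τ := by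
  rcases h with rfl | rfl | rfl
  · exact good_a
  · exact good_b
  · exact good_c

omit [Finite G] in
/-- `|C_E(f)| ≤ 4` for `f` acting as a free involution. -/
theorem card_cent (h : In T E e d r) {f : G} {τ : Fin 4 → Fin 4} (hτ : τ = τa ∨ τ = τb ∨ τ = τc)
    (hf : ∀ i, f * e i * f⁻¹ = e (τ i)) (hfN : f ∈ normalizer (E : Set G)) {A : Subgroup G}
    (hA : ∀ x ∈ A, x ∈ E ∧ f * x = x * f) : Nat.card A ≤ 4 := by
  have hN : E ≤ normalizer (E : Set G) := le_normalizer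
  have hV := h.el (X := normalizer (E : Set G)) le_rfl
  have hP := h.pb hN
  have h1 : ∀ x : A, ∃ s : {s : Fin 4 → ZMod 2 // s ∘ τ = s},
      (⟨x, hN (hA x x.2).1⟩ : normalizer (E : Set G)) = pt (fun i => ⟨e i, hN (h.memE i)⟩) s.1 := by
    intro x
    obtain ⟨s, hs⟩ := exists_pt hV hP (v := ⟨x, hN (hA x x.2).1⟩) (hA x x.2).1
    refine ⟨⟨s, ?_⟩, hs⟩
    apply pt_injective hV hP
    rw [← pt_conj hV hP (good_of hτ) (g := ⟨f, hfN⟩) (fun i => Subtype.ext (hf i)) s, ← hs]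
    apply Subtype.ext
    change f * x * f⁻¹ = x
    rw [(hA x x.2).2, mul_inv_cancel_right]
  choose F hF using h1
  have h2 : Function.Injective F := by
    intro x y hxy
    have h3 : (⟨x, hN (hA x x.2).1⟩ : normalizer (E : Set G)) = ⟨y, hN (hA y y.2).1⟩ := by
      rw [hF, hF, hxy]
    exact Subtype.ext (congrArg (fun z : normalizer (E : Set G) => (z : G)) h3)
  have h3 := Nat.card_le_card_of_injective F h2
  rw [Nat.card_eq_fintype_card (α := {s : Fin 4 → ZMod 2 // s ∘ τ = s})] at h3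
  exact h3.trans (card_fix τ hτ)

omit [Finite G] in
theorem card_cent_two (h : In T E e d r) {f f' : G} {τ τ' : Fin 4 → Fin 4}
    (hτ : τ = τa ∨ τ = τb ∨ τ = τc) (hτ' : τ' = τa ∨ τ' = τb ∨ τ' = τc) (hne : τ ≠ τ')
    (hf : ∀ i, f * e i * f⁻¹ = e (τ i)) (hfN : f ∈ normalizer (E : Set G))
    (hf' : ∀ i, f' * e i * f'⁻¹ = e (τ' i)) (hfN' : f' ∈ normalizer (E : Set G)) {A : Subgroup G}
    (hA : ∀ x ∈ A, x ∈ E ∧ f * x = x * f ∧ f' * x = x * f') : Nat.card A ≤ 2 := by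
  have hN : E ≤ normalizer (E : Set G) := le_normalizer
  have hV := h.el (X := normalizer (E : Set G)) le_rfl
  have hP := h.pb hN
  have h1 : ∀ x : A, ∃ c : Bool,
      (⟨x, hN (hA x x.2).1⟩ : normalizer (E : Set G)) =
        pt (fun i => ⟨e i, hN (h.memE i)⟩) (cond c (fun _ => 1) 0) := by
    intro x
    obtain ⟨s, hs⟩ := exists_pt hV hP (v := ⟨x, hN (hA x x.2).1⟩) (hA x x.2).1
    have h2 : s ∘ τ = s := by
      apply pt_injective hV hP
      rw [← pt_conj hV hP (good_of hτ) (g := ⟨f, hfN⟩) (fun i => Subtype.ext (hf i)) s, ← hs]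
      apply Subtype.ext
      change f * x * f⁻¹ = x
      rw [(hA x x.2).2.1, mul_inv_cancel_right]
    have h3 : s ∘ τ' = s := by
      apply pt_injective hV hP
      rw [← pt_conj hV hP (good_of hτ') (g := ⟨f', hfN'⟩) (fun i => Subtype.ext (hf' i)) s, ← hs]
      apply Subtype.ext
      change f' * x * f'⁻¹ = x
      rw [(hA x x.2).2.2, mul_inv_cancel_right]
    rcases fix_two τ τ' hτ hτ' hne s h2 h3 with h4 | h4
    · exact ⟨false, by rw [hs, h4]; rfl⟩
    · exact ⟨true, by rw [hs, h4]; rfl⟩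
  choose F hF using h1
  have h2 : Function.Injective F := by
    intro x y hxy
    have h3 : (⟨x, hN (hA x x.2).1⟩ : normalizer (E : Set G)) = ⟨y, hN (hA y y.2).1⟩ := by
      rw [hF, hF, hxy]
    exact Subtype.ext (congrArg (fun z : normalizer (E : Set G) => (z : G)) h3)
  have h3 := Nat.card_le_card_of_injective F h2
  rwa [Nat.card_eq_fintype_card (α := Bool), Fintype.card_bool] at h3

/-- `N(M) ≤ N(E)`. -/
theorem norm_le (h : In T E e d r) {M : Subgroup G} (hM : Big T E e M) :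
    normalizer (M : Set G) ≤ normalizer (E : Set G) := by
  have hM2 : IsPGroup 2 M := hM.syl.isPGroup
  have hMN : M ≤ normalizer (E : Set G) := hM.syl.le
  have hEM : E ≤ M := h.ET.trans hM.TM
  intro g hg
  have hgM : ∀ x ∈ M, g * x * g⁻¹ ∈ M := fun x hx => (mem_normalizer_iff.1 hg x).1 hx
  by_cases hA : ∃ i, g * e i * g⁻¹ ∈ E
  · obtain ⟨i, hi⟩ := hA
    have h1 : ∀ j, g * e j * g⁻¹ ∈ E := by
      intro j
      obtain ⟨σ, hσ, hij⟩ := Q8_trans i j
      obtain ⟨k, hk, hkσ⟩ := hM.sur σ hσ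
      have h2 := (mem_normalizer_iff.1 (hMN (hgM k hk)) _).1 hi
      have h3 : g * k * g⁻¹ * (g * e i * g⁻¹) * (g * k * g⁻¹)⁻¹ = g * (k * e i * k⁻¹) * g⁻¹ := by group
      rw [h3, hkσ, hij] at h2
      exact h2
    obtain ⟨σ, hσ⟩ := h.perm_of fun j => h.ET (h1 j)
    exact h.mem_norm hσ
  · exfalso
    push Not at hA
    -- the free involutions
    have hfM : ∀ i, g * e i * g⁻¹ ∈ M := fun i => hgM _ (hEM (h.memE i))
    have hfree : ∀ i, ∃ σ : Equiv.Perm (Fin 4), (∀ j, (g * e i * g⁻¹) * e j * (g * e i * g⁻¹)⁻¹ = e (σ j)) ∧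
        σ * σ = 1 ∧ ∀ j, σ j ≠ j := by
      intro i
      obtain ⟨σ, hσ⟩ := h.acts_of_norm (hMN (hfM i))
      refine ⟨σ, hσ, ?_, ?_⟩
      · apply Equiv.ext
        intro j
        apply h.inj
        rw [Equiv.Perm.mul_apply, ← hσ, ← hσ]
        have h1 : g * e i * g⁻¹ * (g * e i * g⁻¹) = 1 := by
          calc g * e i * g⁻¹ * (g * e i * g⁻¹) = g * (e i * e i) * g⁻¹ := by group
            _ = 1 := by rw [h.sq' i]; group
        calc g * e i * g⁻¹ * (g * e i * g⁻¹ * e j * (g * e i * g⁻¹)⁻¹) * (g * e i * g⁻¹)⁻¹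
            = (g * e i * g⁻¹ * (g * e i * g⁻¹)) * e j * (g * e i * g⁻¹ * (g * e i * g⁻¹))⁻¹ := by group
          _ = e j := by rw [h1]; group
      · intro j hj
        have h1 := hσ j
        rw [hj] at h1
        obtain ⟨k, hk⟩ := h.cls i
        apply hA i
        refine h.mem_of_comm hM2 hEM (hfM i) (k := g * k) (j := j) ?_ (mul_inv_eq_iff_eq_mul.1 h1)
        rw [← hk]; group
    -- `F = E^g`
    set F : Subgroup G := E.map (MulAut.conj g).toMonoidHom with hF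
    have hFcard : Nat.card F = 16 := by
      rw [hF, card_map_of_injective (MulAut.conj g).injective, h.cardE]
    have hFM : F ≤ M := by
      rintro _ ⟨x, hx, rfl⟩
      exact hgM x (hEM hx)
    have hFcomm : ∀ x ∈ F, ∀ y ∈ F, x * y = y * x := by
      rintro _ ⟨x, hx, rfl⟩ _ ⟨y, hy, rfl⟩
      rw [← map_mul, ← map_mul, h.commE hx hy]
    let f : F →* Equiv.Perm (Fin 4) := h.phi.comp (inclusion (hFM.trans hMN))
    have hfs : ∀ (x : F) i, (x : G) * e i * (x : G)⁻¹ = e (f x i) := fun x i =>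
      h.phi_spec (inclusion (hFM.trans hMN) x) i
    have hV4 : ∀ x : F, f x ∈ V4 := by
      have h1 : E ≤ ((V4.comap f).map F.subtype).comap (MulAut.conj g).toMonoidHom := h.gen _ fun i => by
        rw [mem_comap]
        refine ⟨⟨g * e i * g⁻¹, ⟨e i, h.memE i, rfl⟩⟩, ?_, rfl⟩
        rw [SetLike.mem_coe, mem_comap]
        obtain ⟨σ, hσ, h2, h3⟩ := hfree i
        have h4 : f ⟨g * e i * g⁻¹, ⟨e i, h.memE i, rfl⟩⟩ = σ := h.phi_eq hσ
        rw [h4]
        exact mem_V4_of_free σ h2 h3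
      rintro ⟨_, x, hx, rfl⟩
      obtain ⟨y, hy, hyx⟩ := h1 hx
      have h2 : y = ⟨(MulAut.conj g).toMonoidHom x, ⟨x, hx, rfl⟩⟩ := Subtype.ext hyx
      rw [← h2]
      exact hy
    have hindex := f.ker.card_mul_index
    rw [index_ker, hFcard] at hindex
    have hrange : Nat.card f.range ≤ 4 := by
      refine le_trans (Nat.card_le_card_of_injective (inclusion (show f.range ≤ V4 from ?_))
        (inclusion_injective _)) card_V4
      rintro _ ⟨x, rfl⟩
      exact hV4 x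
    -- the kernel
    set A : Subgroup G := f.ker.map F.subtype with hAdef
    have hAcard : Nat.card A = Nat.card f.ker := card_map_of_injective F.subtype_injective
    have hAE : ∀ x ∈ A, x ∈ E ∧ x ∈ F := by
      rintro _ ⟨x, hx, rfl⟩
      refine ⟨hM.cen _ (hFM x.2) fun i => ?_, x.2⟩
      have h1 := hfs x i
      rw [(MonoidHom.mem_ker).1 hx] at h1
      exact mul_inv_eq_iff_eq_mul.1 h1
    have hmemF : ∀ i, g * e i * g⁻¹ ∈ F := fun i => ⟨e i, h.memE i, rfl⟩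
    have hτ : ∀ i, ∃ τ : Fin 4 → Fin 4, (τ = τa ∨ τ = τb ∨ τ = τc) ∧
        ∀ j, (g * e i * g⁻¹) * e j * (g * e i * g⁻¹)⁻¹ = e (τ j) := by
      intro i
      obtain ⟨σ, hσ, h2, h3⟩ := hfree i
      rcases free_cases σ h2 h3 with h4 | h4 | h4
      · exact ⟨τa, Or.inl rfl, fun j => by rw [hσ, h4]⟩
      · exact ⟨τb, Or.inr (Or.inl rfl), fun j => by rw [hσ, h4]⟩
      · exact ⟨τc, Or.inr (Or.inr rfl), fun j => by rw [hσ, h4]⟩
    choose τ hτ1 hτ2 using hτ
    have h4 : Nat.card A ≤ 4 := h.card_cent (hτ1 0) (hτ2 0) (hMN (hfM 0)) fun x hx =>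
      ⟨(hAE x hx).1, hFcomm _ (hmemF 0) _ (hAE x hx).2⟩
    by_cases hall : ∀ i, τ i = τ 0
    · -- all act in the same way: the range has order at most 2
      have h5 : Nat.card f.range ≤ 2 := by
        obtain ⟨σ, hσ, h2, h3⟩ := hfree 0
        have h6 : f.range ≤ zpowers σ := by
          have h7 : E ≤ (((zpowers σ).comap f).map F.subtype).comap (MulAut.conj g).toMonoidHom :=
            h.gen _ fun i => by
              rw [mem_comap]
              refine ⟨⟨g * e i * g⁻¹, ⟨e i, h.memE i, rfl⟩⟩, ?_, rfl⟩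
              rw [SetLike.mem_coe, mem_comap]
              have h8 : f ⟨g * e i * g⁻¹, ⟨e i, h.memE i, rfl⟩⟩ = σ := h.phi_eq fun j => by
                change (g * e i * g⁻¹) * e j * (g * e i * g⁻¹)⁻¹ = _
                rw [← hσ, hτ2, hτ2, hall]
              rw [h8]
              exact mem_zpowers σ
          rintro _ ⟨⟨_, x, hx, rfl⟩, rfl⟩
          obtain ⟨y, hy, hyx⟩ := h7 hx
          have h9 : y = ⟨(MulAut.conj g).toMonoidHom x, ⟨x, hx, rfl⟩⟩ := Subtype.ext hyx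
          rw [← h9]
          exact hy
        refine le_trans (Nat.card_le_card_of_injective (inclusion h6) (inclusion_injective _)) ?_
        rw [Nat.card_zpowers]
        exact orderOf_le_of_pow_eq_one (by norm_num) (by rw [pow_two]; exact h2)
      have h6 : Nat.card f.ker * Nat.card f.range ≤ 4 * 2 :=
        Nat.mul_le_mul (hAcard ▸ h4) h5
      omega
    · push Not at hall
      obtain ⟨i, hi⟩ := hall
      have h5 : Nat.card A ≤ 2 := h.card_cent_two (hτ1 i) (hτ1 0) hi (hτ2 i) (hMN (hfM i)) (hτ2 0)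
        (hMN (hfM 0)) fun x hx => ⟨(hAE x hx).1, hFcomm _ (hmemF i) _ (hAE x hx).2,
          hFcomm _ (hmemF 0) _ (hAE x hx).2⟩
      have h6 : Nat.card f.ker * Nat.card f.range ≤ 2 * 4 :=
        Nat.mul_le_mul (hAcard ▸ h5) hrange
      omega


/-! ### The type -/

omit [Finite G] in
/-- The words in `s = (2 3)` and `b = (0 2)(1 3)`. -/
theorem Q8_words : ∀ σ : Equiv.Perm (Fin 4), Q8 σ →
    let s : Equiv.Perm (Fin 4) := Equiv.swap 2 3
    let b : Equiv.Perm (Fin 4) := Equiv.swap 0 2 * Equiv.swap 1 3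
    σ = 1 ∨ σ = s ∨ σ = b ∨ σ = s * b ∨ σ = b * s ∨ σ = s * (b * s) ∨ σ = b * (s * b) ∨
      σ = s * (b * (s * b)) := by decide

omit [Finite G] in
theorem mul_acts {a b : G} {σ τ : Equiv.Perm (Fin 4)} (ha : ∀ i, a * e i * a⁻¹ = e (σ i))
    (hb : ∀ i, b * e i * b⁻¹ = e (τ i)) (i : Fin 4) : a * b * e i * (a * b)⁻¹ = e ((σ * τ) i) := by
  rw [Equiv.Perm.mul_apply, ← ha, ← hb]; group

omit [Finite G] in
/-- the reindexed basis -/
theorem pb' (h : In T E e d r) {X : Subgroup G} (hX : E ≤ X) :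
    PB (E.subgroupOf X) (fun i => (⟨e (![0, 2, 1, 3] i), hX (h.memE _)⟩ : X)) where
  mem i := h.memE _
  card := (h.pb hX).card
  gen := by
    refine (h.pb hX).gen.trans ?_
    rw [closure_le]
    rintro _ ⟨i, rfl⟩
    have h1 : ∀ i : Fin 4, ∃ j : Fin 4, (![0, 2, 1, 3] : Fin 4 → Fin 4) j = i := by decide
    obtain ⟨j, hj⟩ := h1 i
    apply Subgroup.subset_closure
    refine ⟨j, ?_⟩
    simp only [hj]

omit [Finite G] in
/-- The Sylow 2-subgroup `M` is of type `D₈ wr 2`. -/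
theorem isType (h : In T E e d r) {M : Subgroup G} (hM : Big T E e M) : IsType W8 M := by
  have hMN : M ≤ normalizer (E : Set G) := hM.syl.le
  have hEM : E ≤ M := h.ET.trans hM.TM
  have hdM : d ∈ M := hM.TM h.dT
  obtain ⟨m, hm, hmb⟩ := hM.sur (Equiv.swap 0 2 * Equiv.swap 1 3) (by decide)
  have hC : ∀ g : M, (∀ i, g * (⟨e (![0, 2, 1, 3] i), hEM (h.memE _)⟩ : M) * g⁻¹ =
      (⟨e (![0, 2, 1, 3] i), hEM (h.memE _)⟩ : M)) → g ∈ E.subgroupOf M := by
    intro g hg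
    rw [mem_subgroupOf]
    apply hM.cen _ g.2
    have h1 : ∀ i : Fin 4, ∃ j : Fin 4, (![0, 2, 1, 3] : Fin 4 → Fin 4) j = i := by decide
    intro i
    obtain ⟨j, hj⟩ := h1 i
    have h2 : (g : G) * e (![0, 2, 1, 3] j) * (g : G)⁻¹ = e (![0, 2, 1, 3] j) := congrArg Subtype.val (hg j)
    rw [hj] at h2
    exact mul_inv_eq_iff_eq_mul.1 h2
  have h1 : IsType W8 (⊤ : Subgroup M) := by
    refine WrType.isType_W8_of_inv (h.el hMN) (h.pb' hEM) hC (t := ⟨d, hdM⟩) (a₀ := ⟨m, hm⟩)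
      (Subtype.ext h.dd) ?_ ?_ ?_ le_top (mem_top _) (mem_top _) ?_
    · intro i
      apply Subtype.ext
      change d * e (![0, 2, 1, 3] i) * d⁻¹ = e (![0, 2, 1, 3] (τt i))
      rw [h.d_acts]
      congr 1
      revert i
      decide
    · intro i
      apply Subtype.ext
      change m * e (![0, 2, 1, 3] i) * m⁻¹ = e (![0, 2, 1, 3] (τa i))
      rw [hmb]
      congr 1
      revert i
      decide
    · rw [card_top, hM.card]
    · intro g _
      obtain ⟨σ, hσ⟩ := h.acts_of_norm (hMN g.2)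
      have hQ := hM.act _ g.2 σ hσ
      have m0 : (⟨d, hdM⟩ : M) ∈ closure ({⟨d, hdM⟩, ⟨m, hm⟩} : Set M) := subset_closure (Or.inl rfl)
      have m1 : (⟨m, hm⟩ : M) ∈ closure ({⟨d, hdM⟩, ⟨m, hm⟩} : Set M) := subset_closure (Or.inr rfl)
      have key : ∀ k : M, k ∈ closure ({⟨d, hdM⟩, ⟨m, hm⟩} : Set M) →
          (∀ i, (k : G) * e i * (k : G)⁻¹ = e (σ i)) →
          ∃ k ∈ closure ({⟨d, hdM⟩, ⟨m, hm⟩} : Set M), k⁻¹ * g ∈ E.subgroupOf M := by
        intro k hk hkσ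
        refine ⟨k, hk, ?_⟩
        rw [mem_subgroupOf]
        apply hM.cen _ (k⁻¹ * g).2
        intro i
        have h2 : ((k⁻¹ * g : M) : G) * e i * ((k⁻¹ * g : M) : G)⁻¹ = e i := by
          have h3 : ((k⁻¹ * g : M) : G) * e i * ((k⁻¹ * g : M) : G)⁻¹ =
              (k : G)⁻¹ * (g * e i * (g : G)⁻¹) * k := by push_cast; group
          rw [h3, hσ, ← hkσ]; group
        exact mul_inv_eq_iff_eq_mul.1 h2
      have hs := h.d_acts
      rcases Q8_words σ hQ with h2 | h2 | h2 | h2 | h2 | h2 | h2 | h2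
      · exact key 1 (one_mem _) fun i => by rw [h2]; simp
      · exact key ⟨d, hdM⟩ m0 fun i => by rw [h2]; exact hs i
      · exact key ⟨m, hm⟩ m1 fun i => by rw [h2]; exact hmb i
      · exact key (⟨d, hdM⟩ * ⟨m, hm⟩) (mul_mem m0 m1) fun i => by rw [h2]; exact mul_acts hs hmb i
      · exact key (⟨m, hm⟩ * ⟨d, hdM⟩) (mul_mem m1 m0) fun i => by rw [h2]; exact mul_acts hmb hs i
      · exact key (⟨d, hdM⟩ * (⟨m, hm⟩ * ⟨d, hdM⟩)) (mul_mem m0 (mul_mem m1 m0)) fun i => by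
          rw [h2]; exact mul_acts hs (mul_acts hmb hs) i
      · exact key (⟨m, hm⟩ * (⟨d, hdM⟩ * ⟨m, hm⟩)) (mul_mem m1 (mul_mem m0 m1)) fun i => by
          rw [h2]; exact mul_acts hmb (mul_acts hs hmb) i
      · exact key (⟨d, hdM⟩ * (⟨m, hm⟩ * (⟨d, hdM⟩ * ⟨m, hm⟩))) (mul_mem m0 (mul_mem m1 (mul_mem m0 m1)))
          fun i => by rw [h2]; exact mul_acts hs (mul_acts hmb (mul_acts hs hmb)) i
  exact IsType.congr Subgroup.topEquiv h1

/-- **Section (6.3).** -/
theorem main (h : In T E e d r) : ∃ S : Sylow 2 G, IsType W8 (S : Subgroup G) := by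
  have : Fact (Nat.Prime 2) := ⟨Nat.prime_two⟩
  obtain ⟨M, hM⟩ := h.exists_big
  obtain ⟨S, hS⟩ := hM.syl.toSylow (h.norm_le hM)
  exact ⟨S, hS ▸ h.isType hM⟩

theorem typeL4 (h : In T E e d r) : ∃ S : Sylow 2 G, Defs.TypeL4 ↥(S : Subgroup G) := by
  obtain ⟨S, hS⟩ := h.main
  exact ⟨S, Models.PSL43.typeL4 hS⟩

end In

end Cfsg.Agent.GH.A7.WrEnd
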