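import Cfsg.Agent.GH.A7.Outer
import Cfsg.Agent.GH.A7.WrEnd
import Cfsg.Agent.GH.QAZStar

/-!
# `A₇`, `|Q| = 2`: a class without inner pairs gives the input of `WrEnd`
-/

set_option autoImplicit false
set_option linter.unusedSectionVars false

namespace Cfsg.Agent.GH.A7

open Subgroup Equiv.Perm
open Cfsg.Agent.GH.TOne Cfsg.Agent.Walter.SylowIn
open Cfsg.Agent.GH.L2One.A7 (ρ γ ζ τ)

variable {G : Type*} [Group G] {X : Set G} {K : G → Subgroup G} {σ : G → G → S7}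

theorem sylIn_of_sylC [Finite G] {y : G} {T : Subgroup G} (h : SylC y T) :
    SylIn 2 T (centralizer ({y} : Set G)) := by
  have : Fact (Nat.Prime 2) := ⟨Nat.prime_two⟩
  obtain ⟨P, hP, hTP⟩ := exists_sylIn_ge (p := 2) (R := T) (H := centralizer ({y} : Set G))
    (fun x hx => mem_centralizer_singleton_iff.mpr (h.cent x hx)) h.two
  have h1 := h.max P hP.isPGroup (fun x hx => mem_centralizer_singleton_iff.mp (hP.le hx))
  have h2 : T = P := Subgroup.eq_of_le_of_card_ge hTP h1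
  rw [h2]; exact hP

theorem sw_el : ∀ i : Fin 4, ∀ j : Fin 2, Sw (el i j 1) → el i j 0 = 1 ∨ el i j 0 = γ ∨ el i j 0 = ζ * γ := by
  decide +kernel

theorem not_sw_el : ∀ i : Fin 4, ∀ j : Fin 2, el i j 0 * el i j 0 = 1 → ¬ Sw (el i j 1) →
    el i j 0 = ζ ∨ el i j 0 = ρ * γ ∨ el i j 0 = ζ * (ρ * γ) := by
  decide +kernel

namespace Cf

variable {C : Set G} {y : G} {T : Subgroup G} {φ : G → S7} {w c a b : G}
variable (D : Cf X K σ C y T φ w c a b) (h : Sys X K σ) (hC : Cls X σ C)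
include D h hC

/-- the elements of `C ∩ T` -/
theorem mem_base [Finite G] {t : G} (htC : t ∈ C) (htT : t ∈ T) (hne : t ≠ y) :
    ∃ d ∈ T, d ∈ K y ∧ ∃ p ∈ T, t = d * p ∧ d * d = 1 ∧ (p = w ∨ p = w * y) ∧ ∃ i j, φ d = el i j 0 ∧
      φ t = el i j 1 ∧ ((Sw (φ t) ∧ p ∈ C) ∨ (¬ Sw (φ t) ∧ c * p ∈ C)) := by
  have hc := D.F.syl.cent t htT
  have hs := hC.ni y D.yC t htC hc hne
  have hti := h.inv t (hC.sub t htC)
  obtain ⟨d, hd, hdK, p, hp, e, hdd, hpp, k, hk, h1⟩ := D.F.to_center h D.cT D.cK D.cφ htT hti.sq hti.ne hne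
  have hdy := D.F.syl.cent d hd
  have hpy := D.F.syl.cent p hp
  have hk1 : k = 1 := by
    rw [← D.F.sign_eq hc, e, D.F.mul h hdy hpy, map_mul, D.F.sign_eq hdy, h.even y D.F.mem d hdK, one_mul,
      hk] at hs
    fin_cases k
    · exact absurd hs (by decide)
    · rfl
  subst hk1
  have hk' : φ p = τ := hk
  obtain ⟨i, j, k', hf⟩ := D.F.form d hd
  have hk0 : k' = 0 := by
    have hs' := h.even y D.F.mem d hdK
    rw [← D.F.sign_eq hdy, hf, sign_el] at hs'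
    by_contra hk
    rw [if_neg hk] at hs'
    exact absurd hs' (by decide)
  subst hk0
  refine ⟨d, hd, hdK, p, hp, e, hdd, D.F.eqT h hp D.wT (hk'.trans D.wφ.symm), i, j, hf, ?_, ?_⟩
  · rw [e, D.F.mul h hdy hpy, hf, hk']
    exact el_one i j
  · rcases h1 with ⟨-, h2, g, hg, hg'⟩ | ⟨h2, g, hg, hg'⟩
    · left
      rw [← hg']
      exact ⟨h2, hC.conj t htC g⟩
    · right
      rw [← hg']
      exact ⟨h2, hC.conj t htC g⟩

theorem mem_A [Finite G] (ht : ∀ y ∈ C, ∀ t ∈ C, ∃ g : G, g * y * g⁻¹ = t) (h1 : w ∈ C) {t : G} (htC : t ∈ C)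
    (htT : t ∈ T) : t = y ∨ t = w ∨ t = a * w ∨ t = c * (a * w) := by
  by_cases hne : t = y
  · exact Or.inl hne
  right
  obtain ⟨d, hd, hdK, p, hp, e, hdd, hpw, i, j, hf, hft, h2⟩ := D.mem_base h hC htC htT hne
  have hpC : Sw (φ t) ∧ p = w := by
    rcases h2 with ⟨h2, h3⟩ | ⟨-, h3⟩
    · rcases hpw with h4 | h4
      · exact ⟨h2, h4⟩
      · rw [h4] at h3
        exact (D.not_w_wy h hC h1 h3).elim
    · rcases hpw with h4 | h4
      · rw [h4] at h3
        exact (D.not_w_cw h hC h1 h3).elim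
      · rw [h4, ← mul_assoc] at h3
        exact (D.not_w_cwy h hC ht h1 h3).elim
  obtain ⟨hsw, rfl⟩ := hpC
  rw [hft] at hsw
  rcases sw_el i j hsw with h3 | h3 | h3
  · left
    rw [e, D.F.injK h hd hdK (hf.trans h3), one_mul]
  · right; left
    rw [e, D.F.eqK h hd D.aT hdK D.aK (hf.trans (h3.trans D.aφ.symm))]
  · right; right
    rw [e, D.F.eqK h hd (mul_mem D.cT D.aT) hdK (mul_mem D.cK D.aK) (by
      rw [D.mulφ h D.cT D.aT, D.cφ, D.aφ, hf, h3]), mul_assoc]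

theorem mem_B [Finite G] (ht : ∀ y ∈ C, ∀ t ∈ C, ∃ g : G, g * y * g⁻¹ = t) (h1 : c * w ∈ C) {t : G}
    (htC : t ∈ C) (htT : t ∈ T) : t = y ∨ t = c * w ∨ t = b * w ∨ t = c * (b * w) := by
  by_cases hne : t = y
  · exact Or.inl hne
  right
  obtain ⟨d, hd, hdK, p, hp, e, hdd, hpw, i, j, hf, hft, h2⟩ := D.mem_base h hC htC htT hne
  have hpC : ¬ Sw (φ t) ∧ p = w := by
    rcases h2 with ⟨-, h3⟩ | ⟨h2, h3⟩
    · rcases hpw with h4 | h4
      · rw [h4] at h3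
        exact (D.not_w_cw h hC h3 h1).elim
      · rw [h4] at h3
        refine ((D.swap h).not_w_cwy h hC ht h3 ?_).elim
        have e : c * (w * y) * y = c * w * (y * y) := by group
        rw [e, D.yy h, mul_one]
        exact h1
    · rcases hpw with h4 | h4
      · exact ⟨h2, h4⟩
      · rw [h4, ← mul_assoc] at h3
        exact (D.not_cw_cwy h hC h1 h3).elim
  obtain ⟨hsw, rfl⟩ := hpC
  rw [hft] at hsw
  rcases not_sw_el i j (by rw [← hf, ← D.mulφ h hd hd, hdd, D.F.one h]) hsw with h3 | h3 | h3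
  · left
    rw [e, D.F.eqK h hd D.cT hdK D.cK (hf.trans (h3.trans D.cφ.symm))]
  · right; left
    rw [e, D.F.eqK h hd D.bT hdK D.bK (hf.trans (h3.trans D.bφ.symm))]
  · right; right
    rw [e, D.F.eqK h hd (mul_mem D.cT D.bT) hdK (mul_mem D.cK D.bK) (by
      rw [D.mulφ h D.cT D.bT, D.cφ, D.bφ, hf, h3]), mul_assoc]

theorem mkIn [Finite G] (ht : ∀ y ∈ C, ∀ t ∈ C, ∃ g : G, g * y * g⁻¹ = t) {p q d r : G} {V : Subgroup S7}
    (pT : p ∈ T) (pp : p * p = 1) (pc : ∀ g ∈ T, g * p = p * g) (qT : q ∈ T) (qc : q * c = c * q)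
    (dT : d ∈ T) (dd : d * d = 1) (dq : d * q = c * q * d) (hcard : Nat.card (D.F.pre h V) = 16)
    (pV : φ p ∈ V) (qV : φ q ∈ V) (cV : φ c ∈ V)
    (gen : ∀ v ∈ V, ∃ i j k : Fin 2, v = φ c ^ i.val * φ q ^ j.val * φ p ^ k.val)
    (C1 : p ∈ C) (C2 : q * p ∈ C) (C3 : c * (q * p) ∈ C)
    (only : ∀ t ∈ C, t ∈ T → t = y ∨ t = p ∨ t = q * p ∨ t = c * (q * p))
    (ry : r * y = y * r) (rp : r * p * r⁻¹ = q * p) (rqp : r * (q * p) * r⁻¹ = c * (q * p))
    (r3 : r * (c * (q * p)) * r⁻¹ = p) :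
    WrEnd.In T (D.F.pre h V) ![y, p, q * p, c * (q * p)] d r := by
  have hyT := D.yT h
  have cyq : Commute q y := D.F.syl.cent q qT
  have cyp : Commute p y := D.F.syl.cent p pT
  have cyc : Commute c y := D.F.syl.cent c D.cT
  have cpq : Commute q p := pc q qT
  have cpc : Commute c p := pc c D.cT
  have cqc : Commute q c := qc
  have hcomm : ∀ i, Commute ((![y, p, q * p, c * (q * p)] : Fin 4 → G) i) y ∧
      Commute ((![y, p, q * p, c * (q * p)] : Fin 4 → G) i) p ∧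
      Commute ((![y, p, q * p, c * (q * p)] : Fin 4 → G) i) q ∧
      Commute ((![y, p, q * p, c * (q * p)] : Fin 4 → G) i) c := by
    intro i
    fin_cases i
    · exact ⟨Commute.refl y, cyp.symm, cyq.symm, cyc.symm⟩
    · exact ⟨cyp, Commute.refl p, cpq.symm, cpc.symm⟩
    · exact ⟨cyq.mul_left cyp, cpq.mul_left (Commute.refl p), (Commute.refl q).mul_left cpq.symm,
        cqc.mul_left cpc.symm⟩
    · exact ⟨cyc.mul_left (cyq.mul_left cyp), cpc.mul_left (cpq.mul_left (Commute.refl p)),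
        cqc.symm.mul_left ((Commute.refl q).mul_left cpq.symm),
        (Commute.refl c).mul_left (cqc.mul_left cpc.symm)⟩
  have hqpC : φ (q * p) ∈ V := by rw [D.mulφ h qT pT]; exact mul_mem qV pV
  have hT3 : c * (q * p) ∈ T := mul_mem D.cT (mul_mem qT pT)
  refine
    { syl := sylIn_of_sylC D.F.syl
      cls := ?_
      only := ?_
      sq := D.yy h
      comm := ?_
      cardE := hcard
      memE := ?_
      gen := ?_
      ET := fun x hx => hx.1
      cardT := D.F.card_T h D.wT D.wφ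
      dT := dT
      dd := dd
      d0 := D.F.syl.cent d dT
      d1 := pc d dT
      d2 := ?_
      r0 := ry
      r1 := mul_inv_eq_iff_eq_mul.1 rp
      r2 := mul_inv_eq_iff_eq_mul.1 rqp
      r3 := mul_inv_eq_iff_eq_mul.1 r3 }
  · intro i
    fin_cases i
    · exact ⟨1, by simp⟩
    · exact ht y D.yC p C1
    · exact ht y D.yC _ C2
    · exact ht y D.yC _ C3
  · intro g hg
    rcases only _ (hC.conj y D.yC g) hg with h1 | h1 | h1 | h1
    · exact ⟨0, h1⟩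
    · exact ⟨1, h1⟩
    · exact ⟨2, h1⟩
    · exact ⟨3, h1⟩
  · intro i j
    obtain ⟨h1, h2, h3, h4⟩ := hcomm i
    fin_cases j
    · exact h1.eq
    · exact h2.eq
    · exact (h3.mul_right h2).eq
    · exact (h4.mul_right (h3.mul_right h2)).eq
  · intro i
    fin_cases i
    · exact ⟨hyT, by change φ y ∈ V; rw [D.F.phi_y h]; exact one_mem _⟩
    · exact ⟨pT, pV⟩
    · exact ⟨mul_mem qT pT, hqpC⟩
    · exact ⟨hT3, by change φ (c * (q * p)) ∈ V; rw [D.mulφ h D.cT (mul_mem qT pT)]; exact mul_mem cV hqpC⟩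
  · intro L hL x hx
    have y_L : y ∈ L := hL 0
    have p_L : p ∈ L := hL 1
    have qp_L : q * p ∈ L := hL 2
    have cqp_L : c * (q * p) ∈ L := hL 3
    have q_L : q ∈ L := by
      have : q = q * p * p := by rw [mul_assoc, pp, mul_one]
      rw [this]; exact mul_mem qp_L p_L
    have c_L : c ∈ L := by
      have : c = c * (q * p) * (q * p)⁻¹ := by group
      rw [this]; exact mul_mem cqp_L (inv_mem qp_L)
    obtain ⟨i, j, k, h1⟩ := gen _ hx.2
    have hz : c ^ i.val * q ^ j.val * p ^ k.val ∈ T := mul_mem (mul_mem (pow_mem D.cT _) (pow_mem qT _)) (pow_mem pT _)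
    have hpow : ∀ s ∈ T, ∀ n : ℕ, φ (s ^ n) = φ s ^ n := by
      intro s hs n
      induction n with
      | zero => rw [pow_zero, pow_zero, D.F.one h]
      | succ n ih => rw [pow_succ, pow_succ, D.mulφ h (pow_mem hs n) hs, ih]
    have h2 : φ x = φ (c ^ i.val * q ^ j.val * p ^ k.val) := by
      rw [D.mulφ h (mul_mem (pow_mem D.cT _) (pow_mem qT _)) (pow_mem pT _),
        D.mulφ h (pow_mem D.cT _) (pow_mem qT _), hpow c D.cT, hpow q qT, hpow p pT, h1]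
    have h3 : c ^ i.val * q ^ j.val * p ^ k.val ∈ L := mul_mem (mul_mem (pow_mem c_L _) (pow_mem q_L _)) (pow_mem p_L _)
    rcases D.F.eqT h hx.1 hz h2 with h4 | h4
    · rw [h4]; exact h3
    · rw [h4]; exact mul_mem h3 y_L
  · change d * (q * p) = c * (q * p) * d
    have h1 : d * p = p * d := pc d dT
    calc d * (q * p) = (d * q) * p := by group
      _ = c * q * d * p := by rw [dq]
      _ = c * q * (d * p) := by group
      _ = c * q * (p * d) := by rw [h1]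
      _ = c * (q * p) * d := by group

/-- case A -/
theorem out_A [Finite G] (ht : ∀ y ∈ C, ∀ t ∈ C, ∃ g : G, g * y * g⁻¹ = t) (h1 : w ∈ C) :
    ∃ (E : Subgroup G) (e : Fin 4 → G) (d r : G), WrEnd.In T E e d r := by
  obtain ⟨r, hr, -, hrr⟩ := D.F.norm1 h
  have wV : φ w ∈ V1 := ⟨0, 0, 1, rfl, by rw [D.wφ]; exact tau_eq⟩
  have aV : φ a ∈ V1 := ⟨0, 1, 0, rfl, by rw [D.aφ]; exact g_el⟩
  have cV : φ c ∈ V1 := ⟨2, 0, 0, rfl, by rw [D.cφ]; exact zeta_eq⟩
  have haw := D.mulφ h D.aT D.wT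
  have hcaw := D.mulφ h D.cT (mul_mem D.aT D.wT)
  have rp : r * w * r⁻¹ = a * w := by
    apply hrr w D.wT wV _ (mul_mem D.aT D.wT)
    · rw [haw, D.aφ, D.wφ]; decide +kernel
    · rw [mul_inv_cancel_right]; exact D.aK
  have rqp : r * (a * w) * r⁻¹ = c * (a * w) := by
    apply hrr _ (mul_mem D.aT D.wT) (by rw [haw]; exact mul_mem aV wV) _ (mul_mem D.cT (mul_mem D.aT D.wT))
    · rw [hcaw, haw, D.aφ, D.wφ, D.cφ]; decide +kernel
    · rw [mul_inv_cancel_right]; exact D.cK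
  have r3 : r * (c * (a * w)) * r⁻¹ = w := by
    apply hrr _ (mul_mem D.cT (mul_mem D.aT D.wT)) (by rw [hcaw, haw]; exact mul_mem cV (mul_mem aV wV)) _ D.wT
    · rw [hcaw, haw, D.aφ, D.wφ, D.cφ]; decide +kernel
    · have e : w * (c * (a * w))⁻¹ = (c * a)⁻¹ := by
        calc w * (c * (a * w))⁻¹ = (w * w⁻¹) * (c * a)⁻¹ := by group
          _ = (c * a)⁻¹ := by rw [mul_inv_cancel, one_mul]
      rw [e]; exact inv_mem (mul_mem D.cK D.aK)
  have C2 : a * w ∈ C := by rw [← rp]; exact hC.conj _ h1 r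
  have C3 : c * (a * w) ∈ C := by rw [← rqp]; exact hC.conj _ C2 r
  refine ⟨_, _, _, _, D.mkIn h hC ht D.wT D.ww (fun g hg => D.wcent h hg) D.aT (D.ca h).symm D.bT (D.bb h) ?_
    (D.F.card_pre1 h D.wT D.wφ) wV aV cV ?_ h1 C2 C3 (fun t htC htT => D.mem_A h hC ht h1 htC htT)
    (h.centK y D.F.mem r hr) rp rqp r3⟩
  · rw [D.ba h, mul_assoc]
  · rintro v ⟨i, j, k, hi, rfl⟩
    rw [D.cφ, D.aφ, D.wφ]
    revert i j k
    decide +kernel

/-- case B -/
theorem out_B [Finite G] (ht : ∀ y ∈ C, ∀ t ∈ C, ∃ g : G, g * y * g⁻¹ = t) (h1 : c * w ∈ C) :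
    ∃ (E : Subgroup G) (e : Fin 4 → G) (d r : G), WrEnd.In T E e d r := by
  obtain ⟨r, hr, -, hrr⟩ := D.F.norm2 h
  have wV : φ w ∈ V2 := ⟨0, 0, 1, rfl, by rw [D.wφ]; exact tau_eq⟩
  have bV : φ b ∈ V2 := ⟨1, 1, 0, rfl, by rw [D.bφ]; exact rg_el⟩
  have cV : φ c ∈ V2 := ⟨2, 0, 0, rfl, by rw [D.cφ]; exact zeta_eq⟩
  have cwT := mul_mem D.cT D.wT
  have bwT := mul_mem D.bT D.wT
  have hcw := D.mulφ h D.cT D.wT
  have hbw := D.mulφ h D.bT D.wT
  have hcbw := D.mulφ h D.cT bwT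
  have hcb := D.mulφ h D.cT D.bT
  have eq1 : c * b * (c * w) = b * w := by
    rw [D.cb h]
    calc b * c * (c * w) = b * (c * c) * w := by group
      _ = b * w := by rw [D.cc h, mul_one]
  have rp : r * (c * w) * r⁻¹ = b * w := by
    apply hrr _ cwT (by rw [hcw]; exact mul_mem cV wV) _ bwT
    · rw [hcw, hbw, D.bφ, D.wφ, D.cφ]; decide +kernel
    · have e : b * w * (c * w)⁻¹ = b * c⁻¹ := by group
      rw [e]; exact mul_mem D.bK (inv_mem D.cK)
  have rqp : r * (b * w) * r⁻¹ = c * (b * w) := by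
    apply hrr _ bwT (by rw [hbw]; exact mul_mem bV wV) _ (mul_mem D.cT bwT)
    · rw [hcbw, hbw, D.bφ, D.wφ, D.cφ]; decide +kernel
    · rw [mul_inv_cancel_right]; exact D.cK
  have r3 : r * (c * (b * w)) * r⁻¹ = c * w := by
    apply hrr _ (mul_mem D.cT bwT) (by rw [hcbw, hbw]; exact mul_mem cV (mul_mem bV wV)) _ cwT
    · rw [hcbw, hbw, hcw, D.bφ, D.wφ, D.cφ]; decide +kernel
    · have e : c * w * (c * (b * w))⁻¹ = c * (b⁻¹ * c⁻¹) := by group
      rw [e]; exact mul_mem D.cK (mul_mem (inv_mem D.bK) (inv_mem D.cK))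
  have C2 : b * w ∈ C := by rw [← rp]; exact hC.conj _ h1 r
  have C3 : c * (b * w) ∈ C := by rw [← rqp]; exact hC.conj _ C2 r
  have hcent : ∀ g ∈ T, g * (c * w) = c * w * g := by
    intro g hg
    have hcT : g * c = c * g := by
      obtain ⟨c', hc'T, hc'K, -, hc's, -, hc'c, -⟩ := D.F.exists_zz h
      have : c = c' := D.F.eqK h D.cT hc'T D.cK hc'K (by rw [D.cφ, hc's])
      rw [this]
      exact hc'c g hg
    have c1 : Commute g c := hcT
    have c2 : Commute g w := D.wcent h hg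
    exact (c1.mul_right c2).eq
  refine ⟨_, _, _, _, D.mkIn h hC ht (p := c * w) (q := c * b) (V := V2) (r := r) cwT (D.cwcw h) hcent
    (mul_mem D.cT D.bT) ?_ D.aT (D.aa h) ?_ (D.F.card_pre2 h D.wT D.wφ) (by rw [hcw]; exact mul_mem cV wV)
    (by rw [hcb]; exact mul_mem cV bV) cV ?_ h1 (by rw [eq1]; exact C2) (by rw [eq1]; exact C3) ?_
    (h.centK y D.F.mem r hr) (by rw [eq1]; exact rp) (by rw [eq1]; exact rqp) (by rw [eq1]; exact r3)⟩
  · have c1 : Commute b c := (D.cb h).symm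
    exact ((Commute.refl c).mul_left c1).eq
  · have e1 : c * (c * b) * a = b * a := by
      calc c * (c * b) * a = (c * c) * b * a := by group
        _ = b * a := by rw [D.cc h, one_mul]
    rw [e1, D.ba h, ← mul_assoc, ← D.ca h, mul_assoc]
  · rintro v ⟨i, j, k, hi, rfl⟩
    rw [hcb, hcw, D.cφ, D.bφ, D.wφ]
    revert i j k
    decide +kernel
  · intro t htC htT
    rw [eq1]
    exact D.mem_B h hC ht h1 htC htT

end Cf

/-- The class of `x` contains no inner pair. -/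
theorem Sys.cls [Finite G] (h : Sys X K σ) {x : G} (hx : x ∈ X) (ho : HasOdd σ x) :
    Cls X σ {y | ∃ g, g * x * g⁻¹ = y} := by
  refine ⟨?_, ?_, ?_⟩
  · rintro _ ⟨g, rfl⟩
    exact h.conj x hx g
  · rintro _ ⟨g, rfl⟩ g'
    exact ⟨g' * g, by group⟩
  · rintro _ ⟨g, rfl⟩ _ ⟨g', rfl⟩ hc hne
    have e : g' * x * g'⁻¹ = g' * g⁻¹ * (g * x * g⁻¹) * (g' * g⁻¹)⁻¹ := by group
    rw [e] at hc hne ⊢
    exact h.not_inner (h.conj x hx g) (h.hasOdd_conj hx ho g) hc hne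

/-- **`A₇`, `|Q| = 2`, `C(x)` contains an odd 2-element.** -/
theorem Sys.exists_in [Finite G] (hs : IsSimpleGroup G) (hnc : ¬ IsMulCommutative G) (h : Sys X K σ) {x : G}
    (hx : x ∈ X) (ho : HasOdd σ x) :
    ∃ (T E : Subgroup G) (e : Fin 4 → G) (d r : G), WrEnd.In T E e d r := by
  have hC := h.cls hx ho
  have ht : ∀ y ∈ {y | ∃ g, g * x * g⁻¹ = y}, ∀ t ∈ {y | ∃ g, g * x * g⁻¹ = y}, ∃ g : G, g * y * g⁻¹ = t := by
    rintro _ ⟨g, rfl⟩ _ ⟨g', rfl⟩
    exact ⟨g' * g⁻¹, by group⟩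
  have hxi := h.inv x hx
  obtain ⟨g, hg, hne⟩ := QA.not_isolated hs hnc hxi.sq hxi.ne
  obtain ⟨T, φ, w, c, a, b, D, hD⟩ := exists_cf h hC (y := x) (t := g * x * g⁻¹) ⟨1, by group⟩ ⟨g, rfl⟩ hg.symm hne
  rcases hD with hD | hD
  · obtain ⟨E, e, d, r, hin⟩ := D.out_A h hC ht hD
    exact ⟨T, E, e, d, r, hin⟩
  · obtain ⟨E, e, d, r, hin⟩ := D.out_B h hC ht hD
    exact ⟨T, E, e, d, r, hin⟩

theorem Sys.typeL4 [Finite G] (hs : IsSimpleGroup G) (hnc : ¬ IsMulCommutative G) (h : Sys X K σ) {x : G}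
    (hx : x ∈ X) (ho : HasOdd σ x) : ∃ S : Sylow 2 G, Defs.TypeL4 ↥(S : Subgroup G) := by
  obtain ⟨T, E, e, d, r, hin⟩ := h.exists_in hs hnc hx ho
  exact hin.typeL4

end Cfsg.Agent.GH.A7
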