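import Cfsg.Agent.GH.A7.Inst
import Cfsg.Agent.GH.A7.Out
import Cfsg.Agent.GH.A7.BetaEnd
import Cfsg.Agent.GH.L2Main
import Cfsg.Agent.GH.L2One.Main

/-!
# GH-L2: the leaf `K / O(K) = A₇`

* `exists_of_fixes`: some `y ∈ maxSet G` with `Q_y ≠ ⟨y⟩` (leaf A, leaf B)
* `leaf_alt`: a maximal 2-component with top `A₇` (all `Q`)
* `l2_of'`: the branch `l2` from (T4) and leaf C for `L₂(q)`
-/

set_option autoImplicit false
set_option linter.unusedSectionVars false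

open Cfsg Subgroup
open Cfsg.Agent.SignalizersComponents Cfsg.Agent.Lib
open Cfsg.Agent.SignalizersComponents.IntrinsicBasic
open Cfsg.Agent.Intrinsic.Basic Cfsg.Agent.Intrinsic.Cen
open Cfsg.Agent.GH.Defs Cfsg.Agent.GH.Comp
open Cfsg.Agent.GH.XSet Cfsg.Agent.GH.L2Tri Cfsg.Agent.GH.L2Pair Cfsg.Agent.GH.L2Quad
open Cfsg.Agent.GH.L2Frame (fix mem_fix)
open Cfsg.Agent.GH.L2Main
open Cfsg.Agent.Walter.SylowIn

namespace Cfsg.Agent.GH.A7.Leaf

variable {G : Type*} [Group G] [Finite G]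

/-- Leaf C for `L₂(q)` -/
def LeafC2 (G : Type*) [Group G] : Prop :=
  ∀ (x : G) (K T : Subgroup G), Comp2 x K → IsL2odd (STop K) → SylIn 2 T (centralizer ({x} : Set G)) →
    (∀ q ∈ T ⊓ fix K, q = 1 ∨ q = x) → ∃ S : Sylow 2 G, SType ↥(S : Subgroup G)

/-- `T ⊓ fix K` of order at most 3 -/
theorem sq_of_card {x : G} {K T : Subgroup G} (hT : SylIn 2 T (centralizer ({x} : Set G)))
    (h2 : ¬ 4 ≤ Nat.card ↥(T ⊓ fix K)) {q : G} (hq : q ∈ T ⊓ fix K) : q * q = 1 := by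
  have : Fact (Nat.Prime 2) := ⟨Nat.prime_two⟩
  have h3 : IsPGroup 2 ↥(T ⊓ fix K) := hT.isPGroup.to_le inf_le_left
  obtain ⟨k, hk⟩ := IsPGroup.iff_card.mp h3
  have hk1 : k < 2 := by
    by_contra h5
    apply h2
    rw [hk]
    calc 4 = 2 ^ 2 := by norm_num
      _ ≤ 2 ^ k := Nat.pow_le_pow_right (by norm_num) (by omega)
  have h6 : Nat.card ↥(T ⊓ fix K) ∣ 2 := by
    rw [hk]
    calc 2 ^ k ∣ 2 ^ 1 := pow_dvd_pow 2 (by omega)
      _ = 2 := pow_one 2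
  have h7 : (⟨q, hq⟩ : ↥(T ⊓ fix K)) ^ 2 = 1 :=
    orderOf_dvd_iff_pow_eq_one.mp ((_root_.orderOf_dvd_natCard _).trans h6)
  rw [← pow_two]
  exact congrArg Subtype.val h7

/-- Leaf A or leaf B for `(x, K)`, or `Q = ⟨x⟩`. -/
theorem leafAB (hG : Hyp G) (ho : AllOdd G) (h1173 : St1173 G) (h4 : LeafT4 G) {x : G}
    {K T : Subgroup G} (hK : L2FourOC.Max2 x K) (hTop : IsTop (STop K))
    (hT : SylIn 2 T (centralizer ({x} : Set G))) :
    (∃ S : Sylow 2 G, SType ↥(S : Subgroup G)) ∨ ∀ q ∈ T ⊓ fix K, q = 1 ∨ q = x := by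
  have hTx : ∀ t ∈ T, t * x = x * t := fun t ht => mem_centralizer_singleton_iff.mp (hT.le ht)
  by_cases h1 : ∀ q ∈ T ⊓ fix K, q * q = 1 → q = 1 ∨ q = x
  · by_cases h2 : 4 ≤ Nat.card ↥(T ⊓ fix K)
    · exact Or.inl (L2One.Main.exists_sType hG ho hK.comp2 hTop hT h1 h2)
    · exact Or.inr fun q hq => h1 q hq (sq_of_card hT h2 hq)
  · left
    push Not at h1
    obtain ⟨t, ht, htt, ht1, htx⟩ := h1
    refine leafA hG ho h1173 h4 hK hTop ⟨t, ?_, htx, hTx t ht.1, mem_fix.mp ht.2⟩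
    exact orderOf_eq_prime (by rw [pow_two, htt]) ht1

/-- Either `SType` or `Q_y = ⟨y⟩` for all `y ∈ maxSet G`. -/
theorem leafAB_all (hG : Hyp G) (ho : AllOdd G) (h1173 : St1173 G) (h4 : LeafT4 G)
    (hall : ∀ (x : G) (K : Subgroup G), Comp2 x K → IsTop (STop K)) :
    (∃ S : Sylow 2 G, SType ↥(S : Subgroup G)) ∨ ∀ y ∈ maxSet G, ∀ a : G, a * y = y * a →
      Fixes a (KK y) → IsPGroup 2 (zpowers a) → a = 1 ∨ a = y := by
  by_contra hcon
  push Not at hcon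
  obtain ⟨h1, y, ⟨K, hK⟩, a, hay, hf, ha2, ha1, hay'⟩ := hcon
  have hKK := KK_eq hG ho hK.comp2
  rw [hKK] at hf
  obtain ⟨T, hT, haT⟩ := exists_sylIn_ge (p := 2) (R := zpowers a) (H := centralizer ({y} : Set G)) (by
    rw [zpowers_le, mem_centralizer_singleton_iff]; exact hay) ha2
  rcases leafAB hG ho h1173 h4 hK (hall y K hK.comp2) hT with ⟨S, hS⟩ | h2
  · exact h1 S hS
  · rcases h2 a ⟨haT (mem_zpowers a), mem_fix.mpr hf⟩ with h3 | h3
    · exact ha1 h3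
    · exact hay' h3

/-- **A maximal 2-component with top `A₇`.** -/
theorem leaf_alt (hG : Hyp G) (ho : AllOdd G) (h1173 : St1173 G) (h4 : LeafT4 G)
    (hall : ∀ (x : G) (K : Subgroup G), Comp2 x K → IsTop (STop K)) {x : G} {K : Subgroup G}
    (hK : L2FourOC.Max2 x K) (hK7 : IsAlt 7 (STop K)) :
    ∃ S : Sylow 2 G, SType ↥(S : Subgroup G) := by
  rcases leafAB_all hG ho h1173 h4 hall with h1 | hQ
  · exact h1
  obtain ⟨σ, hσ⟩ := Inst.exists_sys_max hG ho hK hK7 hall hQ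
  have hx : x ∈ maxSet G := ⟨K, hK⟩
  by_cases hodd : HasOdd σ x
  · obtain ⟨S, hS⟩ := hσ.typeL4 hG.simple hG.nonComm hx hodd
    exact ⟨S, by unfold SType; tauto⟩
  · obtain ⟨T, D, u1, u2, c, r1, r2, h2⟩ := hσ.betaIn hG.simple hG.nonComm hx hodd
    exact (h2.false hG.simple hG.nonComm).elim

/-- **The branch `l2`** from (T4) and leaf C for `L₂(q)`. -/
theorem l2_of' (hG : Hyp G) (ho : AllOdd G) (h1173 : St1173 G) (h4 : LeafT4 G)
    (hC : LeafC2 G) (hall : ∀ (x : G) (K : Subgroup G), Comp2 x K → IsTop (STop K))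
    (hex : ∃ (x : G) (K : Subgroup G), Comp2 x K) : GType G := by
  have : Fact (Nat.Prime 2) := ⟨Nat.prime_two⟩
  obtain ⟨x₀, K₀, hK₀⟩ := hex
  obtain ⟨x, K, hK⟩ := L2FourOC.exists_max2 hK₀
  left
  rcases hall x K hK.comp2 with h1 | h1
  · obtain ⟨T, hT⟩ := exists_sylIn 2 (centralizer ({x} : Set G))
    rcases leafAB hG ho h1173 h4 hK (Or.inl h1) hT with h2 | h2
    · exact h2
    · exact hC x K T hK.comp2 h1 hT h2
  · exact leaf_alt hG ho h1173 h4 hall hK h1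

end Cfsg.Agent.GH.A7.Leaf
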