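import Cfsg.Agent.GH.A7.Frame
import Cfsg.Agent.GH.WLift

/-!
# `A₇`, `|Q| = 2`: conjugation in `K y`

* `Sys.exists_norm`: elements of `K y` normalising a 2-subgroup `A` of `C(y)`, prescribed image in `A₇`
* `Fr.to_center`: involutions of `T` are `K y`-conjugate into the centre of `T`
* `Sys.not_mem` (H): `X ∩ K y = ∅`
-/

set_option autoImplicit false

namespace Cfsg.Agent.GH.A7

open Subgroup Equiv.Perm
open Cfsg.Agent.GH.TOne
open Cfsg.Agent.GH.L2One.A7 (ρ γ ζ τ)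

variable {G : Type*} [Group G]

section norm

variable {X : Set G} {K : G → Subgroup G} {σ : G → G → S7} {y : G}

theorem Sys.exists_norm [Finite G] (h : Sys X K σ) (hy : y ∈ X) {A : Subgroup G} (hA : IsPGroup 2 A)
    (hAc : ∀ a ∈ A, a * y = y * a) {π : S7} (hs : sign π = 1)
    (hπ : ∀ a ∈ A, ∃ a' ∈ A, π * σ y a * π⁻¹ = σ y a' ∧ a' * a⁻¹ ∈ K y) :
    ∃ k ∈ K y, σ y k = π ∧ (∀ a ∈ A, k * a * k⁻¹ ∈ A) ∧
      ∀ a ∈ A, ∀ a' ∈ A, π * σ y a * π⁻¹ = σ y a' → a' * a⁻¹ ∈ K y → k * a * k⁻¹ = a' := by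
  have hp : Fact (Nat.Prime 2) := ⟨Nat.prime_two⟩
  obtain ⟨k1, hk1, hk1s⟩ := h.onto y hy π hs
  have hc : ∀ c : ↥(centralizer ({y} : Set G)), (c : G) * y = y * c := fun c =>
    mem_centralizer_singleton_iff.1 c.2
  let N : Subgroup ↥(centralizer ({y} : Set G)) :=
    { carrier := {c | (c : G) ∈ K y ∧ σ y c = 1}
      one_mem' := ⟨one_mem _, h.one hy⟩
      mul_mem' := by
        rintro a b ⟨ha, ha'⟩ ⟨hb, hb'⟩
        exact ⟨mul_mem ha hb, by
          change σ y ((a : G) * b) = 1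
          rw [h.mul y hy _ _ (hc a) (hc b), ha', hb', one_mul]⟩
      inv_mem' := by
        rintro a ⟨ha, ha'⟩
        exact ⟨inv_mem ha, by
          change σ y (a : G)⁻¹ = 1
          rw [h.minv hy (hc a), ha', inv_one]⟩ }
  have hNn : N.Normal := by
    refine ⟨?_⟩
    rintro n ⟨hn, hn'⟩ g
    refine ⟨h.conjK_self hy (hc g) hn, ?_⟩
    change σ y ((g : G) * n * (g : G)⁻¹) = 1
    rw [h.mconj hy (hc g) (hc n), hn']
    group
  have hNo : Odd (Nat.card N) := by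
    by_contra hodd
    rw [Nat.not_odd_iff_even, even_iff_two_dvd] at hodd
    obtain ⟨n, hn⟩ := exists_prime_orderOf_dvd_card' 2 hodd
    have h1 := h.odd_ker hy n.2.1 n.2.2
    have h2 : orderOf ((n : ↥(centralizer ({y} : Set G))) : G) = 2 := by
      rw [Subgroup.orderOf_coe, Subgroup.orderOf_coe, hn]
    rw [h2] at h1
    exact absurd h1 (by decide)
  have hk1y := h.centK y hy k1 hk1
  obtain ⟨r, hr, hrU⟩ := WLift.exists_normalizer_lift (N := N) hNo
    (U := A.subgroupOf (centralizer ({y} : Set G))) hA.comap_subtype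
    (q := QuotientGroup.mk' N ⟨k1, mem_centralizer_singleton_iff.2 hk1y⟩) (by
      rintro ⟨u, hu⟩ huA
      rw [mem_subgroupOf] at huA
      obtain ⟨a', ha', h1, h2⟩ := hπ u huA
      have ha'y := hAc a' ha'
      have huy := hAc u huA
      refine ⟨⟨a', mem_centralizer_singleton_iff.2 ha'y⟩, ha', ?_⟩
      rw [← map_inv, ← map_mul, ← map_mul, QuotientGroup.mk'_apply, QuotientGroup.mk'_apply, QuotientGroup.eq]
      -- `(k1 u k1⁻¹)⁻¹ a' ∈ N`
      have e : k1 * u * k1⁻¹ * y = y * (k1 * u * k1⁻¹) := comm_mul (comm_mul hk1y huy) (comm_inv hk1y)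
      refine ⟨?_, ?_⟩
      · change (k1 * u * k1⁻¹)⁻¹ * a' ∈ K y
        have e2 : (k1 * u * k1⁻¹)⁻¹ * a' = k1 * (u⁻¹ * k1⁻¹ * u⁻¹⁻¹) * (u⁻¹ * (a' * u⁻¹) * u⁻¹⁻¹) := by group
        rw [e2]
        exact mul_mem (mul_mem hk1 (h.conjK_self hy (comm_inv huy) (inv_mem hk1)))
          (h.conjK_self hy (comm_inv huy) h2)
      · change σ y ((k1 * u * k1⁻¹)⁻¹ * a') = 1
        rw [h.mul y hy _ _ (comm_inv e) ha'y, h.minv hy e, h.mconj hy hk1y huy, hk1s, h1, inv_mul_cancel])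
  have hr' : (⟨k1, mem_centralizer_singleton_iff.2 hk1y⟩ : ↥(centralizer ({y} : Set G)))⁻¹ * r ∈ N := by
    rw [← QuotientGroup.eq]
    exact hr.symm
  obtain ⟨hrK, hrs⟩ := hr'
  change k1⁻¹ * (r : G) ∈ K y at hrK
  change σ y (k1⁻¹ * (r : G)) = 1 at hrs
  have hrK' : (r : G) ∈ K y := by
    have e : (r : G) = k1 * (k1⁻¹ * r) := by group
    rw [e]
    exact mul_mem hk1 hrK
  have hrσ : σ y r = π := by
    rw [h.mul y hy _ _ (comm_inv hk1y) (hc r), h.minv hy hk1y, hk1s] at hrs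
    exact (inv_mul_eq_one.1 hrs).symm
  have hA' : ∀ a ∈ A, (r : G) * a * (r : G)⁻¹ ∈ A := by
    intro a ha
    have := hrU ⟨a, mem_centralizer_singleton_iff.2 (hAc a ha)⟩ (mem_subgroupOf.2 ha)
    exact this
  refine ⟨r, hrK', hrσ, hA', ?_⟩
  intro a ha a' ha' h1 h2
  have hay := hAc a ha
  have ha'y := hAc a' ha'
  have hray : (r : G) * a * (r : G)⁻¹ * y = y * ((r : G) * a * (r : G)⁻¹) :=
    comm_mul (comm_mul (hc r) hay) (comm_inv (hc r))
  have h3 : (r : G) * a * (r : G)⁻¹ * a'⁻¹ = 1 := by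
    apply h.eqK y hy
    · have e : (r : G) * a * (r : G)⁻¹ * a'⁻¹ = r * (a * (r : G)⁻¹ * a⁻¹) * (a' * a⁻¹)⁻¹ := by group
      rw [e]
      exact mul_mem (mul_mem hrK' (h.conjK_self hy hay (inv_mem hrK'))) (inv_mem h2)
    · rw [h.mul y hy _ _ hray (comm_inv ha'y), h.mconj hy (hc r) hay, h.minv hy ha'y, hrσ, h1, mul_inv_cancel]
    · exact isPGroup_zpowers_of_mem hA (mul_mem (hA' a ha) (inv_mem ha'))
  exact mul_inv_eq_one.1 h3

end norm

namespace Fr

variable {X : Set G} {K : G → Subgroup G} {σ : G → G → S7} {y : G} {T : Subgroup G} {φ : G → S7}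
variable (F : Fr X K σ y T φ) (h : Sys X K σ)
include F h

theorem lift [Finite G] {a a' : G} (ha : a * y = y * a) (ha' : a' * y = y * a')
    (haa : a * a = 1) (haa' : a' * a' = 1) (hK : a' * a ∈ K y) {r : S7} (hs : sign r = 1)
    (hr : r * φ a * r⁻¹ = φ a') : ∃ k ∈ K y, k * a * k⁻¹ = a' := by
  obtain ⟨π, hπ⟩ := F.phi
  apply h.conj_lift F.mem ha ha' haa haa' hK (π := π⁻¹ * r * π)
  · rw [map_mul, map_mul, hs, mul_one, map_inv, inv_mul_cancel]
  · rw [hπ _ ha, hπ _ ha'] at hr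
    calc π⁻¹ * r * π * σ y a * (π⁻¹ * r * π)⁻¹ = π⁻¹ * (r * (π * σ y a * π⁻¹) * r⁻¹) * π := by group
      _ = σ y a' := by rw [hr]; group

theorem norm [Finite G] {A : Subgroup G} (hA : A ≤ T) {r : S7} (hs : sign r = 1)
    (hr : ∀ a ∈ A, ∃ a' ∈ A, r * φ a * r⁻¹ = φ a' ∧ a' * a⁻¹ ∈ K y) :
    ∃ k ∈ K y, φ k = r ∧ (∀ a ∈ A, k * a * k⁻¹ ∈ A) ∧
      ∀ a ∈ A, ∀ a' ∈ A, r * φ a * r⁻¹ = φ a' → a' * a⁻¹ ∈ K y → k * a * k⁻¹ = a' := by
  obtain ⟨π, hπ⟩ := F.phi
  have hc : ∀ a ∈ A, a * y = y * a := fun a ha => F.syl.cent a (hA ha)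
  have key : ∀ a ∈ A, ∀ a' ∈ A, r * φ a * r⁻¹ = φ a' → π⁻¹ * r * π * σ y a * (π⁻¹ * r * π)⁻¹ = σ y a' := by
    intro a ha a' ha' h1
    rw [hπ _ (hc a ha), hπ _ (hc a' ha')] at h1
    calc π⁻¹ * r * π * σ y a * (π⁻¹ * r * π)⁻¹ = π⁻¹ * (r * (π * σ y a * π⁻¹) * r⁻¹) * π := by group
      _ = σ y a' := by rw [h1]; group
  obtain ⟨k, hk, hks, hkA, hkk⟩ := h.exists_norm F.mem (F.syl.two.to_le hA) hc (π := π⁻¹ * r * π)
    (by rw [map_mul, map_mul, hs, mul_one, map_inv, inv_mul_cancel])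
    (fun a ha => by
      obtain ⟨a', ha', h1, h2⟩ := hr a ha
      exact ⟨a', ha', key a ha a' ha' h1, h2⟩)
  refine ⟨k, hk, ?_, hkA, fun a ha a' ha' h1 h2 => hkk a ha a' ha' (key a ha a' ha' h1) h2⟩
  rw [hπ _ (h.centK y F.mem k hk), hks]
  group

theorem not_mem_K : y ∉ K y := fun hy => (h.inv y F.mem).ne
  (h.eqK y F.mem y hy (h.self y F.mem) (isPGroup_zpowers_of_sq (h.inv y F.mem).sq))

/-- the involutions of `T` -/
theorem split_inv {t : G} (ht : t ∈ T) (htt : t * t = 1) : ∃ d ∈ T, d ∈ K y ∧ ∃ p ∈ T, t = d * p ∧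
    d * d = 1 ∧ p * p = 1 ∧ ∃ k : Fin 2, φ p = τ ^ k.val := by
  obtain ⟨d, hd, hdK, p, hp, rfl, k, hps⟩ := F.split h ht
  have hc := F.comm_DP h hd hdK hp hps
  have h1 : d * d * (p * p) = 1 := by
    calc d * d * (p * p) = d * (d * p) * p := by group
      _ = d * (p * d) * p := by rw [hc]
      _ = d * p * (d * p) := by group
      _ = 1 := htt
  have hpp : p * p = (d * d)⁻¹ := (inv_eq_of_mul_eq_one_right h1).symm
  have hττ : ∀ k : Fin 2, τ ^ k.val * τ ^ k.val = 1 := by decide +kernel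
  have h2 : p * p = 1 := by
    have hpy := F.syl.cent p hp
    rcases F.inj h (mul_mem hp hp) (by
      rw [F.mul h hpy hpy, hps]
      exact hττ k) with h3 | h3
    · exact h3
    · exfalso
      have h4 : p * p ∈ K y := by
        rw [hpp]
        exact inv_mem (mul_mem hdK hdK)
      rw [h3] at h4
      exact F.not_mem_K h h4
  refine ⟨d, hd, hdK, p, hp, rfl, ?_, h2, k, hps⟩
  rw [h2, mul_one] at h1
  exact h1

/-- involutions of `T` are conjugate under `K y` to central elements `p` resp. `c * p` -/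
theorem to_center [Finite G] {c : G} (hc : c ∈ T) (hcK : c ∈ K y) (hcs : φ c = ζ) {t : G} (ht : t ∈ T)
    (htt : t * t = 1) (ht1 : t ≠ 1) (hty : t ≠ y) : ∃ d ∈ T, d ∈ K y ∧ ∃ p ∈ T, t = d * p ∧
    d * d = 1 ∧ p * p = 1 ∧ ∃ k : Fin 2, φ p = τ ^ k.val ∧
    ((k = 1 ∧ Sw (φ t) ∧ ∃ g ∈ K y, g * t * g⁻¹ = p) ∨
      (¬ Sw (φ t) ∧ ∃ g ∈ K y, g * t * g⁻¹ = c * p)) := by
  obtain ⟨d, hd, hdK, p, hp, rfl, hdd, hpp, k, hps⟩ := F.split_inv h ht htt
  have hdy := F.syl.cent d hd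
  have hpy := F.syl.cent p hp
  have hcy := F.syl.cent c hc
  have hcc : c * c = 1 := by
    apply F.injK h (mul_mem hc hc) (mul_mem hcK hcK)
    rw [F.mul h hcy hcy, hcs, zeta_eq]
    decide +kernel
  refine ⟨d, hd, hdK, p, hp, rfl, hdd, hpp, k, hps, ?_⟩
  have hdp := F.comm_DP h hd hdK hp hps
  have hcp := F.comm_DP h hc hcK hp hps
  obtain ⟨i, j, k', hf⟩ := F.form d hd
  have hk' : k' = 0 := by
    have hs := h.even y F.mem d hdK
    rw [← F.sign_eq hdy, hf, sign_el] at hs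
    by_contra hk
    rw [if_neg hk] at hs
    exact absurd hs (by decide)
  subst hk'
  have hcpcp : c * p * (c * p) = 1 := by
    calc c * p * (c * p) = c * (p * c) * p := by group
      _ = c * (c * p) * p := by rw [hcp]
      _ = (c * c) * (p * p) := by group
      _ = 1 := by rw [hcc, hpp, one_mul]
  have hK1 : p * (d * p) ∈ K y := by
    have e : p * (d * p) = d * (p * p) := by rw [← mul_assoc, ← hdp, mul_assoc]
    rw [e, hpp, mul_one]
    exact hdK
  have hK2 : c * p * (d * p) ∈ K y := by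
    rw [mul_assoc]
    exact mul_mem hcK hK1
  have hf2 : φ (d * p) = el i j 0 * τ ^ k.val := by rw [F.mul h hdy hpy, hf, hps]
  have hsq : el i j 0 * el i j 0 = 1 := by
    rw [← hf, ← F.mul h hdy hdy, hdd, F.one h]
  fin_cases k
  · right
    have hps' : φ p = 1 := hps
    have hf2' : φ (d * p) = el i j 0 := by rw [hf2]; exact mul_one _
    have hd1 : d ≠ 1 := by
      rintro rfl
      rcases F.inj h hp hps' with h1 | h1
      · exact ht1 (by rw [h1, one_mul])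
      · exact hty (by rw [h1, one_mul])
    have hel : el i j 0 ≠ 1 := by
      rw [← hf]
      intro h1
      exact hd1 (F.injK h hd hdK h1)
    obtain ⟨m, n, hmn⟩ := even_inv i j hsq hel
    refine ⟨?_, ?_⟩
    · intro hsw
      have := hsw.sign
      rw [hf2', sign_el] at this
      exact absurd this (by decide)
    · apply F.lift h (comm_mul hdy hpy) (comm_mul hcy hpy) htt hcpcp hK2 (sign_r m n)
      rw [hf2', hmn, F.mul h hcy hpy, hps', mul_one, hcs]
  · have hps' : φ p = τ := hps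
    have hf2' : φ (d * p) = el i j 1 := by
      rw [hf2]
      exact el_one i j
    have hsq1 : el i j 1 * el i j 1 = 1 := by
      rw [← hf2', ← F.mul h (comm_mul hdy hpy) (comm_mul hdy hpy), htt, F.one h]
    rcases odd_inv i j hsq1 with ⟨h1, m, n, hmn⟩ | ⟨h1, m, n, hmn⟩
    · left
      refine ⟨rfl, by rw [hf2']; exact h1, ?_⟩
      apply F.lift h (comm_mul hdy hpy) hpy htt hpp hK1 (sign_r m n)
      rw [hf2', hmn, hps']
    · right
      refine ⟨by rw [hf2']; exact h1, ?_⟩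
      apply F.lift h (comm_mul hdy hpy) (comm_mul hcy hpy) htt hcpcp hK2 (sign_r m n)
      rw [hf2', hmn, F.mul h hcy hpy, hps', hcs]

end Fr

section H

variable {X : Set G} {K : G → Subgroup G} {σ : G → G → S7}

/-- an involution of `C(y)` not acting as a transposition is central in a Sylow 2-subgroup of `C(y)` -/
theorem Sys.exists_central [Finite G] (h : Sys X K σ) {y t : G} (hy : y ∈ X) (ht : Inv t) (hc : t * y = y * t)
    (hsw : ¬ Sw (σ y t)) : ∃ T, SylC y T ∧ t ∈ T ∧ ∀ g ∈ T, g * t = t * g := by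
  by_cases hty : t = y
  · subst hty
    obtain ⟨T, hT, hle⟩ := exists_sylC (y := t) (isPGroup_zpowers_of_sq ht.sq) (by
      intro x hx
      obtain ⟨n, rfl⟩ := mem_zpowers_iff.1 hx
      exact ((Commute.refl t).zpow_left n).eq)
    exact ⟨T, hT, hle (mem_zpowers _), hT.cent⟩
  obtain ⟨T, hT, hle⟩ := exists_sylC (y := y) (isPGroup_zpowers_of_sq ht.sq) (by
      intro x hx
      obtain ⟨n, rfl⟩ := mem_zpowers_iff.1 hx
      exact ((show Commute t y from hc).zpow_left n).eq)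
  have htT := hle (mem_zpowers t)
  obtain ⟨φ, F⟩ := h.exists_fr hy hT
  obtain ⟨c, hcT, hcK, -, hcs, -, hcc, -⟩ := F.exists_zz h
  obtain ⟨d, hd, hdK, p, hp, rfl, hdd, hpp, k, hps, h1⟩ := F.to_center h hcT hcK hcs htT ht.sq ht.ne hty
  rcases h1 with ⟨-, h1, -⟩ | ⟨-, g, hg, hg'⟩
  · exact absurd ((F.sw_iff hc).1 h1) hsw
  have hgy := h.centK y hy g hg
  have h2 := hT.conj g⁻¹
  have e : g⁻¹ * y * g⁻¹⁻¹ = y := by rw [comm_inv hgy]; group
  rw [e] at h2
  refine ⟨_, h2, ?_, ?_⟩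
  · rw [mem_map_conj, inv_inv, hg']
    exact mul_mem hcT hp
  · intro x hx
    rw [mem_map_conj, inv_inv] at hx
    have h3 : (g * x * g⁻¹) * (c * p) = (c * p) * (g * x * g⁻¹) := by
      have h4 := hcc _ hx
      have h5 := F.central_P h hp hx hps
      rw [← mul_assoc, h4, mul_assoc, h5, ← mul_assoc]
    rw [← hg'] at h3
    calc x * (d * p) = g⁻¹ * ((g * x * g⁻¹) * (g * (d * p) * g⁻¹)) * g := by group
      _ = g⁻¹ * ((g * (d * p) * g⁻¹) * (g * x * g⁻¹)) * g := by rw [h3]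
      _ = d * p * x := by group

/-- **(H)**: `K x` contains no element of `X`. -/
theorem Sys.not_mem [Finite G] (h : Sys X K σ) {x c : G} (hx : x ∈ X) (hc : c ∈ X) (hcK : c ∈ K x) : False := by
  have hcx := h.centK x hx c hcK
  have hci := h.inv c hc
  have hxi := h.inv x hx
  have hev := h.even x hx c hcK
  -- `T`
  obtain ⟨T, hT, hcT, hTc⟩ := h.exists_central hx hci hcx (fun hsw => by
    have := hsw.sign
    rw [hev] at this
    exact absurd this (by decide))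
  obtain ⟨T1, hT1, hxT1, hT1x⟩ := h.exists_central hc hxi hcx.symm (fun hsw => by
    have := (h.transp c hc x hx hcx.symm hsw).sign
    rw [hev] at this
    exact absurd this (by decide))
  have h1 : Nat.card T ≤ Nat.card T1 := hT1.max T hT.two hTc
  have h2 : Nat.card T1 ≤ Nat.card T := hT.max T1 hT1.two hT1x
  have hTc' : SylC c T := ⟨hT.two, hTc, fun P hP hPc => (hT1.max P hP hPc).trans h2⟩
  obtain ⟨φ, F⟩ := h.exists_fr hx hT
  obtain ⟨φ', F'⟩ := h.exists_fr hc hTc'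
  obtain ⟨z, hzT, hzK, hz, -, hZ, -, hu⟩ := F.exists_zz h
  obtain ⟨z', hzT', hzK', hz', -, hZ', -, -⟩ := F'.exists_zz h
  have e : z = z' := hZ.unique hZ'
  rcases hu c hcT hcK hTc with h3 | h3
  · exact hci.ne h3
  · apply F'.not_mem_K h
    rw [h3, e]
    rw [h3, e] at hzK'
    exact hzK'

end H

end Cfsg.Agent.GH.A7
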