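import Cfsg.Agent.GH.A7.Pre

/-!
# `A₇`, `|Q| = 2`: a class without inner pairs

`Cf X K σ C y T φ w c a b`: `y ∈ C`, `T` a Sylow 2-subgroup of `C(y)`, `w ∈ T` an involution acting as the
transposition `τ`, `c, a, b ∈ T ⊓ K y` acting as `ζ`, `γ`, `ρ γ`.
-/

set_option autoImplicit false
set_option linter.unusedSectionVars false

namespace Cfsg.Agent.GH.A7

open Subgroup Equiv.Perm
open Cfsg.Agent.GH.TOne
open Cfsg.Agent.GH.L2One.A7 (ρ γ ζ τ)

variable {G : Type*} [Group G] {X : Set G} {K : G → Subgroup G} {σ : G → G → S7}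

/-- A conjugacy class in `X` without inner pairs. -/
structure Cls (X : Set G) (σ : G → G → S7) (C : Set G) : Prop where
  sub : ∀ y ∈ C, y ∈ X
  conj : ∀ y ∈ C, ∀ g : G, g * y * g⁻¹ ∈ C
  ni : NoInner σ C

/-- Three commuting elements `a, b, a * b` of the class commuting with `t` of the class. -/
theorem Cls.parity {C : Set G} (hC : Cls X σ C) (h : Sys X K σ) {t a b : G} (ht : t ∈ C) (ha : a ∈ C) (hb : b ∈ C)
    (hab : a * b ∈ C) (hat : a * t = t * a) (hbt : b * t = t * b) (h1 : a ≠ t) (h2 : b ≠ t)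
    (h3 : a * b ≠ t) : False := by
  have e1 := hC.ni t ht a ha hat h1
  have e2 := hC.ni t ht b hb hbt h2
  have e3 := hC.ni t ht (a * b) hab (comm_mul hat hbt) h3
  rw [h.mul t (hC.sub t ht) a b hat hbt, map_mul, e1, e2] at e3
  exact absurd e3 (by decide)

/-- The configuration (see the header). -/
structure Cf (X : Set G) (K : G → Subgroup G) (σ : G → G → S7) (C : Set G) (y : G) (T : Subgroup G) (φ : G → S7)
    (w c a b : G) : Prop where
  F : Fr X K σ y T φ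
  yC : y ∈ C
  wT : w ∈ T
  wφ : φ w = τ
  ww : w * w = 1
  cT : c ∈ T
  cK : c ∈ K y
  cφ : φ c = ζ
  aT : a ∈ T
  aK : a ∈ K y
  aφ : φ a = γ
  bT : b ∈ T
  bK : b ∈ K y
  bφ : φ b = ρ * γ

theorem rg_el : ρ * γ = el 1 1 0 := by decide +kernel
theorem g_el : γ = el 0 1 0 := by decide +kernel

/-- existence -/
theorem exists_cf [Finite G] (h : Sys X K σ) {C : Set G} (hC : Cls X σ C) {y t : G} (hy : y ∈ C) (ht : t ∈ C)
    (hc : t * y = y * t) (hne : t ≠ y) :
    ∃ T φ w c a b, Cf X K σ C y T φ w c a b ∧ (w ∈ C ∨ c * w ∈ C) := by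
  have hs := hC.ni y hy t ht hc hne
  have hti := h.inv t (hC.sub t ht)
  obtain ⟨T, hT, htT⟩ := exists_sylC_mem hc (isPGroup_zpowers_of_sq hti.sq)
  obtain ⟨φ, F⟩ := h.exists_fr (hC.sub y hy) hT
  obtain ⟨c, hcT, hcK, hci, hcs, -, -, -⟩ := F.exists_zz h
  obtain ⟨a, ha, haK, haφ⟩ := F.ex 0 1
  obtain ⟨b, hb, hbK, hbφ⟩ := F.ex 1 1
  rw [← g_el] at haφ
  rw [← rg_el] at hbφ
  obtain ⟨d, hd, hdK, p, hp, e, hdd, hpp, k, hk, h1⟩ := F.to_center h hcT hcK hcs htT hti.sq hti.ne hne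
  have hdy := F.syl.cent d hd
  have hpy := F.syl.cent p hp
  have hk1 : k = 1 := by
    rw [← F.sign_eq hc, e, F.mul h hdy hpy, map_mul, F.sign_eq hdy, h.even y F.mem d hdK, one_mul, hk] at hs
    fin_cases k
    · exact absurd hs (by decide)
    · rfl
  subst hk1
  have hk' : φ p = τ := hk
  refine ⟨T, φ, p, c, a, b, ⟨F, hy, hp, hk', hpp, hcT, hcK, hcs, ha, haK, haφ, hb, hbK, hbφ⟩, ?_⟩
  rcases h1 with ⟨-, -, g, hg, hg'⟩ | ⟨-, g, hg, hg'⟩
  · left
    rw [← hg']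
    exact hC.conj t ht g
  · right
    rw [← hg']
    exact hC.conj t ht g

namespace Cf

variable {C : Set G} {y : G} {T : Subgroup G} {φ : G → S7} {w c a b : G}

section

variable (D : Cf X K σ C y T φ w c a b) (h : Sys X K σ)

include D

theorem wy : w * y = y * w := D.F.syl.cent w D.wT
theorem cy : c * y = y * c := D.F.syl.cent c D.cT
theorem ay : a * y = y * a := D.F.syl.cent a D.aT
theorem by' : b * y = y * b := D.F.syl.cent b D.bT

include h

theorem mulφ {s t : G} (hs : s ∈ T) (ht : t ∈ T) : φ (s * t) = φ s * φ t :=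
  D.F.mul h (D.F.syl.cent s hs) (D.F.syl.cent t ht)

theorem cc : c * c = 1 := D.F.injK h (mul_mem D.cT D.cT) (mul_mem D.cK D.cK) (by
  rw [D.mulφ h D.cT D.cT, D.cφ]; decide +kernel)

theorem aa : a * a = 1 := D.F.injK h (mul_mem D.aT D.aT) (mul_mem D.aK D.aK) (by
  rw [D.mulφ h D.aT D.aT, D.aφ]; decide +kernel)

theorem bb : b * b = 1 := D.F.injK h (mul_mem D.bT D.bT) (mul_mem D.bK D.bK) (by
  rw [D.mulφ h D.bT D.bT, D.bφ]; decide +kernel)

theorem yy : y * y = 1 := (h.inv y D.F.mem).sq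

theorem ca : c * a = a * c := D.F.eqK h (mul_mem D.cT D.aT) (mul_mem D.aT D.cT) (mul_mem D.cK D.aK)
  (mul_mem D.aK D.cK) (by
    rw [D.mulφ h D.cT D.aT, D.mulφ h D.aT D.cT, D.aφ, D.cφ]; decide +kernel)

theorem cb : c * b = b * c := D.F.eqK h (mul_mem D.cT D.bT) (mul_mem D.bT D.cT) (mul_mem D.cK D.bK)
  (mul_mem D.bK D.cK) (by
    rw [D.mulφ h D.cT D.bT, D.mulφ h D.bT D.cT, D.bφ, D.cφ]; decide +kernel)

theorem ba : b * a = c * (a * b) := D.F.eqK h (mul_mem D.bT D.aT) (mul_mem D.cT (mul_mem D.aT D.bT))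
  (mul_mem D.bK D.aK) (mul_mem D.cK (mul_mem D.aK D.bK)) (by
    rw [D.mulφ h D.bT D.aT, D.mulφ h D.cT (mul_mem D.aT D.bT), D.mulφ h D.aT D.bT, D.bφ, D.cφ, D.aφ]
    decide +kernel)

theorem wcent {g : G} (hg : g ∈ T) : g * w = w * g := D.F.central_P h D.wT hg (k := 1) D.wφ

theorem yT [Finite G] : y ∈ T := D.F.y_mem h

/-- different images -/
theorem ne_of {s t : G} (hst : φ s ≠ φ t) : s ≠ t := fun h1 => hst (by rw [h1])

/-- `w` and `w * y` can be interchanged -/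
theorem swap [Finite G] : Cf X K σ C y T φ (w * y) c a b := by
  refine ⟨D.F, D.yC, mul_mem D.wT (D.yT h), ?_, ?_, D.cT, D.cK, D.cφ, D.aT, D.aK, D.aφ, D.bT, D.bK, D.bφ⟩
  · rw [D.mulφ h D.wT (D.yT h), D.F.phi_y h, D.wφ, mul_one]
  · calc w * y * (w * y) = w * (y * w) * y := by group
      _ = w * (w * y) * y := by rw [D.wy]
      _ = (w * w) * (y * y) := by group
      _ = 1 := by rw [D.ww, D.yy h, one_mul]

theorem cwcw : c * w * (c * w) = 1 := by
  calc c * w * (c * w) = c * (w * c) * w := by group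
    _ = c * (c * w) * w := by rw [D.wcent h D.cT]
    _ = (c * c) * (w * w) := by group
    _ = 1 := by rw [D.cc h, D.ww, one_mul]

/-- `w ~ a w` -/
theorem conj_a [Finite G] : ∃ k, k * y = y * k ∧ k * w * k⁻¹ = a * w := by
  obtain ⟨k, hk, hkk⟩ := D.F.lift h D.wy (comm_mul D.ay D.wy) D.ww (by
    calc a * w * (a * w) = a * (w * a) * w := by group
      _ = a * (a * w) * w := by rw [D.wcent h D.aT]
      _ = (a * a) * (w * w) := by group
      _ = 1 := by rw [D.aa h, D.ww, one_mul]) (by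
    rw [mul_assoc, D.ww, mul_one]; exact D.aK) (r := r0) r0_sign (by
    rw [D.mulφ h D.aT D.wT, D.wφ, D.aφ]; decide +kernel)
  exact ⟨k, h.centK y D.F.mem k hk, hkk⟩

/-- `c w ~ b w` -/
theorem conj_b [Finite G] : ∃ k, k * y = y * k ∧ k * (c * w) * k⁻¹ = b * w := by
  obtain ⟨k, hk, hkk⟩ := D.F.lift h (comm_mul D.cy D.wy) (comm_mul D.by' D.wy) (D.cwcw h) (by
    calc b * w * (b * w) = b * (w * b) * w := by group
      _ = b * (b * w) * w := by rw [D.wcent h D.bT]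
      _ = (b * b) * (w * w) := by group
      _ = 1 := by rw [D.bb h, D.ww, one_mul]) (by
    have e : b * w * (c * w) = b * c := by
      calc b * w * (c * w) = b * (w * c) * w := by group
        _ = b * (c * w) * w := by rw [D.wcent h D.cT]
        _ = b * c * (w * w) := by group
        _ = b * c := by rw [D.ww, mul_one]
    rw [e]; exact mul_mem D.bK D.cK) (r := r1) r1_sign (by
    rw [D.mulφ h D.bT D.wT, D.mulφ h D.cT D.wT, D.wφ, D.bφ, D.cφ]; decide +kernel)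
  exact ⟨k, h.centK y D.F.mem k hk, hkk⟩

end

section

variable (D : Cf X K σ C y T φ w c a b) (h : Sys X K σ) (hC : Cls X σ C)
include D h hC

/-- (A2) -/
theorem not_w_wy [Finite G] (h1 : w ∈ C) (h2 : w * y ∈ C) : False := by
  obtain ⟨k, hky, hkw⟩ := D.conj_a h
  have ha : a * w ∈ C := by rw [← hkw]; exact hC.conj w h1 k
  have hay : a * w * y ∈ C := by
    have h3 := hC.conj _ h2 k
    have e : k * (w * y) * k⁻¹ = (k * w * k⁻¹) * (k * y * k⁻¹) := by group
    rwa [e, hkw, conj_eq_self hky] at h3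
  have hyT := D.yT h
  refine hC.parity h h1 ha D.yC hay ?_ D.wy.symm ?_ ?_ ?_
  · exact comm_mul (D.wcent h D.aT) rfl
  · apply ne_of D h
    rw [D.mulφ h D.aT D.wT, D.wφ, D.aφ]; decide +kernel
  · apply ne_of D h
    rw [D.F.phi_y h, D.wφ]; decide +kernel
  · apply ne_of D h
    rw [D.mulφ h (mul_mem D.aT D.wT) hyT, D.mulφ h D.aT D.wT, D.wφ, D.aφ, D.F.phi_y h]; decide +kernel

/-- (B2) -/
theorem not_cw_cwy [Finite G] (h1 : c * w ∈ C) (h2 : c * w * y ∈ C) : False := by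
  obtain ⟨k, hky, hkw⟩ := D.conj_b h
  have ha : b * w ∈ C := by rw [← hkw]; exact hC.conj _ h1 k
  have hay : b * w * y ∈ C := by
    have h3 := hC.conj _ h2 k
    have e : k * (c * w * y) * k⁻¹ = (k * (c * w) * k⁻¹) * (k * y * k⁻¹) := by group
    rwa [e, hkw, conj_eq_self hky] at h3
  have hyT := D.yT h
  have hwc : w * c = c * w := (D.wcent h D.cT).symm
  have hwb : w * b = b * w := (D.wcent h D.bT).symm
  refine hC.parity h h1 ha D.yC hay ?_ (comm_mul D.cy D.wy).symm ?_ ?_ ?_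
  · have c1 : Commute b c := (D.cb h).symm
    have c2 : Commute b w := (D.wcent h D.bT)
    have c3 : Commute w c := hwc
    exact ((c1.mul_right c2).mul_left (c3.mul_right (Commute.refl w))).eq
  · apply ne_of D h
    rw [D.mulφ h D.bT D.wT, D.mulφ h D.cT D.wT, D.wφ, D.bφ, D.cφ]; decide +kernel
  · apply ne_of D h
    rw [D.F.phi_y h, D.mulφ h D.cT D.wT, D.wφ, D.cφ]; decide +kernel
  · apply ne_of D h
    rw [D.mulφ h (mul_mem D.bT D.wT) hyT, D.mulφ h D.bT D.wT, D.mulφ h D.cT D.wT, D.wφ, D.bφ, D.cφ,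
      D.F.phi_y h]
    decide +kernel

/-- `share` for `c` -/
theorem share_c (h1 : w ∈ C) : c ∈ K w ∧ Off (σ w y) (σ w c) ∧ Sw (σ w y) := by
  have hw := hC.sub w h1
  have hsw : Sw (σ y w) := (D.F.sw_iff D.wy).1 (by rw [D.wφ]; exact tau_sw)
  obtain ⟨h2, h3⟩ := h.share y D.F.mem w hw D.wy hsw c D.cK (D.wcent h D.cT)
    (isPGroup_zpowers_of_sq (D.cc h)) (D.F.off D.wy D.cy (by rw [D.wφ, D.cφ]; exact off_tau_zeta))
  exact ⟨h2, h3, h.transp y D.F.mem w hw D.wy hsw⟩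

theorem c_ne : c ≠ 1 := by
  apply ne_of D h
  rw [D.cφ, D.F.one h]; exact zeta_ne

/-- (AB1) -/
theorem not_w_cw (h1 : w ∈ C) (h2 : c * w ∈ C) : False := by
  obtain ⟨h3, -, -⟩ := D.share_c h hC h1
  have hw := hC.sub w h1
  have h4 := hC.ni w h1 (c * w) h2 (comm_mul (D.wcent h D.cT) rfl) (fun h5 => D.c_ne h hC (mul_eq_right.1 h5))
  rw [h.mul w hw _ _ (D.wcent h D.cT) rfl, h.self w hw, mul_one, h.even w hw c h3] at h4
  exact absurd h4 (by decide)

/-- (AB2) -/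
theorem not_w_cwy [Finite G] (ht : ∀ y ∈ C, ∀ t ∈ C, ∃ g : G, g * y * g⁻¹ = t) (h1 : w ∈ C)
    (h2 : c * w * y ∈ C) : False := by
  obtain ⟨h3, h4, h5⟩ := D.share_c h hC h1
  have hw := hC.sub w h1
  have hyT := D.yT h
  obtain ⟨s, hs⟩ : ∃ s, s = c * w * y := ⟨_, rfl⟩
  have hcw := D.wcent h D.cT
  have hsT : s ∈ T := by rw [hs]; exact mul_mem (mul_mem D.cT D.wT) hyT
  have hsφ : φ s = ζ * τ := by
    rw [hs, D.mulφ h (mul_mem D.cT D.wT) hyT, D.mulφ h D.cT D.wT, D.cφ, D.wφ, D.F.phi_y h, mul_one]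
  rw [← hs] at h2
  have hsX := hC.sub s h2
  have hsy : s * y = y * s := D.F.syl.cent s hsT
  have hsw : s * w = w * s := D.wcent h hsT
  have hcT : ∀ g ∈ T, g * c = c * g := by
    intro g hg
    obtain ⟨c', hc'T, hc'K, -, hc's, -, hc'c, -⟩ := D.F.exists_zz h
    have : c = c' := D.F.eqK h D.cT hc'T D.cK hc'K (by rw [D.cφ, hc's])
    rw [this]
    exact hc'c g hg
  have hsc : ∀ g ∈ T, g * s = s * g := by
    intro g hg
    have c1 : Commute g c := hcT g hg
    have c2 : Commute g w := D.wcent h hg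
    have c3 : Commute g y := D.F.syl.cent g hg
    rw [hs]
    exact ((c1.mul_right c2).mul_right c3).eq
  have hys : y ≠ s := by
    apply ne_of D h
    rw [D.F.phi_y h, hsφ]; decide +kernel
  have hws : w ≠ s := by
    apply ne_of D h
    rw [D.wφ, hsφ]; decide +kernel
  -- `y` and `w` are odd non-transpositions on `K s`
  have o1 := hC.ni s h2 y D.yC hsy.symm hys
  have o2 := hC.ni s h2 w h1 hsw.symm hws
  have n1 : ¬ Sw (σ s y) := fun h6 => by
    have h7 := h.transp s hsX y D.F.mem hsy.symm h6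
    rw [← D.F.sw_iff hsy, hsφ] at h7
    exact zetatau_not_sw h7
  have n2 : ¬ Sw (σ s w) := fun h6 => by
    have h7 := h.transp s hsX w hw hsw.symm h6
    have e : σ w s = σ w y * σ w c := by
      have e1 : s = w * (y * c) := by
        rw [hs, hcw, mul_assoc, D.cy]
      rw [e1, h.mul w hw _ _ rfl (comm_mul D.wy.symm hcw), h.self w hw, one_mul,
        h.mul w hw _ _ D.wy.symm hcw]
    rw [e] at h7
    exact not_sw_mul h5 (fun h8 => D.c_ne h hC (h.eqK w hw c h3 h8 (isPGroup_zpowers_of_sq (D.cc h)))) h4 h7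
  obtain ⟨g, hg⟩ := ht y D.yC s h2
  have hTs : SylC s T := D.F.syl.of_conj hg hsc
  obtain ⟨ψ, F'⟩ := h.exists_fr hsX hTs
  have key : ∀ z ∈ T, (∀ g ∈ T, g * z = z * g) → sign (σ s z) = -1 → ¬ Sw (σ s z) → ψ z = ζ * τ := by
    intro z hz hzc hzs hzn
    have hzs' := F'.syl.cent z hz
    obtain ⟨i, j, k, hf⟩ := F'.form z hz
    rw [hf]
    apply triple_cent i j k
    · intro i' j'
      obtain ⟨d, hd, -, hdφ⟩ := F'.ex i' j'
      rw [← hf, ← hdφ, ← F'.mul h hzs' (F'.syl.cent d hd), ← hzc d hd, F'.mul h (F'.syl.cent d hd) hzs']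
    · rw [← hf, F'.sign_eq hzs']; exact hzs
    · rw [← hf, F'.sw_iff hzs']; exact hzn
  have k1 := key y hyT (fun g hg => D.F.syl.cent g hg) o1 n1
  have k2 := key w D.wT (fun g hg => D.wcent h hg) o2 n2
  have k3 := F'.inj h (mul_mem D.wT hyT) (by
    rw [F'.mul h hsw.symm hsy.symm, k1, k2]; decide +kernel)
  rcases k3 with k3 | k3
  · have : φ (w * y) = 1 := by rw [k3, D.F.one h]
    rw [D.mulφ h D.wT hyT, D.wφ, D.F.phi_y h] at this
    revert this
    decide +kernel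
  · apply D.c_ne h hC
    rw [hs] at k3
    have e : c * w * y = c * (w * y) := by group
    rw [e] at k3
    exact right_eq_mul.1 k3

end

end Cf

end Cfsg.Agent.GH.A7
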