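import Cfsg.Agent.GH.A7.Sys
import Cfsg.Agent.GH.L2One.A7

/-!
# `S₇`: finite facts
-/

set_option autoImplicit false
set_option Elab.async false

namespace Cfsg.Agent.GH.A7

open Subgroup Equiv.Perm
open Cfsg.Agent.GH.L2One.A7 (ρ γ ζ τ form)

/-- the elements of a Sylow 2-subgroup of `S₇` -/
def el (i : Fin 4) (j k : Fin 2) : S7 := ρ ^ i.val * γ ^ j.val * τ ^ k.val

instance : DecidablePred Sw := fun π => inferInstanceAs (Decidable (∃ i j : Fin 7, i ≠ j ∧ π = Equiv.swap i j))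

theorem el_mul : ∀ i i' : Fin 4, ∀ j k j' k' : Fin 2, ∃ i'' : Fin 4, ∃ j'' : Fin 2,
    el i j k * el i' j' k' = el i'' j'' (k + k') := by
  decide +kernel

theorem el_inv : ∀ i : Fin 4, ∀ j k : Fin 2, ∃ i' : Fin 4, ∃ j' : Fin 2,
    (el i j k)⁻¹ = el i' j' k := by
  decide +kernel

theorem el_zero : el 0 0 0 = 1 := by decide +kernel

theorem el_pow16 : ∀ i : Fin 4, ∀ j k : Fin 2, (el i j k) ^ 4 = 1 := by
  decide +kernel

theorem el_comm : ∀ i i' : Fin 4, ∀ j k j' k' : Fin 2,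
    el i j k * el i' j' k' * (el i j k)⁻¹ * (el i' j' k')⁻¹ = 1 ∨
    el i j k * el i' j' k' * (el i j k)⁻¹ * (el i' j' k')⁻¹ = ζ := by
  decide +kernel

theorem sign_el : ∀ i : Fin 4, ∀ j k : Fin 2, sign (el i j k) = if k = 0 then 1 else -1 := by
  decide +kernel

/-- the Sylow 2-subgroup `D₈` of `A₇` -/
def S0 : Subgroup S7 where
  carrier := {a | ∃ i : Fin 4, ∃ j : Fin 2, a = el i j 0}
  one_mem' := ⟨0, 0, el_zero.symm⟩
  mul_mem' := by
    rintro a b ⟨i, j, rfl⟩ ⟨i', j', rfl⟩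
    obtain ⟨i'', j'', h⟩ := el_mul i i' j 0 j' 0
    exact ⟨i'', j'', h⟩
  inv_mem' := by
    rintro a ⟨i, j, rfl⟩
    obtain ⟨i', j', h⟩ := el_inv i j 0
    exact ⟨i', j', h⟩

theorem mem_S0 {a : S7} : a ∈ S0 ↔ ∃ i : Fin 4, ∃ j : Fin 2, a = el i j 0 := Iff.rfl

theorem isPGroup_S0 : IsPGroup 2 S0 := by
  rintro ⟨a, i, j, rfl⟩
  exact ⟨2, Subtype.ext (el_pow16 i j 0)⟩

theorem el_inj : ∀ i i' : Fin 4, ∀ j k j' k' : Fin 2, el i j k = el i' j' k' → i = i' ∧ j = j' ∧ k = k' := by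
  decide +kernel

theorem card_S0 : Nat.card S0 = 8 := by
  have h : Function.Bijective (fun p : Fin 4 × Fin 2 => (⟨el p.1 p.2 0, p.1, p.2, rfl⟩ : S0)) := by
    refine ⟨?_, ?_⟩
    · rintro ⟨i, j⟩ ⟨i', j'⟩ hh
      obtain ⟨h1, h2, -⟩ := el_inj i i' j 0 j' 0 (congrArg Subtype.val hh)
      rw [h1, h2]
    · rintro ⟨a, i, j, rfl⟩
      exact ⟨(i, j), rfl⟩
  rw [← Nat.card_eq_of_bijective _ h]
  simp

theorem S0_even {a : S7} (ha : a ∈ S0) : sign a = 1 := by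
  obtain ⟨i, j, rfl⟩ := ha
  rw [sign_el]; rfl

/-- fixed points of `S0` -/
theorem fix_S0 : ∀ p : Fin 7, (∀ i : Fin 4, ∀ j : Fin 2, el i j 0 p = p) → p = 6 := by
  decide +kernel

theorem cent_S0 : ∀ i : Fin 4, ∀ j : Fin 2, (∀ i' : Fin 4, ∀ j' : Fin 2, el i j 0 * el i' j' 0 = el i' j' 0 * el i j 0) →
    el i j 0 = 1 ∨ el i j 0 = ζ := by
  decide +kernel

theorem zeta_eq : ζ = el 2 0 0 := by decide +kernel

theorem tau_eq : τ = el 0 0 1 := by decide +kernel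

theorem zeta_ne : ζ ≠ 1 := by decide +kernel

theorem zeta_cent : ∀ i : Fin 4, ∀ j k : Fin 2, el i j k * ζ = ζ * el i j k := by
  decide +kernel

theorem tau_cent : ∀ i : Fin 4, ∀ j k : Fin 2, el i j k * τ = τ * el i j k := by
  decide +kernel

theorem el_one : ∀ i : Fin 4, ∀ j : Fin 2, el i j 0 * τ = el i j 1 := by
  decide +kernel

theorem el_six : ∀ i : Fin 4, ∀ j : Fin 2, (el i j 0) 6 = 6 := by
  decide +kernel

theorem norm_form {a : S7} (h : ∀ s ∈ S0, a⁻¹ * s * a ∈ S0) (h' : ∀ s ∈ S0, a * s * a⁻¹ ∈ S0) :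
    ∃ i : Fin 4, ∃ j k : Fin 2, a = el i j k := by
  have h6 : a 6 = 6 := by
    apply fix_S0
    intro i j
    obtain ⟨i', j', h1⟩ := h _ ⟨i, j, rfl⟩
    have h2 := el_six i' j'
    rw [← h1] at h2
    have h3 : a ((a⁻¹ * el i j 0 * a) 6) = a 6 := by rw [h2]
    simpa using h3
  have hz : a * ζ * a⁻¹ = ζ := by
    obtain ⟨i, j, h1⟩ := h' ζ (zeta_eq ▸ ⟨2, 0, rfl⟩)
    rcases cent_S0 i j (by
      intro i' j'
      obtain ⟨i'', j'', h2⟩ := h _ ⟨i', j', rfl⟩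
      have h3 : el i' j' 0 = a * el i'' j'' 0 * a⁻¹ := by rw [← h2]; group
      rw [← h1, h3]
      have h4 := zeta_cent i'' j'' 0
      calc a * ζ * a⁻¹ * (a * el i'' j'' 0 * a⁻¹) = a * (ζ * el i'' j'' 0) * a⁻¹ := by group
        _ = a * (el i'' j'' 0 * ζ) * a⁻¹ := by rw [h4]
        _ = _ := by group) with h2 | h2
    · exfalso
      apply zeta_ne
      rw [h2] at h1
      calc ζ = a⁻¹ * (a * ζ * a⁻¹) * a := by group
        _ = 1 := by rw [h1]; group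
    · rw [h1, h2]
  obtain ⟨i, j, k, h1⟩ := form h6 (by
    calc a * ζ = a * ζ * a⁻¹ * a := by group
      _ = ζ * a := by rw [hz])
  exact ⟨i, j, k, h1⟩

theorem card_S7 : Nat.card S7 = 5040 := by
  rw [Nat.card_eq_fintype_card, Fintype.card_perm, Fintype.card_fin]
  rfl

/-- 2-subgroups of `S₇` containing `S0` -/
theorem form_of_le {P : Subgroup S7} (hP : IsPGroup 2 P) (hle : S0 ≤ P) {a : S7} (ha : a ∈ P) :
    ∃ i : Fin 4, ∃ j k : Fin 2, a = el i j k := by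
  have : Fact (Nat.Prime 2) := ⟨Nat.prime_two⟩
  obtain ⟨n, hn⟩ := hP.exists_card_eq
  have h1 : 2 ^ n ∣ 5040 := by
    rw [← hn, ← card_S7]; exact Subgroup.card_subgroup_dvd_card P
  have h2 : n ≤ 4 := by
    by_contra hh
    have h3 : 2 ^ 5 ∣ 5040 := (pow_dvd_pow 2 (by omega)).trans h1
    norm_num at h3
  have h3 : (S0.subgroupOf P).index ≤ 2 := by
    have h4 := S0.subgroupOf P |>.card_mul_index
    rw [Nat.card_congr (subgroupOfEquivOfLe hle).toEquiv, card_S0, hn] at h4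
    have h5 : 2 ^ n ≤ 2 ^ 4 := Nat.pow_le_pow_right (by norm_num) h2
    omega
  have hnorm : (S0.subgroupOf P).Normal := by
    have h4 : (S0.subgroupOf P).index ≠ 0 := index_ne_zero_of_finite
    have h5 : (S0.subgroupOf P).index = 1 ∨ (S0.subgroupOf P).index = 2 := by omega
    rcases h5 with h5 | h5
    · rw [index_eq_one] at h5
      rw [h5]; infer_instance
    · exact normal_of_index_eq_two h5
  apply norm_form
  · intro s hs
    have h4 := hnorm.conj_mem ⟨s, hle hs⟩ (mem_subgroupOf.2 hs) ⟨a⁻¹, inv_mem ha⟩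
    have h5 := mem_subgroupOf.1 h4
    simpa using h5
  · intro s hs
    have h4 := hnorm.conj_mem ⟨s, hle hs⟩ (mem_subgroupOf.2 hs) ⟨a, ha⟩
    have h5 := mem_subgroupOf.1 h4
    simpa using h5

/-! ### involutions -/

/-- `(4 0 1)(5 2 3)` -/
def r0 : S7 := Equiv.swap 4 0 * Equiv.swap 0 1 * (Equiv.swap 5 2 * Equiv.swap 2 3)
/-- `(1 2 3)` -/
def r1 : S7 := Equiv.swap 1 2 * Equiv.swap 2 3

theorem r0_sign : sign r0 = 1 := by decide +kernel
theorem r1_sign : sign r1 = 1 := by decide +kernel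

theorem even_inv : ∀ i : Fin 4, ∀ j : Fin 2, el i j 0 * el i j 0 = 1 → el i j 0 ≠ 1 →
    ∃ m n : Fin 3, (r0 ^ m.val * r1 ^ n.val) * el i j 0 * (r0 ^ m.val * r1 ^ n.val)⁻¹ = ζ := by
  decide +kernel

theorem odd_inv : ∀ i : Fin 4, ∀ j : Fin 2, el i j 1 * el i j 1 = 1 →
    (Sw (el i j 1) ∧ ∃ m n : Fin 3, (r0 ^ m.val * r1 ^ n.val) * el i j 1 * (r0 ^ m.val * r1 ^ n.val)⁻¹ = τ) ∨
    (¬ Sw (el i j 1) ∧ ∃ m n : Fin 3,
      (r0 ^ m.val * r1 ^ n.val) * el i j 1 * (r0 ^ m.val * r1 ^ n.val)⁻¹ = ζ * τ) := by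
  decide +kernel

theorem sign_r (m n : Fin 3) : sign (r0 ^ m.val * r1 ^ n.val) = 1 := by
  rw [map_mul, map_pow, map_pow, r0_sign, r1_sign, one_pow, one_pow, one_mul]

theorem triple_cent : ∀ i : Fin 4, ∀ j k : Fin 2,
    (∀ i' : Fin 4, ∀ j' : Fin 2, el i j k * el i' j' 0 = el i' j' 0 * el i j k) → sign (el i j k) = -1 →
    ¬ Sw (el i j k) → el i j k = ζ * τ := by
  decide +kernel

theorem tau_sw : Sw τ := ⟨4, 5, by decide, rfl⟩

theorem zetatau_not_sw : ¬ Sw (ζ * τ) := by decide +kernel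

theorem off_tau_zeta : Off τ ζ := by
  unfold Off; decide +kernel

theorem Sw.conj {π : S7} (h : Sw π) (g : S7) : Sw (g * π * g⁻¹) := by
  obtain ⟨i, j, hij, rfl⟩ := h
  refine ⟨g i, g j, fun h => hij (g.injective h), ?_⟩
  rw [Equiv.mul_swap_eq_swap_mul, mul_assoc, mul_inv_cancel, mul_one]

theorem Sw.conj_iff {π : S7} (g : S7) : Sw (g * π * g⁻¹) ↔ Sw π := by
  refine ⟨fun h => ?_, fun h => h.conj g⟩
  have := h.conj g⁻¹
  have e : g⁻¹ * (g * π * g⁻¹) * g⁻¹⁻¹ = π := by group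
  rwa [e] at this

theorem Off.conj {a b : S7} (h : Off a b) (g : S7) : Off (g * a * g⁻¹) (g * b * g⁻¹) := by
  intro i hi
  have h1 : a (g⁻¹ i) ≠ g⁻¹ i := by
    intro h2
    apply hi
    rw [mul_apply, mul_apply, h2]; simp
  have h2 := h _ h1
  rw [mul_apply, mul_apply, h2]; simp

theorem Sw.sign {π : S7} (h : Sw π) : sign π = -1 := by
  obtain ⟨i, j, hij, rfl⟩ := h
  exact sign_swap hij

theorem Sw.ne_one {π : S7} (h : Sw π) : π ≠ 1 := by
  rintro rfl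
  have := h.sign
  rw [map_one] at this
  exact absurd this (by decide)

/-- a transposition times a nontrivial permutation of its fixed points is not a transposition -/
theorem not_sw_mul {a b : S7} (ha : Sw a) (hb : b ≠ 1) (hoff : Off a b) : ¬ Sw (a * b) := by
  rintro ⟨p, q, hpq, h⟩
  obtain ⟨i, j, hij, rfl⟩ := ha
  have h1 : b i = i := hoff i (by rw [Equiv.swap_apply_left]; exact hij.symm)
  have h2 : b j = j := hoff j (by rw [Equiv.swap_apply_right]; exact hij)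
  have h3 : Equiv.swap p q i = j := by rw [← h, mul_apply, h1, Equiv.swap_apply_left]
  have h4 : Equiv.swap p q = Equiv.swap i j := by
    rw [Equiv.swap_apply_def] at h3
    split_ifs at h3 with h5 h6
    · rw [h5, h3]
    · rw [h6, h3, Equiv.swap_comm]
    · exact absurd h3 hij
  rw [h4] at h
  exact hb (mul_left_cancel (h.trans (mul_one _).symm))

end Cfsg.Agent.GH.A7
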