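import Cfsg.Agent.GH.A7.Inner

/-!
# `A₇`, `|Q| = 2`: preimages in `T` of 2-subgroups of `S₇`
-/

set_option autoImplicit false

namespace Cfsg.Agent.GH.A7

open Subgroup Equiv.Perm
open Cfsg.Agent.GH.TOne
open Cfsg.Agent.GH.L2One.A7 (ρ γ ζ τ)

variable {G : Type*} [Group G] {X : Set G} {K : G → Subgroup G} {σ : G → G → S7}

/-! ### subgroups of `S₇` -/

/-- the subgroups `{el i j k | P i j}` -/
theorem mulP : ∀ i i' : Fin 4, ∀ j k j' k' : Fin 2, ∃ i'' : Fin 4, ∃ j'' : Fin 2,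
    (i''.val % 2 = (i.val + i'.val) % 2 ∧ (j''.val = (j.val + j'.val) % 2)) ∧
    el i j k * el i' j' k' = el i'' j'' (k + k') := by
  decide +kernel

theorem invP : ∀ i : Fin 4, ∀ j k : Fin 2, ∃ i' : Fin 4, ∃ j' : Fin 2,
    (i'.val % 2 = i.val % 2 ∧ j' = j) ∧ (el i j k)⁻¹ = el i' j' k := by
  decide +kernel

/-- a Sylow 2-subgroup of `S₇` -/
def S1 : Subgroup S7 where
  carrier := {a | ∃ i : Fin 4, ∃ j k : Fin 2, a = el i j k}
  one_mem' := ⟨0, 0, 0, el_zero.symm⟩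
  mul_mem' := by
    rintro a b ⟨i, j, k, rfl⟩ ⟨i', j', k', rfl⟩
    obtain ⟨i'', j'', -, h⟩ := mulP i i' j k j' k'
    exact ⟨i'', j'', _, h⟩
  inv_mem' := by
    rintro a ⟨i, j, k, rfl⟩
    obtain ⟨i', j', -, h⟩ := invP i j k
    exact ⟨i', j', k, h⟩

/-- `⟨(0 2), (1 3), (4 5)⟩` -/
def V1 : Subgroup S7 where
  carrier := {a | ∃ i : Fin 4, ∃ j k : Fin 2, i.val % 2 = 0 ∧ a = el i j k}
  one_mem' := ⟨0, 0, 0, rfl, el_zero.symm⟩
  mul_mem' := by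
    rintro a b ⟨i, j, k, hi, rfl⟩ ⟨i', j', k', hi', rfl⟩
    obtain ⟨i'', j'', ⟨h1, -⟩, h⟩ := mulP i i' j k j' k'
    exact ⟨i'', j'', _, by omega, h⟩
  inv_mem' := by
    rintro a ⟨i, j, k, hi, rfl⟩
    obtain ⟨i', j', ⟨h1, -⟩, h⟩ := invP i j k
    exact ⟨i', j', k, by omega, h⟩

/-- `⟨(0 2)(1 3), (0 3)(1 2), (4 5)⟩` -/
def V2 : Subgroup S7 where
  carrier := {a | ∃ i : Fin 4, ∃ j k : Fin 2, i.val % 2 = j.val ∧ a = el i j k}
  one_mem' := ⟨0, 0, 0, rfl, el_zero.symm⟩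
  mul_mem' := by
    rintro a b ⟨i, j, k, hi, rfl⟩ ⟨i', j', k', hi', rfl⟩
    obtain ⟨i'', j'', ⟨h1, h2⟩, h⟩ := mulP i i' j k j' k'
    exact ⟨i'', j'', _, by omega, h⟩
  inv_mem' := by
    rintro a ⟨i, j, k, hi, rfl⟩
    obtain ⟨i', j', ⟨h1, rfl⟩, h⟩ := invP i j k
    exact ⟨i', j', k, by omega, h⟩

theorem el_bij : Function.Injective (fun p : Fin 4 × Fin 2 × Fin 2 => el p.1 p.2.1 p.2.2) := by
  rintro ⟨i, j, k⟩ ⟨i', j', k'⟩ h
  obtain ⟨h1, h2, h3⟩ := el_inj i i' j k j' k' h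
  rw [h1, h2, h3]

theorem card_of_filter (V : Subgroup S7) (P : Fin 4 → Fin 2 → Prop) [∀ i j, Decidable (P i j)]
    (hV : ∀ a, a ∈ V ↔ ∃ i : Fin 4, ∃ j k : Fin 2, P i j ∧ a = el i j k) :
    Nat.card V = (Finset.univ.filter (fun p : Fin 4 × Fin 2 × Fin 2 => P p.1 p.2.1)).card := by
  have h1 : (V : Set S7) = ((Finset.univ.filter (fun p : Fin 4 × Fin 2 × Fin 2 => P p.1 p.2.1)).map
      ⟨_, el_bij⟩ : Finset S7) := by
    ext a
    simp only [SetLike.mem_coe, hV, Finset.coe_map, Function.Embedding.coeFn_mk, Set.mem_image,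
      Finset.coe_filter, Finset.mem_univ, true_and, Set.mem_ofPred_eq, Prod.exists]
    constructor
    · rintro ⟨i, j, k, h1, rfl⟩
      exact ⟨i, j, k, h1, rfl⟩
    · rintro ⟨i, j, k, h1, rfl⟩
      exact ⟨i, j, k, h1, rfl⟩
  have h2 : Nat.card V = (V : Set S7).ncard := rfl
  rw [h2, h1, Set.ncard_coe_finset, Finset.card_map]

theorem card_S1 : Nat.card S1 = 16 := by
  rw [card_of_filter S1 (fun _ _ => True) (by
    intro a
    constructor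
    · rintro ⟨i, j, k, h⟩; exact ⟨i, j, k, trivial, h⟩
    · rintro ⟨i, j, k, -, h⟩; exact ⟨i, j, k, h⟩)]
  rfl

theorem card_V1 : Nat.card V1 = 8 := by
  rw [card_of_filter V1 (fun i _ => i.val % 2 = 0) (fun a => Iff.rfl)]
  rfl

theorem card_V2 : Nat.card V2 = 8 := by
  rw [card_of_filter V2 (fun i j => i.val % 2 = j.val) (fun a => Iff.rfl)]
  rfl

theorem V1_le : V1 ≤ S1 := by
  rintro a ⟨i, j, k, -, h⟩
  exact ⟨i, j, k, h⟩

theorem V2_le : V2 ≤ S1 := by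
  rintro a ⟨i, j, k, -, h⟩
  exact ⟨i, j, k, h⟩

theorem r0_V1 : ∀ i : Fin 4, ∀ j k : Fin 2, i.val % 2 = 0 →
    (∃ i' : Fin 4, ∃ j' k' : Fin 2, i'.val % 2 = 0 ∧ r0 * el i j k * r0⁻¹ = el i' j' k') ∧
    ∃ i' : Fin 4, ∃ j' : Fin 2, r0 * el i j k * r0⁻¹ * (el i j k)⁻¹ = el i' j' 0 := by
  decide +kernel

theorem r1_V2 : ∀ i : Fin 4, ∀ j k : Fin 2, i.val % 2 = j.val →
    (∃ i' : Fin 4, ∃ j' k' : Fin 2, i'.val % 2 = j'.val ∧ r1 * el i j k * r1⁻¹ = el i' j' k') ∧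
    ∃ i' : Fin 4, ∃ j' : Fin 2, r1 * el i j k * r1⁻¹ * (el i j k)⁻¹ = el i' j' 0 := by
  decide +kernel

/-! ### preimages -/

namespace Fr

variable {y : G} {T : Subgroup G} {φ : G → S7}

/-- the preimage of `V` in `T` -/
def pre (F : Fr X K σ y T φ) (h : Sys X K σ) (V : Subgroup S7) : Subgroup G where
  carrier := {x | x ∈ T ∧ φ x ∈ V}
  one_mem' := ⟨one_mem _, by rw [F.one h]; exact one_mem _⟩
  mul_mem' := by
    rintro a b ⟨ha, ha'⟩ ⟨hb, hb'⟩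
    exact ⟨mul_mem ha hb, by rw [F.mul h (F.syl.cent a ha) (F.syl.cent b hb)]; exact mul_mem ha' hb'⟩
  inv_mem' := by
    rintro a ⟨ha, ha'⟩
    exact ⟨inv_mem ha, by rw [F.inv' h (F.syl.cent a ha)]; exact inv_mem ha'⟩

variable (F : Fr X K σ y T φ) (h : Sys X K σ)

theorem mem_pre {V : Subgroup S7} {x : G} : x ∈ F.pre h V ↔ x ∈ T ∧ φ x ∈ V := Iff.rfl

include F h

theorem card_pre [Finite G] {V : Subgroup S7} (hV : ∀ v ∈ V, ∃ a ∈ T, φ a = v) :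
    Nat.card (F.pre h V) = 2 * Nat.card V := by
  let f : F.pre h V →* S7 :=
    { toFun := fun a => φ a
      map_one' := F.one h
      map_mul' := fun a b => F.mul h (F.syl.cent a a.2.1) (F.syl.cent b b.2.1) }
  have hf : ∀ a : F.pre h V, f a = φ a := fun a => rfl
  have hy : y ∈ F.pre h V := ⟨F.y_mem h, by rw [F.phi_y h]; exact one_mem _⟩
  have h1 : f.range = V := by
    ext v
    constructor
    · rintro ⟨a, rfl⟩
      exact a.2.2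
    · intro hv
      obtain ⟨a, ha, hav⟩ := hV v hv
      exact ⟨⟨a, ha, by rw [hav]; exact hv⟩, hav⟩
  have h2 : f.ker = zpowers (⟨y, hy⟩ : F.pre h V) := by
    ext a
    rw [MonoidHom.mem_ker]
    constructor
    · intro ha
      rcases F.inj h a.2.1 ha with h3 | h3
      · have : a = 1 := Subtype.ext h3
        rw [this]; exact one_mem _
      · have : a = ⟨y, hy⟩ := Subtype.ext h3
        rw [this]; exact mem_zpowers _
    · intro ha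
      have h3 : zpowers (⟨y, hy⟩ : F.pre h V) ≤ f.ker := by
        rw [zpowers_le, MonoidHom.mem_ker]
        exact F.phi_y h
      exact h3 ha
  have h3 : Nat.card f.ker = 2 := by
    rw [h2, Nat.card_zpowers, ← Subgroup.orderOf_coe]
    change orderOf y = 2
    have hyi := h.inv y F.mem
    exact orderOf_eq_prime (by rw [pow_two]; exact hyi.sq) hyi.ne
  have h4 := Subgroup.card_mul_index f.ker
  rw [index_ker, h1, h3] at h4
  exact h4.symm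

/-- all elements of `S1` are images, given `w ∈ T` with `φ w = τ` -/
theorem surj {w : G} (hw : w ∈ T) (hwφ : φ w = τ) : ∀ v ∈ S1, ∃ a ∈ T, φ a = v := by
  rintro v ⟨i, j, k, rfl⟩
  obtain ⟨d, hd, -, hdφ⟩ := F.ex i j
  fin_cases k
  · exact ⟨d, hd, hdφ⟩
  · refine ⟨d * w, mul_mem hd hw, ?_⟩
    rw [F.mul h (F.syl.cent d hd) (F.syl.cent w hw), hdφ, hwφ]
    exact el_one i j

theorem card_T [Finite G] {w : G} (hw : w ∈ T) (hwφ : φ w = τ) : Nat.card T = 32 := by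
  have h1 : F.pre h S1 = T := by
    ext a
    rw [mem_pre]
    exact ⟨fun ha => ha.1, fun ha => ⟨ha, F.form a ha⟩⟩
  rw [← h1, F.card_pre h (F.surj h hw hwφ), card_S1]

theorem card_pre1 [Finite G] {w : G} (hw : w ∈ T) (hwφ : φ w = τ) : Nat.card (F.pre h V1) = 16 := by
  rw [F.card_pre h (fun v hv => F.surj h hw hwφ v (V1_le hv)), card_V1]

theorem card_pre2 [Finite G] {w : G} (hw : w ∈ T) (hwφ : φ w = τ) : Nat.card (F.pre h V2) = 16 := by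
  rw [F.card_pre h (fun v hv => F.surj h hw hwφ v (V2_le hv)), card_V2]

theorem norm_pre [Finite G] {V : Subgroup S7} {r : S7} (hs : sign r = 1)
    (hr : ∀ v ∈ V, r * v * r⁻¹ ∈ V ∧ ∃ i : Fin 4, ∃ j : Fin 2, r * v * r⁻¹ * v⁻¹ = el i j 0) :
    ∃ k ∈ K y, φ k = r ∧ ∀ a ∈ T, φ a ∈ V → ∀ a' ∈ T, r * φ a * r⁻¹ = φ a' → a' * a⁻¹ ∈ K y →
      k * a * k⁻¹ = a' := by
  obtain ⟨k, hk, hkr, -, hkk⟩ := F.norm h (A := F.pre h V) (fun a ha => ha.1) hs (by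
    rintro a ⟨ha, haV⟩
    obtain ⟨h1, i, j, h2⟩ := hr _ haV
    obtain ⟨d, hd, hdK, hdφ⟩ := F.ex i j
    have h3 : φ (d * a) = r * φ a * r⁻¹ := by
      rw [F.mul h (F.syl.cent d hd) (F.syl.cent a ha), hdφ, ← h2]
      group
    refine ⟨d * a, ⟨mul_mem hd ha, by rw [h3]; exact h1⟩, h3.symm, ?_⟩
    rw [mul_inv_cancel_right]
    exact hdK)
  refine ⟨k, hk, hkr, fun a ha haV a' ha' h1 h2 => hkk a ⟨ha, haV⟩ a' ⟨ha', ?_⟩ h1 h2⟩
  rw [← h1]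
  exact (hr _ haV).1

theorem norm1 [Finite G] : ∃ k ∈ K y, φ k = r0 ∧ ∀ a ∈ T, φ a ∈ V1 → ∀ a' ∈ T, r0 * φ a * r0⁻¹ = φ a' →
    a' * a⁻¹ ∈ K y → k * a * k⁻¹ = a' := by
  apply F.norm_pre h r0_sign
  rintro v ⟨i, j, k, hi, rfl⟩
  exact r0_V1 i j k hi

theorem norm2 [Finite G] : ∃ k ∈ K y, φ k = r1 ∧ ∀ a ∈ T, φ a ∈ V2 → ∀ a' ∈ T, r1 * φ a * r1⁻¹ = φ a' →
    a' * a⁻¹ ∈ K y → k * a * k⁻¹ = a' := by
  apply F.norm_pre h r1_sign
  rintro v ⟨i, j, k, hi, rfl⟩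
  exact r1_V2 i j k hi

end Fr

end Cfsg.Agent.GH.A7
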