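import Cfsg.Agent.GH.TOne.Basic

/-!
# GH-L2, `K / O(K) = A₇`, `|Q| = 2`: the abstract system

`X` is a conjugation invariant set of involutions `y`, `K y` is a normal subgroup of `C(y)` with
`K y / O(K y) = A₇`, and `σ y : C(y) → S₇ = Aut(A₇)` is the action of `C(y)` on it. The 2-elements of `C(y)` acting
trivially are `1` and `y` (`|Q_y| = 2`).
-/

set_option autoImplicit false

namespace Cfsg.Agent.GH.A7

open Subgroup
open Cfsg.Agent.GH.TOne

abbrev S7 := Equiv.Perm (Fin 7)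

/-- transpositions -/
def Sw (π : S7) : Prop := ∃ i j : Fin 7, i ≠ j ∧ π = Equiv.swap i j

/-- `b` fixes the points moved by `a`. -/
def Off (a b : S7) : Prop := ∀ i : Fin 7, a i ≠ i → b i = i

variable {G : Type*} [Group G]

/-- The abstract system (see the header). -/
structure Sys (X : Set G) (K : G → Subgroup G) (σ : G → G → S7) : Prop where
  inv : ∀ y ∈ X, Inv y
  conj : ∀ y ∈ X, ∀ g : G, g * y * g⁻¹ ∈ X
  conjK : ∀ y ∈ X, ∀ g : G, ∀ k ∈ K y, g * k * g⁻¹ ∈ K (g * y * g⁻¹)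
  centK : ∀ y ∈ X, ∀ k ∈ K y, k * y = y * k
  /-- `σ y` is a homomorphism on `C(y)` -/
  mul : ∀ y ∈ X, ∀ a b : G, a * y = y * a → b * y = y * b → σ y (a * b) = σ y a * σ y b
  self : ∀ y ∈ X, σ y y = 1
  conjS : ∀ y ∈ X, ∀ g : G, ∃ π : S7, ∀ a : G, a * y = y * a → σ (g * y * g⁻¹) (g * a * g⁻¹) = π * σ y a * π⁻¹
  even : ∀ y ∈ X, ∀ k ∈ K y, Equiv.Perm.sign (σ y k) = 1
  onto : ∀ y ∈ X, ∀ π : S7, Equiv.Perm.sign π = 1 → ∃ k ∈ K y, σ y k = π
  /-- the kernel of `K y → A₇` has odd order -/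
  eqK : ∀ y ∈ X, ∀ k ∈ K y, σ y k = 1 → IsPGroup 2 (zpowers k) → k = 1
  /-- `Q_y = ⟨y⟩` -/
  eqQ : ∀ y ∈ X, ∀ a : G, a * y = y * a → σ y a = 1 → IsPGroup 2 (zpowers a) → a = 1 ∨ a = y
  /-- (J): transpositions are symmetric -/
  transp : ∀ y ∈ X, ∀ t ∈ X, t * y = y * t → Sw (σ y t) → Sw (σ t y)
  /-- (J): the 2-elements of the `A₅` on the fixed points of the transposition -/
  share : ∀ y ∈ X, ∀ t ∈ X, t * y = y * t → Sw (σ y t) → ∀ k ∈ K y, k * t = t * k → IsPGroup 2 (zpowers k) →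
    Off (σ y t) (σ y k) → k ∈ K t ∧ Off (σ t y) (σ t k)
  /-- (JP): if `w ∉ X` acts as a transposition on `K y` and on `K t`, then `y` and `t` fix the 2-component of `C(w)`;
  this excludes `y * t ∈ K y` on the fixed points of `w` -/
  outside : ∀ y ∈ X, ∀ t ∈ X, t ≠ y → t * y = y * t → ∀ w : G, w ∉ X → Inv w → w * y = y * w → w * t = t * w →
    Sw (σ y w) → Sw (σ t w) → y * t ∈ K y → y * t ∈ K t → Off (σ y w) (σ y (y * t)) →
    Off (σ t w) (σ t (y * t)) → False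

/-- `CC = y^G` contains no inner pair. -/
def NoInner (σ : G → G → S7) (C : Set G) : Prop :=
  ∀ y ∈ C, ∀ t ∈ C, t * y = y * t → t ≠ y → Equiv.Perm.sign (σ y t) = -1

end Cfsg.Agent.GH.A7
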