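import Cfsg.Agent.GH.C2SylPerm

/-!
# GH-L2, `K / O(K) = A₇`: recognising `2 wr D₈ = D₈ wr 2`

Variant of `C2Syl.isType_W8` in which the transposition is induced by a given involution.
-/

set_option autoImplicit false

namespace Cfsg.Agent.GH.A7.WrType

open Subgroup Cfsg.Agent.GH.Pc Cfsg.Agent.GH.PcTypes Cfsg.Agent.GH.C2Syl Cfsg.Agent.GH.C2Syl.PB

variable {X : Type*} [Group X] {V : Subgroup X}

/-- `2 wr D₈`, with a given involution `t` inducing a transposition. -/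
theorem isType_W8_of_inv (hV : El V) {e : Fin 4 → X} (h : PB V e)
    (hC : ∀ g : X, (∀ i, g * e i * g⁻¹ = e i) → g ∈ V) {t a₀ : X} (htt : t * t = 1)
    (ht : ∀ i, t * e i * t⁻¹ = e (τt i)) (ha₀ : ∀ i, a₀ * e i * a₀⁻¹ = e (τa i))
    {T : Subgroup X} (hT : Nat.card T = 128) (hVT : V ≤ T) (htT' : t ∈ T) (haT : a₀ ∈ T)
    (hcov : ∀ g ∈ T, ∃ k ∈ closure ({t, a₀} : Set X), k⁻¹ * g ∈ V) : IsType W8 T := by
  obtain ⟨v', hv', haa, ha⟩ := exists_invol_act hV h hC good_a (by decide) free_a ha₀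
  have haT' : v' * a₀ ∈ T := T.mul_mem (hVT hv') haT
  have ea : a₀ = v'⁻¹ * (v' * a₀) := by group
  generalize v' * a₀ = a at haa ha haT' ea
  have ha' : a⁻¹ = a := inv_eq_of_mul_eq_one_left haa
  -- `b = t a t⁻¹`
  have key : ∀ t : X, t * t = 1 → (∀ i, t * e i * t⁻¹ = e (τt i)) →
      (t * a * t⁻¹) * (t * a * t⁻¹) = 1 ∧ (∀ i, (t * a * t⁻¹) * e i * (t * a * t⁻¹)⁻¹ = e (τc i)) ∧
      ((a * (t * a * t⁻¹)) * (a * (t * a * t⁻¹)) = 1 ∨
        (a * (t * a * t⁻¹)) * (a * (t * a * t⁻¹)) = pt e fun _ => 1) := by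
    intro t htt ht
    have ht' : t⁻¹ = t := inv_eq_of_mul_eq_one_left htt
    have hbb : (t * a * t⁻¹) * (t * a * t⁻¹) = 1 := by
      have h1 : (t * a * t⁻¹) * (t * a * t⁻¹) = t * (a * a) * t⁻¹ := by group
      rw [h1, haa]; group
    have hb : ∀ i, (t * a * t⁻¹) * e i * (t * a * t⁻¹)⁻¹ = e (τc i) := by
      intro i
      rw [ht', act_mul (act_mul ht ha) ht]
      congr 1
      revert i
      decide
    refine ⟨hbb, hb, ?_⟩
    have hcomm : a * (t * a * t⁻¹) * a⁻¹ * (t * a * t⁻¹)⁻¹ ∈ V := by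
      generalize t * a * t⁻¹ = b at hbb hb
      have h1 : ∀ i, (a * b) * e i * (a * b)⁻¹ = e ((τa ∘ τc) i) := fun i => act_mul ha hb i
      have h2 : ∀ i, (b * a) * e i * (b * a)⁻¹ = e ((τa ∘ τc) i) := by
        intro i
        rw [act_mul hb ha]
        congr 1
        revert i
        decide
      have h3 := hV.conj (b * a) (mem_of_act hC h2 h1)
      have h4 : b * a * ((b * a)⁻¹ * (a * b)) * (b * a)⁻¹ = a * b * a⁻¹ * b⁻¹ := by group
      rwa [h4] at h3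
    obtain ⟨h1, h2, h3⟩ := sq_fix hV haa hbb hcomm
    exact pt_ones_or hV h good_a good_c ha hb (by decide) h1 h2 h3
  obtain ⟨c, hc, hcT, hcc, hcact, hac⟩ : ∃ c : X, t * c⁻¹ ∈ V ∧ c ∈ T ∧ c * c = 1 ∧
      (∀ i, c * e i * c⁻¹ = e (τt i)) ∧ (a * (c * a * c⁻¹)) * (a * (c * a * c⁻¹)) = 1 := by
    obtain ⟨h1, h2, h3⟩ := key t htt ht
    rcases h3 with h4 | h4
    · exact ⟨t, by simp, htT', htt, ht, h4⟩
    · have ht' : t⁻¹ = t := inv_eq_of_mul_eq_one_left htt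
      have te0 : t * e 0 = e 0 * t := cjw (ht 0)
      have e00 : e 0 * e 0 = 1 := hV.sq _ (h.mem 0)
      have e0i : (e 0)⁻¹ = e 0 := inv_eq_of_mul_eq_one_left e00
      refine ⟨e 0 * t, ?_, T.mul_mem (hVT (h.mem 0)) htT', ?_, act_V hV h (h.mem 0) ht, ?_⟩
      · rw [mul_inv_rev, mul_inv_cancel_left]
        exact V.inv_mem (h.mem 0)
      · have h5 : e 0 * t * (e 0 * t) = e 0 * (t * e 0) * t := by group
        rw [h5, te0]
        have h6 : e 0 * (e 0 * t) * t = (e 0 * e 0) * (t * t) := by group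
        rw [h6, e00, htt, one_mul]
      · set m := pt e ![1, 0, 0, 1] with hm
        have h5 : e 0 * t * a * (e 0 * t)⁻¹ = m * (t * a * t⁻¹) := by
          have h6 : e 0 * t * a * (e 0 * t)⁻¹ =
              e 0 * ((t * a * t⁻¹) * (e 0) * (t * a * t⁻¹)⁻¹)⁻¹ * (t * a * t⁻¹) := by group
          rw [h6, h2]
          congr 1
          rw [hV.inv (h.mem _), hm]
          simp [pt, τc, ZMod.val_one]
        rw [h5, sq_twist, h4, hm, pt_conj hV h good_a ha, pt_conj hV h good_c h2,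
          pt_conj hV h good_a ha, ← pt_add hV h, ← pt_add hV h]
        rw [show ((![1, 0, 0, 1] : Fin 4 → ZMod 2) ∘ τa + (((![1, 0, 0, 1] : Fin 4 → ZMod 2) ∘ τa) ∘ τc) ∘ τa
          + fun _ => 1) = 0 by decide]
        exact pt_zero
  obtain ⟨hbb, hb, -⟩ := key c hcc hcact
  have hc' : c⁻¹ = c := inv_eq_of_mul_eq_one_left hcc
  have hca : c * a = (c * a * c⁻¹) * c := by group
  have hcb : c * (c * a * c⁻¹) = a * c := by
    have h1 : c * (c * a * c⁻¹) = (c * c) * a * c⁻¹ := by group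
    rw [h1, hcc, one_mul, hc']
  have hbT' : c * a * c⁻¹ ∈ T := T.mul_mem (T.mul_mem hcT haT') (T.inv_mem hcT)
  generalize c * a * c⁻¹ = b at hac hbb hb hca hcb hbT'
  have hb' : b⁻¹ = b := inv_eq_of_mul_eq_one_left hbb
  have hab : a * b = b * a := by
    have h5 : a * b = (a * b)⁻¹ := (inv_eq_of_mul_eq_one_left hac).symm
    rw [mul_inv_rev, ha', hb'] at h5
    exact h5
  have sat : Sat W8 ![c, a, b, e 0, e 1, e 2, e 3] :=
    sat_W8 hcc haa hbb hab (hV.sq _ (h.mem _)) (hV.sq _ (h.mem _)) (hV.sq _ (h.mem _))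
      (hV.sq _ (h.mem _)) (hV.comm (h.mem _) (h.mem _)) (hV.comm (h.mem _) (h.mem _))
      (hV.comm (h.mem _) (h.mem _)) (hV.comm (h.mem _) (h.mem _)) (hV.comm (h.mem _) (h.mem _))
      (hV.comm (h.mem _) (h.mem _)) (cjw (ha 0)) (cjw (ha 1)) (cjw (ha 2)) (cjw (ha 3))
      (cjw (hb 0)) (cjw (hb 1)) (cjw (hb 2)) (cjw (hb 3)) hca hcb
      (cjw (hcact 0)) (cjw (hcact 1)) (cjw (hcact 2)) (cjw (hcact 3))
  refine isType_of_closure sat T ?_ (by rw [hT]; norm_num)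
  have hmem : ∀ i, (![c, a, b, e 0, e 1, e 2, e 3] : Fin 7 → X) i ∈
      closure (Set.range ![c, a, b, e 0, e 1, e 2, e 3]) := fun i => subset_closure ⟨i, rfl⟩
  set K := closure (Set.range ![c, a, b, e 0, e 1, e 2, e 3]) with hK
  have k0 : c ∈ K := hmem 0
  have k1 : a ∈ K := hmem 1
  have hVK : V ≤ K := h.gen.trans (by
    rw [closure_le]
    rintro _ ⟨i, rfl⟩
    fin_cases i
    · exact hmem 3
    · exact hmem 4
    · exact hmem 5
    · exact hmem 6)
  apply closure_eq_of_cover (V := V) _ hVK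
  · intro g hg
    obtain ⟨k', hk, h1⟩ := hcov g hg
    refine ⟨k', ?_, h1⟩
    have h2 : closure ({t, a₀} : Set X) ≤ K := by
      rw [closure_le]
      rintro y (rfl | rfl)
      · have h3 := K.mul_mem (hVK hc) k0
        rwa [inv_mul_cancel_right] at h3
      · rw [ea]; exact K.mul_mem (K.inv_mem (hVK hv')) k1
    exact h2 hk
  · intro i
    fin_cases i
    · exact hcT
    · exact haT'
    · exact hbT'
    · exact hVT (h.mem _)
    · exact hVT (h.mem _)
    · exact hVT (h.mem _)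
    · exact hVT (h.mem _)

end Cfsg.Agent.GH.A7.WrType
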